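import Cfsg.Agent.Lib.CosetEnum.LyP.Mult.Data

/-! Checks of the derivations in the central extension. -/

set_option autoImplicit false
set_option maxRecDepth 100000
set_option Elab.async false

namespace Cfsg.Agent.Lib.CosetEnum.LyP.Mult

open Cfsg.Agent.Lib.CosetEnum Cfsg.Agent.Lib.CosetEnum.LyP

theorem vDerivs_ok : checkAll Dce.kData vPats vPos vTree vDerivs [] = true := by decide +kernel

/-- A row is an equation of a node with itself at one coset. -/
noncomputable def rowsOK : Bool :=
  vRows.all fun n =>
    match (vDerivs.map Prod.fst)[n]? with
    | none => false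
    | some x => !x.f.e && Nat.beq x.f.i x.f.j && Dce.wordEq x.f.w x.f.v

theorem rows_ok : rowsOK = true := by decide +kernel

/-- The combination of the rows for one unit vector. -/
def combVec (k : ℕ) : List ℤ :=
  (List.range NV).map fun j => ((List.range vRows.length).map fun r =>
    (vComb.getD k []).getD r 0 *
      (((vDerivs.map Prod.fst)[vRows.getD r 0]?.map VFact.a).getD []).getD j 0).sum

theorem comb_ok : ((List.range NV).all fun k => (List.range NV).all fun j =>
    decide ((combVec k).getD j 0 =
      (bif Nat.beq j k then 1 else 0) - vWeight.getD k 0 * vGauge.getD j 0)) = true := by decide +kernel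

theorem vPos_lt : ∀ p, vPos.getD p 0 < NV := by
  intro p
  rcases lt_or_ge p vPos.length with h | h
  · rw [List.getD_eq_getElem _ _ h]
    have : ∀ x ∈ vPos, x < NV := by decide +kernel
    exact this _ (List.getElem_mem h)
  · rw [List.getD_eq_default _ _ h]
    decide

end Cfsg.Agent.Lib.CosetEnum.LyP.Mult
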