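import Cfsg.Agent.Lib.CosetEnum.LyP.Mult.Volt
import Cfsg.Agent.Lib.CosetEnum.LyP.Dce.Data.Pats

/-! Derivations in a central extension of the presented Lyons group (generated by scripts/ly/genvolt.py) -/

set_option autoImplicit false
set_option maxRecDepth 100000
set_option Elab.async false

namespace Cfsg.Agent.Lib.CosetEnum.LyP.Mult

open Cfsg.Agent.Lib.CosetEnum Cfsg.Agent.Lib.CosetEnum.LyP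

/-- The rotations used. -/
def vPatUsed : List (ℕ × ℕ) := [(0, 2), (1, 1), (1, 4), (1, 5), (2, 0), (2, 2), (2, 4), (3, 0), (3, 1), (3, 2), (3, 3), (3, 5), (3, 7), (4, 0), (4, 1), (4, 2), (4, 3), (4, 5), (4, 7), (5, 3), (5, 5), (5, 7)]

/-- The relations used. -/
def vPats : List (List (Option (List ℕ))) :=
  vPatUsed.map fun q => (Dce.basePats.getD q.1 []).rotate q.2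

/-- The position of the value of each relation. -/
def vPos : List ℕ := vPatUsed.map fun q => 8 + q.1

/-- The tree of nodes. -/
def vTree : List (ℕ × List ℕ) := [(0, []), (1, [6, 0, 0, 0, 0, 3]), (2, [1, 5, 1, 5, 6, 0, 0, 0, 0]), (2, [4, 2, 5, 6, 0, 0, 0, 0, 2])]

/-- The derived equations. -/
def vDerivs : List (VFact × Dce.Deriv) :=
  [(⟨⟨0, [0], false, 0, []⟩, [0, 0, 0, 0, 0, 0, 0, 0, 0, 0, 0, 0, 0, 0]⟩, .base)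
  , (⟨⟨0, [2], false, 0, []⟩, [0, 0, 0, 0, 0, 0, 0, 0, 0, 0, 0, 0, 0, 0]⟩, .base)
  , (⟨⟨0, [4], false, 0, []⟩, [0, 0, 0, 0, 0, 0, 0, 0, 0, 0, 0, 0, 0, 0]⟩, .base)
  , (⟨⟨0, [6], false, 0, []⟩, [0, 0, 0, 0, 0, 0, 0, 0, 0, 0, 0, 0, 0, 0]⟩, .base)
  , (⟨⟨0, [], true, 1, []⟩, [0, 0, 0, 0, 0, 0, 0, 0, 0, 0, 0, 0, 0, 0]⟩, .tree)
  , (⟨⟨1, [], true, 0, [0, 0]⟩, [0, 0, 0, 0, 0, 0, 0, 0, 1, 0, 0, 0, 0, 0]⟩, .scan 0 0 [0, 0] [.tok, .step 4 []])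
  , (⟨⟨1, [1, 1, 5, 2, 5, 5, 2, 1, 3, 3, 4], false, 1, []⟩, [(-1), 1, 0, 0, 1, 0, 0, (-1), 0, 0, 0, 0, 0, 0]⟩, .cmp 0 [] [.stab 1 true [3], .stab 1 true [3, 3], .stab 3 true [6, 0, 0, 0, 0, 3, 3], .stab 2 true [5, 6, 0, 0, 0, 0, 3, 3], .stab 1 true [3, 5, 6, 0, 0, 0, 0, 3, 3], .stab 0 true [1, 3, 5, 6, 0, 0, 0, 0, 3, 3], .stab 1 true [3, 1, 3, 5, 6, 0, 0, 0, 0, 3, 3], .stab 1 true [1, 3, 1, 2, 4, 6, 0, 2, 1, 3, 3, 1], .stab 1 true [2, 2, 1, 3, 5, 6, 0, 0, 0, 0, 3, 3], .stab 2 true [7, 4, 6, 3, 4, 6, 5, 0, 3, 5, 5, 0, 2, 2, 0, 2], .stab 1 true [5, 7, 2, 5, 3, 4, 6, 0, 0, 5, 3, 4, 3, 0, 2, 2], .stab 3 false [3, 4, 6, 3, 4, 6, 5, 0, 3, 5, 5, 0, 2, 2, 0, 2], .stab 2 false [4, 3, 4, 6, 3, 4, 6, 5, 0, 3, 5, 5, 0,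 2, 2, 0, 2], .stab 2 false [3, 5, 7, 3, 4, 6, 3, 5, 3, 3, 0, 4, 3, 3, 4], .stab 1 false [5, 7, 3, 4, 6, 3, 5, 3, 3, 0, 4, 3, 3, 4], .stab 2 false [7, 3, 4, 6, 3, 5, 3, 3, 0, 4, 3, 3, 4], .stab 1 false [7, 4, 6, 3, 5, 3, 3, 0, 4, 3, 3, 4], .stab 0 false [6, 1, 4, 6, 3, 5, 3, 3, 0, 4, 3, 3, 4], .stab 3 false [1, 5, 6, 2, 2, 5, 1, 5, 1, 1, 3, 4, 3, 5], .stab 0 false [5, 6, 2, 2, 5, 1, 5, 1, 1, 3, 4, 3, 5], .stab 2 false [6, 2, 2, 5, 1, 5, 1, 1, 3, 4, 3, 5], .stab 3 false [3, 5, 3, 3, 0, 4, 3, 3, 4], .step 4 [0, 3, 9, 14]] [.step 4 []])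
  , (⟨⟨1, [0, 0], false, 1, []⟩, [0, 0, 0, 0, 0, (-2), 0, 0, 0, 0, 0, 0, 0, 0]⟩, .cmp 0 [] [.stab 1 true [3], .stab 1 true [3, 3], .stab 1 true [2, 2], .stab 3 true [6, 0, 0, 0, 0, 2, 2], .stab 2 true [5, 6, 0, 0, 0, 0, 2, 2], .stab 2 true [5, 5, 6, 0, 0, 0, 0, 2, 2], .stab 0 true [0, 5, 6, 1, 1, 2, 2], .stab 2 true [5, 0, 5, 6, 1, 1, 2, 2], .stab 2 true [5, 5, 0, 5, 6, 1, 1, 2, 2], .stab 2 true [4, 4, 0, 5, 6, 1, 1, 2, 2], .stab 3 false [7, 5, 5, 0, 4, 6, 0, 0, 2, 2], .stab 3 false [5, 5, 0, 4, 6, 0, 0, 2, 2], .stab 2 false [5, 0, 4, 6, 0, 0, 2, 2], .stab 2 false [0, 4, 6, 0, 0, 2, 2], .stab 0 false [4, 4, 6, 2, 2], .stab 0 false [1, 5, 6, 1, 1, 2, 2], .stab 0 false [5, 6, 1, 1, 2, 2], .stab 2 false [6, 1,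 1, 2, 2], .stab 3 false [0, 0, 2, 2], .stab 1 false [0, 0, 3, 3], .stab 1 false [0, 0, 3], .stab 1 false [0, 0], .step 4 [10, 10]] [.step 4 []])
  , (⟨⟨1, [3, 5, 2, 5, 1, 5, 5, 1], false, 1, []⟩, [2, 0, 0, 0, (-1), 0, 2, 0, 0, 0, 0, 0, 0, 0]⟩, .cmp 0 [] [.stab 1 true [3], .stab 1 true [3, 3], .stab 3 true [6, 0, 0, 0, 0, 3, 3], .stab 2 true [5, 6, 0, 0, 0, 0, 3, 3], .stab 0 true [1, 5, 6, 0, 0, 0, 0, 3, 3], .stab 0 true [4, 4, 6, 1, 1, 3, 3], .stab 0 true [0, 4, 6, 3, 3], .stab 2 true [5, 0, 4, 6, 3, 3], .stab 3 true [7, 5, 0, 4, 6, 3, 3], .stab 0 true [6, 0, 5, 0, 4, 6, 3, 3], .stab 2 true [0, 5, 2, 0, 5, 6, 1, 3, 3, 5, 0, 3, 0, 2, 0, 2, 4], .stab 1 true [3, 0, 5, 2, 0, 5, 6, 1, 3, 3, 5, 0, 3, 0, 2, 0, 2, 4],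 .stab 0 false [1, 3, 1, 4, 2, 0, 4, 6, 1, 3, 3, 4, 0, 3, 1, 2, 1, 2, 4], .stab 2 false [0, 5, 2, 4, 3, 4, 6, 0, 3, 3, 0, 5, 0, 3, 0, 2, 4], .stab 3 false [1, 4, 0, 4, 1, 5, 6, 0, 4, 2, 0, 4, 4, 0, 3, 0], .stab 2 false [0, 5, 0, 4, 1, 4, 6, 1, 5, 2, 1, 4, 0, 3, 1], .stab 0 false [5, 5, 1, 5, 1, 5, 6, 3, 4, 0, 3, 5, 2, 0, 2], .stab 2 false [5, 1, 5, 1, 5, 6, 3, 4, 0, 3, 5, 2, 0, 2], .stab 2 false [1, 5, 1, 5, 6, 3, 4, 0, 3, 5, 2, 0, 2], .stab 0 false [5, 1, 5, 6, 3, 4, 0, 3, 5, 2, 0, 2], .stab 2 false [1, 5, 6, 3, 4, 0, 3, 5, 2, 0, 2], .stab 0 false [5, 6, 3, 4, 0, 3, 5, 2, 0, 2], .stab 2 false [6, 3, 4, 0, 3, 5, 2, 0, 2], .stab 3 false [1, 5, 2, 1, 4, 0, 3, 1], .step 4 [1, 8, 13, 1, 13]] [.step 4 []])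
  , (⟨⟨1, [3, 0, 2, 0, 3, 3], true, 1, [1, 1, 2]⟩, [0, 0, 0, 0, 0, 0, 0, 0, (-1), 1, 0, 0, 0, 0]⟩, .scan 2 1 [1, 1, 2] [.tok, .step 5 [10, 12, 14], .tok, .tok, .stab 0 false [0, 2], .stab 1 false [2, 0, 2], .stab 1 false [2, 2, 0, 2], .stab 1 false [3, 3, 0, 2], .step 4 [15, 13, 11], .tok])
  , (⟨⟨1, [7, 0, 3, 4, 3, 0, 4, 6, 0, 5, 1, 3, 4, 1, 5, 2, 0, 3], true, 1, [7, 0, 3, 4, 3, 0, 4, 6, 0, 0, 0, 5, 2, 0, 4, 2, 4]⟩, [0, 0, 1, 2, 0, 0, 0, 1, (-1), 0, 1, 0, 0, 0]⟩, .scan 6 1 [7, 0, 3, 4, 3, 0, 4, 6, 0, 0, 0, 5, 2, 0, 4, 2, 4] [.tok, .step 5 [5, 14, 11, 7, 15], .tok, .stab 3 false [4, 3, 0, 4, 6, 3, 0, 3, 1], .stab 2 false [5, 0, 2, 5, 6, 0, 0, 0, 0], .stab 3 false [4, 4, 6, 4, 6, 0, 2, 4, 0, 3, 0, 3, 3, 4], .stab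 2 false [7, 3, 0, 4, 6, 0, 3, 0, 2, 0, 3, 3, 5, 3, 0], .stab 1 false [7, 0, 4, 6, 0, 3, 0, 2, 0, 3, 3, 5, 3, 0], .stab 0 false [6, 4, 6, 0, 3, 0, 2, 0, 3, 3, 5, 3, 0], .stab 3 false [5, 6, 0, 3, 1, 2, 1, 3, 3, 5, 3, 0], .stab 2 false [6, 0, 3, 1, 2, 1, 3, 3, 5, 3, 0], .stab 3 false [0, 3, 0, 2, 0, 3, 3, 5, 3, 0], .step 4 [10, 12, 11, 15, 13, 7, 10], .tok])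
  , (⟨⟨1, [7, 0, 3, 4, 3, 0, 4, 6, 0, 0, 0, 5, 2, 0, 4, 2, 4], true, 1, [7, 0, 3, 4, 3, 0, 4, 6, 4, 3, 0, 3, 3, 4, 3, 3, 0, 3]⟩, [0, 0, (-1), (-2), 0, 0, 0, (-1), 2, 0, (-1), 0, 0, 0]⟩, .scan 0 1 [7, 0, 3, 4, 3, 0, 4, 6, 4, 3, 0, 3, 3, 4, 3, 3, 0, 3] [.tok, .step 10 []])
  , (⟨⟨1, [7, 0, 3, 4, 3, 0, 4, 6, 1, 5, 1, 3, 1, 2, 1, 3, 5, 3], false, 1, [7, 0, 3, 4, 3, 0, 4, 6, 4, 3, 0, 3, 3, 4, 3, 3, 0, 3]⟩, [9, (-2), (-2), (-5), (-5), (-1), 6, 1, 3, 0, (-2), 0, 0, 0]⟩, .cmp 1 [7, 0, 3, 4, 3, 0, 4, 6, 0, 0, 0, 5, 2, 0, 4, 2, 4] [.stab 8 false [6, 0, 3, 4, 3, 0, 4, 6, 0, 3, 5, 3, 5, 3, 0, 5, 0, 3], .stab 8 false [6, 1, 3, 4, 3, 0, 4, 6, 5, 0, 5, 1, 3, 4, 0], .stab 8 false [6, 5, 6, 2, 1, 3, 4, 6, 0, 3, 0, 5, 0, 5, 0,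 5, 5, 2], .stab 6 false [6, 1, 4, 3, 0, 4, 6, 0, 2, 1, 3, 1, 4, 3, 3, 1, 4, 4, 2], .stab 6 true [6, 5, 6, 2, 1, 3, 4, 6, 0, 3, 0, 5, 0, 5, 0, 5, 5, 2], .stab 6 true [7, 0, 4, 3, 0, 4, 6, 2, 5, 0, 5, 3, 3, 4, 1, 3], .stab 6 true [7, 0, 3, 4, 3, 0, 4, 6, 0, 3, 3, 1, 5, 5, 2, 4, 2, 5], .step 10 [15, 6, 10, 1]] [.step 11 []])
  , (⟨⟨1, [6, 0, 0, 0, 0, 3], true, 2, []⟩, [0, 0, 0, 0, 0, 0, 0, 0, 0, 0, 0, 0, 0, 0]⟩, .tree)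
  , (⟨⟨2, [], true, 1, [6, 1, 1, 3]⟩, [0, 0, 0, 0, 0, 0, 0, 0, 1, 0, 0, 0, 0, 0]⟩, .scan 0 1 [6, 1, 1, 3] [.tok, .step 13 []])
  , (⟨⟨2, [0, 3, 0, 2, 2], false, 2, []⟩, [(-6), 6, 0, 0, 6, 8, 1, (-5), 0, 0, 0, 0, 0, 0]⟩, .cmp 1 [6, 0, 0, 0, 0, 3] [.stab 12 true [3, 3, 5, 0, 4, 6, 2, 0, 3, 3, 1], .stab 7 true [3, 3, 4, 4, 1, 4, 6, 2, 0, 3, 3, 1], .stab 8 true [1, 4, 3, 3, 0, 4, 6, 0, 2, 1, 2, 2, 1, 3], .stab 7 true [6, 4, 3, 3, 0, 4, 6, 1, 5, 3, 1, 2, 5, 1, 3, 5, 3], .stab 7 true [1, 5, 3, 3, 0, 5, 6, 0, 2, 0, 2, 2, 0, 3], .stab 12 true [5, 0, 5, 1, 4, 0, 4, 6, 2, 0, 3, 0, 3, 3, 0], .stab 7 true [4, 0, 5, 1, 5, 0, 4, 6, 2, 1, 3, 1, 3, 3, 1], .stab 6 false [0, 5, 0, 2, 2, 4, 6, 2, 1, 2, 2, 1, 2, 2, 1], .stab 6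 false [3, 4, 6, 5, 1, 4, 6, 0, 3, 0, 3, 5, 0, 4, 3], .stab 6 false [5, 3, 3, 4, 6, 0, 2, 2, 0, 2, 2, 1], .stab 12 false [1, 5, 3, 3, 1, 5, 6, 3, 0, 3, 1], .stab 6 false [3, 4, 1, 4, 0, 5, 6, 2, 0, 2, 2, 0, 2, 2, 1, 2], .stab 6 false [4, 6, 3, 5, 5, 0, 4, 6, 1, 5, 3, 5, 1, 5, 2, 2, 0, 5], .stab 8 false [4, 6, 4, 4, 1, 4, 6, 1, 2, 5, 5, 1, 3, 5, 1], .stab 6 false [3, 3, 5, 0, 4, 6, 2, 0, 2, 2, 0, 2, 2], .stab 12 false [6, 0, 2, 0, 3, 3], .step 13 [13, 15]] [.step 13 []])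
  , (⟨⟨2, [1, 3, 1, 3, 3, 1, 3], false, 2, []⟩, [(-27), 8, 6, 15, 16, (-1), (-14), (-4), (-9), 0, 6, 0, 0, 0]⟩, .cmp 1 [6, 0, 0, 0, 0, 3] [.stab 12 true [3, 3, 5, 0, 4, 6, 2, 0, 3, 3, 1], .stab 12 true [0, 3, 3, 4, 2, 0, 4, 6, 3, 3, 0, 3, 3, 1, 2], .stab 7 true [1, 3, 3, 4, 2, 0, 4, 6, 3, 3, 0, 3, 3, 1, 2], .stab 6 true [2, 1, 5, 1, 4, 0, 4, 6, 2, 0, 2, 2, 1, 2], .stab 12 true [0, 2, 5, 1, 2, 0, 4, 6, 1, 3, 1, 2, 2, 1], .stab 8 true [7, 4, 3, 0, 5, 0, 4, 6, 5, 3, 1, 2, 4, 3, 3, 1, 2], .stab 7 false [5, 2, 1, 4, 1, 4, 6, 3, 0, 3, 3, 0], .stab 7 false [6, 4, 3, 0, 5, 0, 4, 6, 5, 3, 1, 2, 4, 3, 3, 1, 2], .stab 6 false [4, 6, 4, 3, 3, 0, 4, 6, 0, 4, 2, 4, 0, 0, 0, 2, 2, 0, 2], .stab 8 false [4, 7, 2, 4, 2, 0, 4,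 6, 5, 0, 5, 2, 5, 2, 0, 3, 4], .stab 7 false [4, 2, 1, 5, 1, 4, 6, 0, 3, 1, 2, 1, 3, 3], .stab 6 false [5, 6, 2, 4, 4, 3, 4, 6, 4, 1, 3, 4, 3, 1, 2, 4, 1], .stab 8 false [3, 5, 0, 4, 0, 5, 6, 0, 0, 2, 0, 3, 3, 0], .stab 6 false [6, 0, 2, 0, 3, 1, 3], .step 13 [13, 15, 13]] [.step 13 []])
  , (⟨⟨2, [2, 4, 1, 2, 0, 4, 6, 0, 3, 3, 1, 4, 3, 1, 2, 4, 2, 2], true, 1, [0, 2, 4, 1, 2, 0, 4, 6, 0, 3, 0]⟩, [11, (-1), 0, (-5), (-7), (-11), 9, (-2), 2, 0, (-2), 0, 0, 1]⟩, .scan 20 1 [0, 2, 4, 1, 2, 0, 4, 6, 0, 3, 0] [.tok, .step 5 [0, 7, 8, 10, 6], .tok, .stab 2 false [2, 0, 4, 2, 1, 4, 6, 2, 2, 0, 2, 5, 3, 4, 0, 5], .stab 2 false [5, 3, 4, 1, 5, 6, 5, 2, 0, 5, 3, 0, 2, 1, 5], .stab 1 false [1, 5, 3, 3, 1, 5, 6, 0, 3, 1,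 2, 1, 3, 3, 5, 3, 4, 0, 5], .stab 0 false [5, 3, 3, 1, 5, 6, 0, 3, 1, 2, 1, 3, 3, 5, 3, 4, 0, 5], .stab 2 false [3, 3, 1, 5, 6, 0, 3, 1, 2, 1, 3, 3, 5, 3, 4, 0, 5], .stab 1 false [3, 1, 5, 6, 0, 3, 1, 2, 1, 3, 3, 5, 3, 4, 0, 5], .stab 1 false [1, 5, 6, 0, 3, 1, 2, 1, 3, 3, 5, 3, 4, 0, 5], .stab 0 false [5, 6, 0, 3, 1, 2, 1, 3, 3, 5, 3, 4, 0, 5], .stab 2 false [6, 0, 3, 1, 2, 1, 3, 3, 5, 3, 4, 0, 5], .stab 3 false [0, 2, 5, 2, 1, 5, 2, 0, 3, 1, 4, 2], .step 4 [10, 5, 12, 14, 12, 5, 10, 13], .tok, .stab 8 false [3, 1, 4, 0, 5, 6, 0, 3, 1, 2, 1, 2, 2, 1], .stab 8 false [1, 5, 0, 2, 0, 4, 6, 2, 0, 2, 2, 0, 2, 2, 1, 2], .stab 7 false [0, 5, 0, 2, 0, 4, 6, 2, 0, 2, 2, 0, 2, 2, 1, 2], .stab 7 false [1, 4, 1, 2, 1,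 4, 6, 2, 0, 2, 2, 0, 2, 2, 1, 2], .stab 12 false [3, 1, 5, 0, 4, 0, 4, 6, 2, 0, 3, 3, 0], .stab 7 false [3, 5, 0, 4, 0, 5, 6, 1, 2, 1, 3, 3, 1], .stab 6 false [6, 2, 1, 2, 2, 1, 2, 2], .step 13 [10, 12, 14, 13], .tok])
  , (⟨⟨1, [0, 2, 4, 1, 2, 0, 4, 6, 0, 3, 0], true, 2, [2, 4, 1, 2, 0, 4, 6, 4, 4, 3, 1, 2, 1, 3, 5, 1, 4]⟩, [(-11), 1, 0, 5, 7, 11, (-9), 2, (-1), 0, 2, 0, 0, (-1)]⟩, .scan 0 2 [2, 4, 1, 2, 0, 4, 6, 4, 4, 3, 1, 2, 1, 3, 5, 1, 4] [.tok, .step 17 []])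
  , (⟨⟨2, [3, 0, 2, 2, 1], false, 2, [2, 4, 1, 2, 0, 4, 6, 4, 4, 3, 1, 2, 1, 3, 5, 1, 4]⟩, [0, 1, (-2), 0, 2, 6, 0, 2, 2, 0, 0, 0, 0, (-1)]⟩, .cmp 1 [0, 2, 4, 1, 2, 0, 4, 6, 0, 3, 0] [.stab 6 false [3, 4, 0, 4, 2, 5, 6, 2, 1, 3, 1, 3, 3, 1], .stab 7 false [7, 4, 3, 4, 1, 2, 4, 6, 2, 2, 0, 4, 3, 5, 5, 3, 1, 3], .stab 8 false [1, 4, 6, 5, 0, 4, 6, 1, 4, 0, 2, 1, 5, 2, 5, 2, 0], .stab 6 false [3, 3, 4, 3, 4, 6, 0, 0, 3, 3, 0, 2], .stab 7 false [0, 5, 2, 1, 3, 4, 6, 2, 0], .stab 12 false [1, 5, 1, 5, 3, 5, 6, 3, 0, 2, 2, 1], .stab 8 false [6, 0, 3, 3, 1, 2, 2], .step 13 [10, 12, 11, 15]] [.step 18 []])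
  , (⟨⟨2, [6, 4, 4, 0, 2, 0, 4, 6, 4, 0, 4, 1, 3, 1, 2, 5, 3], true, 2, [5, 0, 3, 5, 1, 5, 6, 0, 0, 2, 0, 3, 3]⟩, [30, (-5), (-5), (-13), (-17), (-8), 21, 3, 9, (-1), (-6), 0, 0, 1]⟩, .scan 20 2 [5, 0, 3, 5, 1, 5, 6, 0, 0, 2, 0, 3, 3] [.tok, .step 14 [12, 15, 5, 10, 12, 14, 7], .tok, .stab 12 false [2, 0, 2, 2, 0, 4, 2, 2, 0, 4, 4], .stab 6 true [3, 0, 2, 5, 5, 0, 3, 3], .step 9 [0, 7, 12, 3, 13], .tok, .stab 7 false [3, 3, 5, 5, 6, 3], .stab 8 false [3, 5, 0, 5, 1, 5, 6, 0, 0, 3, 3], .stab 8 false [4, 2, 1, 3, 5, 0, 4, 6, 3, 0, 3, 1], .stab 7 false [2, 2, 0, 2, 5, 1, 4, 6, 0, 3, 0], .stab 12 false [4, 4, 3, 5, 2, 1, 4, 6, 2, 2, 1, 3, 1, 2], .stab 12 false [3, 5, 0, 4, 0, 5, 6, 0, 2, 1, 2, 2, 1, 2, 2, 1], .stab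 6 false [6, 0, 3, 0, 2, 0, 3], .step 13 [10, 13, 11], .tok])
  , (⟨⟨2, [5, 3, 4, 6, 4, 6, 4, 2, 1, 2, 5, 0, 3, 5, 3], true, 2, [3, 1, 2, 4, 6, 1, 3, 1, 3, 3, 1]⟩, [26, (-5), (-9), (-15), (-15), (-5), 16, 1, 9, 0, (-7), 1, 0, 0]⟩, .scan 11 2 [3, 1, 2, 4, 6, 1, 3, 1, 3, 3, 1] [.tok, .step 14 [10, 12, 14, 4, 10, 13, 11], .tok, .stab 12 false [7, 4, 3, 0, 4, 6, 5, 1, 4, 2, 1, 5, 3, 3], .stab 8 false [6, 4, 3, 0, 4, 6, 1, 5, 2, 4, 0, 3, 0, 5], .stab 6 true [7, 3, 4, 1, 2, 4, 6, 0, 0, 5, 2, 0, 3, 0, 5, 5, 2], .stab 7 true [6, 3, 4, 3, 0, 4, 6, 2, 2, 5, 1, 3, 4, 0, 5, 3, 5], .stab 12 true [6, 2, 0, 4, 3, 0, 4, 6, 5, 2, 0, 5, 0, 2, 0, 3], .stab 12 true [6, 1, 4, 3, 0, 4, 6, 4, 1, 2, 5, 0, 3, 5, 3, 1, 3], .stab 8 true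 [7, 0, 4, 3, 0, 4, 6, 4, 0, 3, 4, 1, 5, 2, 1], .stab 6 true [7, 0, 3, 4, 3, 0, 4, 6, 0, 5, 2, 5, 5, 2, 0, 3, 5, 0, 2], .step 10 [0, 7, 12, 7, 14, 12], .tok, .stab 12 false [3, 5, 1, 4, 1, 4, 6, 0, 3, 5, 1, 2, 5, 3, 3, 1, 2], .stab 6 false [1, 3, 4, 3, 3, 5, 6, 5, 0, 5, 2, 4, 3, 0, 4, 0], .stab 7 false [0, 3, 4, 3, 3, 5, 6, 5, 0, 5, 2, 4, 3, 0, 4, 0], .stab 12 false [4, 3, 0, 3, 4, 6, 0, 2, 1, 5, 3, 0, 5, 1, 3], .stab 12 false [1, 4, 1, 2, 1, 4, 6, 0, 2, 2, 0, 4, 3, 1, 4, 4, 3, 3], .stab 12 false [3, 1, 5, 0, 4, 0, 4, 6, 1, 3, 4, 3, 0, 4, 0, 3, 0, 2], .stab 7 false [3, 5, 0, 4, 0, 5, 6, 1, 4, 1, 2, 5, 2, 5, 1, 4, 2], .stab 6 false [6, 5, 2, 4, 4, 2, 0, 3, 0, 4, 2], .step 13 [12, 4, 11, 15, 3, 13], .tok])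
  , (⟨⟨2, [4, 1, 4, 3, 3, 1, 4, 6, 3, 4, 4, 3, 0, 5, 3, 4, 3, 0], true, 2, [2, 2, 4, 7, 2, 4, 6, 3, 3, 0, 4, 2, 5, 2, 2, 0]⟩, [29, (-5), (-6), (-19), (-16), (-4), 20, (-1), 9, 0, (-7), 0, 1, 0]⟩, .scan 17 2 [2, 2, 4, 7, 2, 4, 6, 3, 3, 0, 4, 2, 5, 2, 2, 0] [.tok, .step 14 [10, 6, 12, 0, 14], .tok, .stab 6 false [7, 1, 4, 3, 0, 4, 6, 1, 2, 5, 2, 1, 3, 4, 0, 2], .stab 12 false [4, 6, 2, 0, 4, 3, 0, 4, 6, 2, 5, 1, 5, 0, 4, 2, 0, 4, 3], .stab 12 false [6, 3, 4, 1, 2, 4, 6, 3, 0, 2, 5, 0, 4, 2, 2, 1, 2], .stab 8 false [7, 3, 4, 1, 2, 4, 6, 0, 2, 0, 4, 3, 5, 1, 3, 3, 1, 4, 3, 3], .stab 6 false [6, 4, 3, 0, 4, 6, 3, 4, 0, 3, 3, 4, 3], .stab 6 true [7, 3, 4, 1, 2, 4, 6, 0, 2, 0, 4, 3, 5, 1, 3, 3, 1, 4, 3, 3], .stab 7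 true [6, 3, 4, 3, 0, 4, 6, 0, 3, 0, 5, 3, 3, 0, 5, 3, 5, 0], .stab 12 true [6, 2, 0, 4, 3, 0, 4, 6, 0, 2, 0, 5, 3, 3, 0, 3], .stab 12 true [6, 1, 4, 3, 0, 4, 6, 0, 2, 2, 1, 3, 3, 4, 1, 2], .stab 8 true [7, 0, 4, 3, 0, 4, 6, 1, 2, 2, 1, 3, 3, 5, 3, 5, 0, 2], .stab 6 true [7, 0, 3, 4, 3, 0, 4, 6, 3, 3, 0, 4, 3, 3, 1, 3, 5, 1, 4], .step 10 [3, 14, 5, 2, 12, 10], .tok, .stab 12 false [2, 4, 4, 2, 0, 5, 6, 1, 3, 3, 1, 3, 3, 1, 4, 3], .stab 6 false [5, 2, 1, 5, 2, 2, 4, 6, 2, 1, 3, 1, 2, 2, 4, 3], .stab 12 false [1, 2, 0, 4, 1, 5, 6, 0, 2, 2, 1, 3, 1, 4, 3], .stab 7 false [1, 2, 1, 5, 1, 4, 6, 0, 2, 2, 0, 3, 0, 4, 3], .stab 12 false [4, 0, 3, 3, 4, 6, 3, 3, 0, 2, 1, 2, 2, 4, 3], .stab 8 false [1, 5, 1, 5, 3, 5, 6,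 1, 2, 4, 3], .stab 8 false [6, 0, 0, 3, 0, 2, 4, 3], .step 13 [11, 6], .tok])
  , (⟨⟨2, [2, 2, 4, 7, 2, 4, 6, 3, 3, 0, 4, 2, 5, 2, 2, 0], true, 2, [4, 1, 4, 3, 3, 1, 4, 6, 3, 0, 2, 4, 0, 2, 1, 5, 3, 1]⟩, [(-29), 5, 6, 19, 16, 4, (-20), 1, (-8), 0, 7, 0, (-1), 0]⟩, .scan 0 2 [4, 1, 4, 3, 3, 1, 4, 6, 3, 0, 2, 4, 0, 2, 1, 5, 3, 1] [.tok, .step 22 []])
  , (⟨⟨2, [4, 3, 0, 3, 4, 6, 3, 4, 1, 3, 1, 5, 5, 1], true, 2, [5, 3, 4, 6, 4, 4, 6, 4, 2, 1, 3, 3, 5, 1, 1]⟩, [30, (-5), (-7), (-18), (-15), (-2), 20, (-1), 9, 0, (-7), 0, 1, 0]⟩, .scan 14 2 [5, 3, 4, 6, 4, 4, 6, 4, 2, 1, 3, 3, 5, 1, 1] [.tok, .step 14 [10, 12, 14, 6, 4, 10, 12, 11], .tok, .stab 6 false [7, 1, 4, 3, 0, 4, 6, 3, 1, 5, 3, 4, 3, 1, 4, 2, 5, 0], .stab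 12 false [4, 6, 2, 0, 4, 3, 0, 4, 6, 4, 1, 4, 1, 5, 2, 2, 1, 3], .stab 12 false [6, 3, 4, 1, 2, 4, 6, 2, 1, 5, 2, 2, 0, 5, 2, 2, 4, 4, 0], .stab 8 false [7, 3, 4, 1, 2, 4, 6, 0, 3, 3, 0, 3, 3, 0, 5, 3, 0, 2], .stab 6 false [6, 4, 3, 0, 4, 6, 1, 1, 3, 3, 5, 2, 1, 2, 2], .stab 6 true [7, 3, 4, 1, 2, 4, 6, 0, 3, 3, 0, 3, 3, 0, 5, 3, 0, 2], .stab 7 true [6, 3, 4, 3, 0, 4, 6, 2, 1, 3, 3, 5, 3, 0, 2], .stab 12 true [6, 2, 0, 4, 3, 0, 4, 6, 1, 4, 2, 1, 3, 5, 3, 0, 3], .stab 12 true [6, 1, 4, 3, 0, 4, 6, 3, 4, 3, 3, 5, 5, 1, 3], .stab 8 true [7, 0, 4, 3, 0, 4, 6, 5, 2, 0, 2, 2, 1, 5, 2, 1, 5, 3], .stab 6 true [7, 0, 3, 4, 3, 0, 4, 6, 2, 1, 5, 2, 5, 2, 0, 2, 2, 5, 1], .step 10 [0, 9, 14, 13, 11, 4], .tok, .stab 12 false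 [5, 5, 0, 3, 3, 5, 6, 0, 4, 2, 1, 5, 1, 1, 3, 4, 3], .stab 12 false [3, 4, 0, 2, 2, 4, 6, 4, 0, 2, 0, 5, 3, 0, 5, 3, 3, 4], .stab 8 false [5, 3, 1, 4, 2, 5, 6, 0, 2, 2, 4, 0, 2, 4, 2, 0, 2, 5], .stab 6 false [0, 5, 2, 1, 3, 4, 6, 2, 0, 3, 3, 1, 5, 2, 1, 5], .stab 12 false [1, 5, 1, 5, 3, 5, 6, 2, 0, 3, 3, 5, 5, 2, 0, 5], .stab 8 false [6, 1, 3, 3, 5, 2, 1, 5], .step 13 [12, 5, 5, 10, 1], .tok])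
  , (⟨⟨2, [1, 4, 6, 5, 0, 4, 6, 4, 3, 3, 0, 2, 5, 3, 1], true, 2, [4, 3, 0, 4, 6, 2, 4, 6, 0, 4, 4, 3, 0, 3, 3, 0, 4]⟩, [31, (-6), (-8), (-22), (-18), (-10), 19, (-2), 12, 0, (-9), 0, 1, 0]⟩, .scan 17 2 [4, 3, 0, 4, 6, 2, 4, 6, 0, 4, 4, 3, 0, 3, 3, 0, 4] [.tok, .step 14 [0, 12, 14, 12, 10, 5, 12], .tok, .stab 6 false [5, 6, 0, 4, 3, 0, 4, 6, 0, 3, 0, 2, 1, 3, 5, 2, 2, 5, 2], .stab 12 false [7, 2, 1, 4, 3, 0, 4, 6, 1, 2, 4, 1, 4, 3, 1, 4, 2, 2, 4], .stab 12 false [7, 3, 4, 1, 2, 4, 6, 5, 3, 1, 4, 3, 3, 4, 0, 4, 2, 2], .stab 6 false [6, 4, 3, 0, 4, 6, 4, 1, 3, 4, 1, 2, 1, 2, 2, 4], .stab 6 true [7, 3, 4, 1, 2, 4, 6, 5, 3, 1, 4, 3, 3, 4, 0, 4, 2, 2], .stab 7 true [6, 3, 4, 3, 0, 4, 6, 0, 3, 0, 2, 4, 0, 5, 0, 5,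 2], .stab 12 true [6, 2, 0, 4, 3, 0, 4, 6, 5, 2, 1, 5, 3, 0, 3, 3, 1, 3, 5], .stab 12 true [6, 1, 4, 3, 0, 4, 6, 2, 0, 2, 4, 0, 5, 3, 0], .stab 8 true [7, 0, 4, 3, 0, 4, 6, 1, 2, 5, 0, 3, 1, 5, 2, 5, 2], .stab 6 true [7, 0, 3, 4, 3, 0, 4, 6, 3, 3, 4, 1, 5, 5, 2, 2, 5], .step 10 [3, 0, 7, 10, 10, 14], .tok, .stab 12 false [0, 5, 0, 3, 4, 6, 2, 2, 1, 3, 5, 0, 2, 1], .stab 12 false [5, 5, 7, 5, 0, 4, 6, 0, 0, 2, 4, 0, 2, 4, 2], .stab 7 false [5, 3, 4, 3, 1, 4, 6, 2, 0, 2, 1, 5, 1, 2, 4, 3], .stab 12 false [5, 5, 6, 5, 0, 4, 6, 2, 4, 2, 2, 5, 0, 2, 0, 5], .stab 7 false [4, 6, 4, 4, 1, 4, 6, 2, 4, 2, 2, 5, 0, 2, 0, 5], .stab 6 false [3, 3, 5, 0, 4, 6, 2, 0, 5, 3, 1, 2, 2, 1, 2], .stab 12 false [6, 2, 1, 5, 2, 2,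 0, 2, 2, 4, 1], .step 13 [14, 13, 6, 10, 12, 14], .tok])
  , (⟨⟨2, [4, 3, 0, 4, 6, 2, 4, 6, 0, 4, 4, 3, 0, 3, 3, 0, 4], true, 2, [1, 4, 6, 5, 0, 4, 6, 4, 2, 2, 0, 4, 0, 2, 5]⟩, [(-31), 6, 8, 22, 18, 10, (-19), 2, (-11), 0, 9, 0, (-1), 0]⟩, .scan 0 2 [1, 4, 6, 5, 0, 4, 6, 4, 2, 2, 0, 4, 0, 2, 5] [.tok, .step 25 []])
  , (⟨⟨2, [1, 4, 0, 5, 2, 1, 4, 6, 5, 1, 3, 5, 3, 4, 3, 1, 2], true, 2, [7, 1, 3, 4, 6, 3, 1, 3, 3, 4, 0, 4, 3, 0, 2, 4]⟩, [(-12), 5, 5, 6, 9, 2, (-7), (-7), (-3), 0, 1, 0, 1, 0]⟩, .scan 14 2 [7, 1, 3, 4, 6, 3, 1, 3, 3, 4, 0, 4, 3, 0, 2, 4] [.tok, .step 14 [1, 2, 14, 5, 5], .tok, .stab 6 false [6, 4, 3, 0, 4, 6, 2, 4, 2, 2, 4, 1, 4, 3, 3, 0], .stab 6 false [7, 3, 4, 1, 2, 4, 6, 5, 3, 5, 1, 5, 3, 3,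 1, 2, 2], .stab 6 false [6, 4, 3, 0, 4, 6, 0, 3, 5, 0, 2, 0, 3, 4, 3, 3, 4], .stab 6 true [7, 3, 4, 1, 2, 4, 6, 5, 3, 5, 1, 5, 3, 3, 1, 2, 2], .stab 7 true [6, 3, 4, 3, 0, 4, 6, 0, 3, 0, 4, 2, 2, 4, 0, 5, 1, 5], .stab 12 true [6, 2, 0, 4, 3, 0, 4, 6, 2, 1, 5, 3, 1, 3, 3, 5, 1, 5, 3, 5], .stab 12 true [6, 1, 4, 3, 0, 4, 6, 1, 3, 5, 1, 4, 3, 3, 5, 1, 4], .stab 8 true [7, 0, 4, 3, 0, 4, 6, 2, 0, 3, 3, 4, 4, 0, 5, 3, 1, 5], .stab 6 true [7, 0, 3, 4, 3, 0, 4, 6, 3, 3, 4, 1, 5, 1, 1, 2, 2, 5], .step 10 [0, 7, 14, 7, 5], .tok, .stab 6 false [4, 6, 4, 6, 4, 0, 4, 6, 5, 2, 4, 0, 3, 5, 3, 1, 4], .stab 12 false [0, 5, 7, 5, 1, 4, 6, 0, 2, 2, 1, 4, 3, 1, 2, 1, 4, 0], .stab 6 false [7, 5, 3, 0, 5, 0, 4, 6, 2, 0, 2, 5, 2,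 1, 2, 5, 1, 3], .stab 8 false [3, 1, 5, 0, 4, 0, 4, 6, 1, 2, 2, 5, 1, 3, 1, 2, 1, 5, 1], .stab 7 false [3, 5, 0, 4, 0, 5, 6, 2, 4, 4, 2, 1, 5, 3, 1, 5, 2], .stab 6 false [6, 3, 3, 1, 2, 5, 2, 4, 2, 5, 3], .step 13 [1, 11, 5, 12, 15, 7], .tok])
  , (⟨⟨2, [5, 0, 5, 0, 3, 5, 6, 0, 2, 0, 3, 1, 2, 2], true, 2, [3, 4, 2, 5, 5, 6, 3, 4, 3, 5, 0, 4, 0, 0]⟩, [(-1), 3, 1, (-1), 2, (-2), 3, (-2), 0, 0, (-1), 0, 0, 1]⟩, .scan 21 2 [3, 4, 2, 5, 5, 6, 3, 4, 3, 5, 0, 4, 0, 0] [.tok, .step 14 [13, 2, 10, 15, 13], .tok, .stab 7 false [7, 2, 1, 4, 3, 0, 4, 6, 2, 2, 0, 2, 2, 0], .stab 12 false [7, 3, 4, 1, 2, 4, 6, 0, 4, 3, 3, 0, 5, 2, 2, 1, 4], .stab 6 false [6, 4, 3, 0, 4, 6, 2, 4, 0, 2, 2, 0, 3, 4, 3], .stab 6 false [7, 3,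 4, 1, 2, 4, 6, 5, 2, 2, 1, 2, 5, 2, 0], .stab 6 false [6, 4, 3, 0, 4, 6, 3, 0, 2, 0, 4, 3, 1, 3, 5, 3], .stab 6 true [7, 3, 4, 1, 2, 4, 6, 5, 2, 2, 1, 2, 5, 2, 0], .stab 7 true [6, 3, 4, 3, 0, 4, 6, 0, 4, 3, 5, 1, 5, 5, 2, 4, 2], .stab 12 true [6, 2, 0, 4, 3, 0, 4, 6, 0, 2, 4, 0, 5, 2, 0, 3, 0, 3, 3, 1], .stab 12 true [6, 1, 4, 3, 0, 4, 6, 0, 3, 0, 4, 2, 2, 4, 2, 5, 0], .stab 8 true [7, 0, 4, 3, 0, 4, 6, 4, 2, 1, 2, 2, 5, 2, 0, 3, 1], .stab 6 true [7, 0, 3, 4, 3, 0, 4, 6, 0, 3, 5, 3, 1, 2, 4, 2, 1, 5], .step 10 [5, 6, 15, 5], .tok, .stab 8 false [1, 2, 4, 2, 2, 4, 6, 0, 3, 4, 2, 0, 3, 3, 4, 0, 0], .stab 8 false [6, 3, 1, 4, 2, 0, 4, 6, 3, 3, 0, 2, 5, 5, 0, 3, 0, 4, 3], .stab 8 false [4, 0, 3, 5, 2, 4, 6, 1,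 5, 0, 2, 5, 0, 5, 5, 0], .stab 6 false [1, 5, 2, 1, 5, 6, 0, 2, 1, 5, 1, 3, 4, 2, 1, 3], .stab 12 false [5, 7, 3, 4, 2, 4, 6, 0, 2, 1, 5, 1, 4, 3, 1, 5], .stab 6 false [3, 5, 0, 4, 0, 5, 6, 1, 2, 2, 4, 0, 2, 4, 1, 5, 1], .stab 6 false [6, 0, 2, 4, 1, 2, 2, 1, 2, 2, 5, 5], .step 13 [0, 12, 10, 7, 12, 15, 7, 12], .tok])
  , (⟨⟨2, [3, 3, 1, 2, 2], true, 2, [3, 3, 0, 2, 2]⟩, [(-5), 5, 0, 0, 5, (-4), 0, (-5), (-1), 1, 0, 0, 0, 0]⟩, .scan 2 2 [3, 3, 0, 2, 2] [.tok, .step 14 [10, 10], .tok, .tok, .stab 6 false [1, 4, 0, 4, 3, 0, 4, 6, 1], .stab 6 false [2, 1, 3, 1, 5, 1, 4, 6, 1, 3, 1, 2], .stab 6 false [7, 2, 5, 3, 4, 6, 0, 0, 5, 3, 4, 2, 2], .stab 7 false [2, 5, 2, 4, 6, 1, 1, 2, 2], .stab 6 false [3, 1, 5, 0, 4,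 0, 4, 6, 0, 3, 3, 0, 2, 2], .stab 7 false [3, 5, 0, 4, 0, 5, 6, 0, 3, 3, 0, 2, 2, 1], .stab 6 false [6, 0, 0, 3], .step 13 [11, 11], .tok])
  , (⟨⟨2, [0, 5, 6, 0, 4, 3, 0, 4, 6, 0, 4, 3, 0, 5, 3, 3, 1, 2, 4], true, 2, [0, 5, 6, 0, 4, 3, 0, 4, 6, 0, 3, 3, 4, 0, 4, 3, 3, 4, 0]⟩, [6, 2, 1, 0, (-1), (-3), 7, (-2), (-1), 0, 1, 0, 0, 0]⟩, .scan 5 2 [0, 5, 6, 0, 4, 3, 0, 4, 6, 0, 3, 3, 4, 0, 4, 3, 3, 4, 0] [.tok, .step 14 [9, 12, 5, 11, 15, 13], .tok, .stab 8 false [4, 1, 2, 0, 5, 6, 1, 1, 3, 3], .stab 8 false [4, 1, 2, 5, 1, 4, 6, 1, 1, 3, 3], .stab 7 false [6, 3, 4, 2, 4, 0, 4, 6, 3, 4, 1, 3, 5, 3, 0, 3, 3, 5], .stab 6 false [0, 5, 7, 2, 5, 2, 4, 6, 3, 1, 2, 4, 0, 3, 5, 5], .stab 8 false [7, 5, 3, 0, 5, 0, 4, 6,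 0, 0, 4, 0, 4, 2, 1, 5], .stab 8 false [3, 1, 5, 0, 4, 0, 4, 6, 2, 2, 0, 3, 0, 2], .stab 7 false [3, 5, 0, 4, 0, 5, 6, 1, 2, 2, 1, 3, 1, 2], .stab 6 false [6, 1, 2, 1, 3, 3], .step 13 [12, 14], .tok])
  , (⟨⟨2, [1, 5, 1, 2, 0, 4, 6, 2, 5, 3, 5, 2, 5, 1, 3, 3], true, 2, [6, 0, 2, 4, 6, 2, 0, 3, 4, 4, 0, 3, 3, 0, 5, 3]⟩, [17, (-2), (-5), (-13), (-8), (-6), 13, 2, 6, 0, (-5), 0, 1, 0]⟩, .scan 17 2 [6, 0, 2, 4, 6, 2, 0, 3, 4, 4, 0, 3, 3, 0, 5, 3] [.tok, .step 14 [6, 10, 15, 3, 1], .tok, .stab 6 false [7, 0, 4, 3, 0, 4, 6, 5, 1, 2, 2, 4, 1, 5, 2], .stab 12 false [7, 2, 0, 4, 3, 0, 4, 6, 2, 0, 3, 5, 5, 3, 3, 0, 4, 0], .stab 7 false [7, 2, 1, 4, 3, 0, 4, 6, 2, 0, 3, 5, 5, 3, 3, 0, 4, 0], .stab 12 false [7, 3, 4, 1,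 2, 4, 6, 2, 4, 2, 1, 4, 3, 5, 3, 1, 3], .stab 6 false [6, 4, 3, 0, 4, 6, 4, 3, 0, 3, 4, 3, 4, 0, 3, 0], .stab 6 true [7, 3, 4, 1, 2, 4, 6, 2, 4, 2, 1, 4, 3, 5, 3, 1, 3], .stab 7 true [6, 3, 4, 3, 0, 4, 6, 3, 5, 3, 3, 4, 2, 1, 3, 1, 2], .stab 12 true [6, 2, 0, 4, 3, 0, 4, 6, 5, 3, 4, 0, 3, 0, 4, 2, 1], .stab 12 true [6, 1, 4, 3, 0, 4, 6, 2, 1, 4, 3, 4, 1, 1, 2], .stab 8 true [7, 0, 4, 3, 0, 4, 6, 0, 5, 3, 0, 3, 5, 1, 2], .stab 6 true [7, 0, 3, 4, 3, 0, 4, 6, 4, 1, 3, 5, 3, 1, 3, 4, 3, 1, 3], .step 10 [1, 15, 0, 2, 11, 13], .tok, .stab 12 false [4, 4, 7, 4, 2, 4, 6, 2, 2, 4, 1, 3, 4, 3, 4, 3, 5], .stab 7 false [4, 3, 3, 1, 4, 6, 0, 0, 3, 0], .stab 6 false [2, 2, 1, 5, 0, 4, 6, 0, 2, 1, 3, 1], .stab 6 false [1,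 4, 3, 3, 0, 4, 6, 2, 2, 0, 2, 2, 0], .stab 8 false [3, 3, 4, 4, 1, 4, 6, 0, 0, 3, 0], .stab 7 false [3, 3, 5, 0, 4, 6, 0, 0, 3, 0], .stab 12 false [6, 0, 0, 2, 0, 3, 3], .step 13 [15], .tok])
  , (⟨⟨2, [5, 3, 1, 5, 0, 4, 6, 0, 2, 4, 3, 4, 3, 1, 3, 4, 3], true, 2, [5, 3, 1, 5, 3, 5, 6, 2, 4, 1, 3, 1, 4, 2, 2, 0]⟩, [(-28), 26, (-12), 3, 34, 57, (-5), (-9), 6, 1, 2, 0, 1, (-6)]⟩, .scan 17 2 [5, 3, 1, 5, 3, 5, 6, 2, 4, 1, 3, 1, 4, 2, 2, 0] [.tok, .stab 19 false [5, 2, 5, 3, 5, 0, 4, 6, 1, 3, 5, 2, 2, 0, 3, 3, 5], .stab 19 false [2, 0, 5, 7, 5, 1, 4, 6, 3, 3, 4, 0, 2, 4, 1, 3, 3, 5], .stab 16 false [0, 4, 0, 2, 0, 4, 6, 1, 4, 0, 3, 3, 5, 2, 5, 2], .stab 19 false [2, 4, 2, 1, 2, 4, 6, 2, 1, 4, 4, 1, 3, 4], .stab 15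 false [1, 4, 0, 3, 5, 0, 4, 6, 0, 2, 1, 3, 4, 1, 3, 1, 2, 4], .stab 16 false [7, 3, 5, 3, 4, 6, 3, 3, 5, 2, 5, 1, 3, 5, 1], .stab 19 false [1, 4, 2, 2, 5, 6, 1, 4, 0, 5, 2, 4, 1, 3, 5], .stab 15 false [4, 2, 5, 6, 3, 3, 0, 2, 4, 3, 3, 0, 5, 2, 4], .stab 15 true [1, 4, 2, 2, 5, 6, 1, 4, 0, 5, 2, 4, 1, 3, 5], .stab 19 true [7, 3, 5, 3, 4, 6, 3, 3, 5, 2, 5, 1, 3, 5, 1], .stab 16 true [1, 4, 0, 3, 5, 0, 4, 6, 0, 2, 1, 3, 4, 1, 3, 1, 2, 4], .stab 16 true [3, 4, 2, 5, 6, 1, 2, 1, 5, 0, 3, 3, 1, 4], .stab 16 true [7, 5, 1, 4, 3, 0, 4, 6, 4, 0, 2, 0, 2, 2, 0, 3, 4], .stab 19 true [6, 4, 3, 1, 2, 4, 6, 1, 5, 3, 0, 2, 5, 2, 2, 0, 4], .stab 16 true [6, 4, 4, 0, 2, 0, 4, 6, 0, 3, 5, 1, 3, 1, 5, 2, 5, 2], .step 20 [3, 4,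 4, 14, 11], .tok, .stab 15 false [1, 4, 1, 5, 3, 4, 6, 3, 3, 1, 5, 5, 2, 4, 3, 4, 3], .stab 19 false [6, 4, 3, 1, 3, 4, 6, 1, 2, 1, 4, 2, 5, 0], .stab 16 false [1, 3, 3, 5, 1, 4, 6, 4, 3, 0, 2, 2, 5, 0, 3, 4, 0], .stab 19 false [6, 5, 0, 3, 3, 4, 6, 5, 0, 2, 2, 5, 5, 2, 0, 3, 3], .stab 16 false [5, 1, 4, 2, 0, 5, 6, 0, 2, 0, 5, 3, 3, 4, 4, 1, 5, 2], .stab 15 false [2, 4, 1, 2, 0, 4, 6, 2, 2, 4, 3, 3, 5, 1, 3, 5], .stab 19 false [3, 0, 2, 2, 4, 1, 2, 4, 0, 3, 0], .step 14 [10, 12, 4, 10, 15, 7, 12, 11], .tok, .stab 8 false [3, 4, 4, 6, 5, 5, 1, 5, 2, 0, 3, 1], .stab 12 false [5, 0, 2, 5, 2, 0, 4, 6, 5, 1, 5, 5, 2, 4, 2, 1, 3], .stab 6 false [5, 0, 5, 1, 5, 6, 2, 4, 2, 0, 3, 1, 5, 2, 1, 5], .stab 7 false [5, 5,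 1, 4, 1, 4, 6, 0, 5, 3, 1, 3, 4, 3, 1, 2, 4], .stab 8 false [4, 4, 3, 5, 2, 1, 4, 6, 5, 3, 1, 3, 4, 3, 1, 2, 4], .stab 12 false [3, 5, 0, 4, 0, 5, 6, 0, 4, 0, 4, 2, 0, 2, 4, 1, 2], .stab 6 false [6, 0, 3, 3, 5, 3, 4, 0, 4, 3, 0, 2], .step 13 [14, 6, 8, 10, 12, 2], .tok])
  , (⟨⟨2, [5, 3, 1, 5, 3, 5, 6, 2, 4, 1, 3, 1, 4, 2, 2, 0], true, 2, [5, 3, 1, 5, 0, 4, 6, 0, 3, 5, 3, 5, 2, 5, 0, 3, 3]⟩, [28, (-26), 12, (-3), (-34), (-57), 5, 9, (-5), (-1), (-2), 0, (-1), 6]⟩, .scan 0 2 [5, 3, 1, 5, 0, 4, 6, 0, 3, 5, 3, 5, 2, 5, 0, 3, 3] [.tok, .step 32 []])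
  , (⟨⟨2, [2, 5, 3, 5, 0, 4, 6, 1, 5, 3, 1, 3, 5, 2, 5, 2, 1], true, 2, [3, 4, 3, 5, 0, 5, 6, 0, 3, 3, 0, 2, 1, 3]⟩, [(-38), 22, 3, 18, 35, 32, (-7), (-8), (-6), (-1), 8, 0, 0, (-2)]⟩, .scan 20 2 [3, 4, 3, 5, 0, 5, 6, 0, 3, 3, 0, 2, 1, 3] [.tok, .step 14 [2, 13, 9, 15, 6, 6], .tok, .stab 6 false [4, 2, 2, 1, 3, 5, 6, 0, 5, 3, 5, 1, 4, 2, 2, 4], .stab 12 false [5, 2, 4, 0, 3, 0, 4, 6, 4, 1, 4, 3, 5, 0, 4, 3, 5], .stab 6 false [4, 1, 3, 3, 4, 6, 0, 4, 0, 0, 3, 4, 3, 5, 0, 4], .stab 8 false [1, 2, 1, 5, 1, 4, 6, 0, 4, 2, 2, 5, 1, 5, 3, 3, 4], .stab 12 false [4, 0, 3, 3, 4, 6, 2, 4, 0, 2, 1, 5, 3, 4, 0], .stab 8 false [1, 5, 1, 5, 3, 5, 6, 1, 2, 5, 2, 1, 4, 1, 3, 1, 3], .stab 8 false [6, 0, 5, 3, 0, 2, 4, 1, 3,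 1, 5], .step 13 [10, 14, 1, 14, 7, 12], .tok, .stab 19 false [1, 5, 3, 5, 2, 1, 4, 6, 0, 2, 0, 5, 0, 5, 0, 5], .stab 16 false [5, 5, 2, 5, 3, 4, 6, 3, 5, 5, 3, 1, 3, 3, 5, 0, 3, 0], .stab 19 false [4, 1, 5, 2, 4, 6, 2, 0, 3, 5, 0, 4, 3, 3, 0, 3, 3, 0], .stab 15 false [6, 5, 0, 3, 3, 4, 6, 2, 0, 2, 2, 1, 5, 2, 2, 5, 1, 2], .stab 15 false [5, 1, 4, 2, 5, 6, 1, 3, 1, 2, 1, 4, 1, 5, 5], .stab 16 false [2, 4, 1, 2, 0, 4, 6, 3, 3, 0, 2, 5, 0, 4, 0, 0], .stab 19 false [0, 4, 3, 0, 4, 2, 2, 0, 3, 3, 5], .step 29 [2, 15, 6, 10, 13, 5, 14], .tok])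
  , (⟨⟨2, [4, 4, 3, 0, 5, 3, 4, 6, 0, 4, 2, 4, 0, 2, 2, 4, 3], true, 2, [5, 0, 3, 3, 4, 6, 0, 4, 3, 5, 1, 1, 2, 4, 1]⟩, [10, 9, (-18), (-16), 8, 46, 14, 1, 16, 1, (-6), 0, 1, (-5)]⟩, .scan 17 2 [5, 0, 3, 3, 4, 6, 0, 4, 3, 5, 1, 1, 2, 4, 1] [.tok, .stab 19 false [5, 2, 5, 3, 5, 0, 4, 6, 1, 4, 2, 5, 0, 2, 5, 2, 2, 4], .stab 19 false [2, 0, 5, 7, 5, 1, 4, 6, 1, 1, 2, 2, 5, 1, 3, 5, 1, 2, 2], .stab 16 false [0, 4, 0, 2, 0, 4, 6, 5, 2, 4, 1, 4, 0, 3], .stab 19 false [2, 4, 2, 1, 2, 4, 6, 1, 4, 2, 5, 5, 3, 5, 1], .stab 15 false [1, 4, 0, 3, 5, 0, 4, 6, 1, 2, 2, 4, 0, 2, 2, 0, 4, 0], .stab 16 false [7, 3, 5, 3, 4, 6, 3, 4, 4, 1, 5, 3, 1, 5], .stab 19 false [1, 4, 2, 2, 5, 6, 2, 4, 4, 3, 5, 2, 1, 4, 3, 4], .stab 15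 false [4, 2, 5, 6, 5, 3, 4, 1, 2, 1, 5, 2, 2, 5], .stab 15 true [1, 4, 2, 2, 5, 6, 2, 4, 4, 3, 5, 2, 1, 4, 3, 4], .stab 19 true [7, 3, 5, 3, 4, 6, 3, 4, 4, 1, 5, 3, 1, 5], .stab 16 true [1, 4, 0, 3, 5, 0, 4, 6, 1, 2, 2, 4, 0, 2, 2, 0, 4, 0], .stab 16 true [3, 4, 2, 5, 6, 5, 0, 5, 1, 4, 1, 3, 1], .stab 16 true [7, 5, 1, 4, 3, 0, 4, 6, 0, 2, 5, 0, 2, 2, 0, 4, 3, 5], .stab 19 true [6, 4, 3, 1, 2, 4, 6, 4, 1, 4, 3, 0, 3, 5, 3, 0, 4], .stab 16 true [6, 4, 4, 0, 2, 0, 4, 6, 4, 2, 0, 3, 5, 3, 0, 4, 0], .step 20 [4, 15, 2, 10, 7], .tok, .stab 19 false [6, 5, 0, 3, 3, 4, 6, 3, 4, 1, 1, 3, 3, 5, 1, 4], .stab 16 false [5, 1, 4, 2, 0, 5, 6, 0, 2, 2, 0, 3, 1, 5, 2, 1, 3], .stab 15 false [2, 4, 1, 2, 0, 4, 6, 0, 3, 5, 1,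 2, 1, 2, 2, 1, 2], .stab 19 false [2, 1, 4, 1, 4, 1, 5, 3, 4], .step 14 [0, 11, 11, 4, 13, 4], .tok, .stab 12 false [6, 4, 4, 0, 2, 0, 4, 6, 4, 2, 4, 2, 2, 4, 0, 3, 0], .stab 6 false [3, 4, 3, 5, 2, 4, 6, 5, 0, 4, 2, 1, 2, 4, 4, 3], .stab 6 false [3, 5, 2, 4, 6, 2, 1, 3, 5, 1, 4, 3, 3, 0, 3], .stab 8 false [3, 4, 2, 0, 5, 0, 4, 6, 2, 0, 3, 5, 5, 0, 4, 3, 3, 0, 3], .stab 6 false [0, 3, 3, 4, 2, 0, 4, 6, 0, 4, 2, 0, 5, 3, 0, 5, 2, 1], .stab 12 false [3, 3, 5, 0, 4, 6, 1, 3, 1, 4, 1, 5, 3, 0, 2, 2], .stab 12 false [6, 5, 0, 5, 5, 2, 5, 2, 0, 2], .step 13 [12, 2, 15, 3, 12, 10], .tok])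
  , (⟨⟨2, [5, 0, 3, 3, 4, 6, 0, 4, 3, 5, 1, 1, 2, 4, 1], true, 2, [4, 4, 3, 0, 5, 3, 4, 6, 0, 4, 0, 5, 0, 4, 2, 5, 0, 2]⟩, [(-10), (-9), 18, 16, (-8), (-46), (-14), (-1), (-15), (-1), 6, 0, (-1), 5]⟩, .scan 0 2 [4, 4, 3, 0, 5, 3, 4, 6, 0, 4, 0, 5, 0, 4, 2, 5, 0, 2] [.tok, .step 35 []])
  , (⟨⟨2, [3, 1, 5, 0, 4, 6, 3, 3, 0, 3, 3, 1, 3], true, 2, [2, 5, 3, 5, 0, 4, 6, 5, 5, 1, 2, 1, 5, 3, 3, 0]⟩, [(-49), 4, 23, 38, 22, (-41), (-31), (-5), (-25), (-1), 14, 0, (-1), 4]⟩, .scan 21 2 [2, 5, 3, 5, 0, 4, 6, 5, 5, 1, 2, 1, 5, 3, 3, 0] [.tok, .stab 15 false [1, 4, 3, 5, 1, 4, 6, 1, 5, 2, 5, 0, 5, 0, 5, 5], .stab 16 false [1, 4, 3, 3, 1, 4, 6, 0, 2, 5, 0, 3, 0, 5, 2, 0, 5, 2], .stab 19 false [5, 7, 2, 4, 3, 4, 6, 4, 1,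 4, 1, 1, 2, 5, 2, 1, 3], .stab 16 false [5, 2, 1, 4, 6, 2, 2, 1, 3, 5, 3, 1, 2, 1], .stab 19 false [5, 0, 4, 3, 3, 4, 6, 2, 1, 2, 4, 2, 2, 4, 3, 4], .stab 16 false [4, 4, 1, 5, 6, 5, 3, 5, 0, 3, 1, 3, 4, 3], .stab 16 false [1, 5, 2, 4, 4, 1, 4, 6, 2, 2, 5, 5, 2, 0, 4, 2, 2, 0], .stab 16 false [5, 0, 5, 6, 5, 3, 5, 0, 3, 1, 3, 4, 3], .stab 16 true [1, 5, 2, 4, 4, 1, 4, 6, 2, 2, 5, 5, 2, 0, 4, 2, 2, 0], .stab 16 true [4, 4, 1, 5, 6, 5, 3, 5, 0, 3, 1, 3, 4, 3], .stab 16 true [5, 0, 4, 3, 3, 4, 6, 2, 1, 2, 4, 2, 2, 4, 3, 4], .stab 19 true [5, 2, 1, 4, 6, 2, 2, 1, 3, 5, 3, 1, 2, 1], .stab 16 true [5, 7, 2, 4, 3, 4, 6, 4, 1, 4, 1, 1, 2, 5, 2, 1, 3], .stab 19 true [1, 4, 3, 3, 1, 4, 6, 0, 2, 5, 0, 3, 0, 5, 2, 0, 5,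 2], .stab 16 true [1, 4, 3, 5, 1, 4, 6, 1, 5, 2, 5, 0, 5, 0, 5, 5], .stab 15 true [5, 3, 1, 5, 0, 4, 6, 5, 3, 3, 0, 5, 3, 5, 0, 3, 1], .step 32 [1, 12, 0, 2, 10, 14, 12, 10], .tok, .stab 16 false [4, 1, 3, 5, 1, 5, 6, 2, 4, 0, 0, 2, 2, 4, 0, 4, 0], .stab 19 false [4, 3, 4, 1, 2, 1, 4, 6, 0, 3, 4, 2, 2, 4, 0, 5, 1], .stab 16 false [0, 3, 3, 4, 1, 5, 6, 4, 3, 5, 5, 0, 2, 0, 4], .stab 15 false [1, 3, 3, 4, 1, 5, 6, 4, 3, 3, 1, 3, 4, 3, 4, 1, 5], .stab 19 false [5, 1, 4, 2, 5, 6, 2, 2, 4, 2, 0, 3, 5, 3, 0], .stab 16 false [2, 4, 1, 2, 0, 4, 6, 1, 2, 4, 2, 2, 4, 2, 1], .stab 19 false [3, 1, 2, 4, 1, 3, 5, 1, 3, 3], .step 14 [12, 11, 2, 12, 14, 1, 13], .tok, .stab 7 false [4, 7, 5, 0, 3, 0, 4, 6, 1, 5, 2, 2, 5, 2,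 0, 2, 4, 0], .stab 12 false [7, 5, 3, 0, 5, 0, 4, 6, 2, 2, 4, 4, 2, 0, 4, 3, 4, 0], .stab 8 false [3, 1, 5, 0, 4, 0, 4, 6, 3, 5, 3, 0, 3, 4, 0, 3, 3], .stab 7 false [3, 5, 0, 4, 0, 5, 6, 0, 4, 3, 4, 0, 2, 1, 5, 3, 4], .stab 6 false [6, 1, 4, 0, 2, 0, 3, 5, 3, 4, 0, 5], .step 13 [0, 5, 10, 7, 9, 14], .tok])
  , (⟨⟨2, [1, 5, 1, 5, 6, 0, 0, 0, 0], true, 3, []⟩, [0, 0, 0, 0, 0, 0, 0, 0, 0, 0, 0, 0, 0, 0]⟩, .tree)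
  , (⟨⟨3, [], true, 2, [1, 5, 1, 5, 6, 1, 1]⟩, [0, 0, 0, 0, 0, 0, 0, 0, 1, 0, 0, 0, 0, 0]⟩, .scan 0 2 [1, 5, 1, 5, 6, 1, 1] [.tok, .step 38 []])
  , (⟨⟨1, [3, 3, 1, 4, 6, 1, 1, 3, 5, 1, 2, 5], true, 3, [2, 0, 5, 2, 0, 4, 6, 2, 1, 4, 3, 5, 0, 4, 0, 0]⟩, [(-68), 28, 5, 26, 51, 32, (-26), (-10), (-13), 0, 11, 0, 0, (-2)]⟩, .scan 21 3 [2, 0, 5, 2, 0, 4, 6, 2, 1, 4, 3, 5, 0, 4, 0, 0] [.tok, .step 39 [10, 5, 12, 11, 15, 6, 12], .tok, .stab 15 false [5, 5, 6, 5, 1, 4, 6, 2, 4, 0, 3, 0, 3, 4, 1, 2, 1], .stab 15 false [5, 6, 5, 5, 0, 4, 6, 1, 3, 3, 5, 0, 3, 4, 2], .stab 19 false [7, 4, 3, 1, 3, 4, 6, 0, 4, 1, 5, 0, 5, 3, 3], .stab 16 false [1, 3, 3, 4, 1, 5, 6, 0, 4, 0, 2, 4, 0, 5, 0, 0], .stab 19 false [5, 1, 4, 2,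 5, 6, 0, 5, 0, 4, 4, 2, 5, 1], .stab 16 false [2, 4, 1, 2, 0, 4, 6, 1, 4, 2, 1, 3, 1, 5, 0, 3, 1], .stab 19 false [3, 0, 4, 2, 4, 1, 4, 2, 2], .step 14 [2, 13, 4, 11, 15, 13], .tok, .stab 6 false [6, 0, 4, 3, 0, 4, 6, 2, 1, 2, 2, 5, 0, 3, 3, 4, 4], .stab 7 false [6, 1, 4, 3, 0, 4, 6, 2, 1, 2, 2, 5, 0, 3, 3, 4, 4], .stab 12 false [6, 2, 0, 4, 3, 0, 4, 6, 0, 2, 4, 2, 0, 2, 4, 1, 3, 4, 1], .stab 12 false [6, 3, 4, 3, 0, 4, 6, 1, 3, 1, 2, 1, 4, 4, 2, 5, 2], .stab 7 false [7, 3, 4, 1, 2, 4, 6, 1, 3, 4, 3, 0, 2, 0, 3, 4], .stab 6 false [6, 4, 3, 0, 4, 6, 0, 4, 4, 3, 4, 3, 0, 4, 2, 4], .stab 6 true [7, 3, 4, 1, 2, 4, 6, 1, 3, 4, 3, 0, 2, 0, 3, 4], .stab 7 true [6, 3, 4, 3, 0, 4, 6, 1, 3, 1, 2, 1, 4, 4, 2, 5, 2], .stab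 12 true [6, 2, 0, 4, 3, 0, 4, 6, 0, 2, 4, 2, 0, 2, 4, 1, 3, 4, 1], .stab 12 true [6, 1, 4, 3, 0, 4, 6, 2, 1, 2, 2, 5, 0, 3, 3, 4, 4], .stab 8 true [7, 0, 4, 3, 0, 4, 6, 3, 4, 2, 2, 4, 0, 3, 1, 3, 3], .stab 6 true [7, 0, 3, 4, 3, 0, 4, 6, 0, 3, 1, 3, 3, 1, 2, 4, 0, 4], .step 10 [2, 11, 13, 6, 15, 2, 13], .tok])
  , (⟨⟨3, [2, 0, 5, 2, 0, 4, 6, 2, 1, 4, 3, 5, 0, 4, 0, 0], true, 1, [3, 3, 1, 4, 6, 3, 4, 4, 1, 2, 4, 4]⟩, [68, (-28), (-5), (-26), (-51), (-32), 26, 10, 14, 0, (-11), 0, 0, 2]⟩, .scan 0 1 [3, 3, 1, 4, 6, 3, 4, 4, 1, 2, 4, 4] [.tok, .step 40 []])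
  , (⟨⟨2, [6, 0, 0, 2, 0, 3], true, 3, [5, 0, 5, 6, 2, 0, 4, 0, 5, 2, 1, 3, 4, 0]⟩, [(-62), 28, 4, 23, 50, 24, (-22), (-13), (-13), 0, 10, 1, 0, (-2)]⟩, .scan 10 3 [5, 0, 5, 6, 2, 0, 4, 0, 5, 2, 1, 3, 4, 0] [.tok, .step 41 [13, 11, 2, 13, 1, 11], .tok, .stab 6 false [7, 2, 1, 4, 3, 0, 4, 6, 2, 5, 2, 0, 5, 5, 0, 3, 4], .stab 7 false [6, 2, 0, 4, 3, 0, 4, 6, 2, 5, 2, 0, 5, 5, 0, 3, 4], .stab 12 false [6, 3, 4, 3, 0, 4, 6, 3, 5, 3, 4, 3, 1, 3, 3, 5, 5], .stab 7 false [7, 3, 4, 1, 2, 4, 6, 3, 0, 2, 1, 2, 4, 2, 5, 2, 5, 1], .stab 6 false [6, 4, 3, 0, 4, 6, 2, 4, 4, 1, 4, 3, 0, 4], .stab 6 true [7, 3, 4, 1, 2, 4, 6, 3, 0, 2, 1, 2, 4, 2, 5, 2, 5, 1], .stab 7 true [6, 3, 4, 3, 0, 4, 6, 3, 5, 3, 4, 3, 1, 3, 3, 5, 5],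 .stab 12 true [6, 2, 0, 4, 3, 0, 4, 6, 2, 5, 2, 0, 5, 5, 0, 3, 4], .stab 12 true [6, 1, 4, 3, 0, 4, 6, 0, 0, 4, 3, 5, 0, 3, 1, 2], .stab 8 true [7, 0, 4, 3, 0, 4, 6, 3, 3, 4, 1, 2, 4, 2, 1, 2, 4], .stab 6 true [7, 0, 3, 4, 3, 0, 4, 6, 2, 1, 5, 3, 4, 0, 4, 1, 3, 1], .step 10 [1, 1, 12, 14, 6], .tok, .stab 12 false [0, 3, 4, 1, 5, 6, 3, 3, 0, 2, 2, 1], .stab 8 false [4, 0, 4, 3, 4, 4, 6, 0, 0, 3, 3, 0, 2, 2], .stab 6 false [4, 3, 4, 2, 0, 4, 6, 1, 1, 3], .stab 7 false [4, 3, 0, 5, 5, 2, 4, 6, 0, 0, 3, 0, 2, 0, 3], .stab 7 false [5, 3, 5, 2, 0, 5, 6, 0, 0, 3], .stab 8 false [7, 5, 2, 5, 0, 4, 6, 0, 0, 4, 2, 5, 0, 2, 4, 4, 2], .stab 7 false [1, 5, 1, 5, 3, 5, 6, 0, 0, 2, 0, 3], .stab 8 false [6, 1, 3], .step 13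 [10, 10, 12], .tok])
  , (⟨⟨3, [5, 0, 5, 6, 2, 0, 4, 0, 5, 2, 1, 3, 4, 0], true, 2, [6, 1, 1, 2, 1, 3]⟩, [62, (-28), (-4), (-23), (-50), (-24), 22, 13, 14, 0, (-10), (-1), 0, 2]⟩, .scan 0 2 [6, 1, 1, 2, 1, 3] [.tok, .step 42 []])
  , (⟨⟨3, [5, 1, 4, 1, 4, 6, 4, 1, 5, 1, 5, 0, 3], true, 1, [5, 1, 3, 3, 5, 6, 0, 5, 3, 0, 5, 2]⟩, [90, (-33), (-11), (-40), (-65), (-29), 41, 17, 23, 0, (-17), 0, 0, 2]⟩, .scan 8 1 [5, 1, 3, 3, 5, 6, 0, 5, 3, 0, 5, 2] [.tok, .stab 8 false [6, 0, 3, 4, 3, 0, 4, 6, 4, 4, 3, 3, 0, 3, 1, 4, 1], .stab 6 false [5, 6, 0, 4, 3, 0, 4, 6, 0, 2, 2, 0, 5, 5, 3, 5, 3, 0, 5], .stab 12 false [7, 2, 1, 4, 3, 0, 4, 6, 4, 3, 1, 2, 5, 0, 2, 1, 4, 4], .stab 12 false [7, 3, 4, 1, 2, 4, 6, 0, 5, 3, 4, 0,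 4, 3, 5, 5], .stab 6 false [6, 4, 3, 0, 4, 6, 2, 5, 2, 0, 5, 0, 0, 3, 3], .stab 6 true [7, 3, 4, 1, 2, 4, 6, 0, 5, 3, 4, 0, 4, 3, 5, 5], .stab 7 true [6, 3, 4, 3, 0, 4, 6, 0, 5, 2, 1, 2, 2, 5, 0, 2, 0], .stab 12 true [6, 2, 0, 4, 3, 0, 4, 6, 1, 5, 3, 0, 4, 0, 3, 3], .stab 12 true [6, 1, 4, 3, 0, 4, 6, 3, 0, 4, 4, 2, 4, 4], .stab 8 true [7, 0, 4, 3, 0, 4, 6, 1, 1, 4, 2, 5, 2, 2, 1, 3], .stab 6 true [7, 0, 3, 4, 3, 0, 4, 6, 0, 2, 0, 3, 1, 3, 4], .step 10 [10, 12, 5, 11, 15, 4, 12], .tok, .stab 7 false [2, 5, 5, 1, 4, 6, 0, 2, 1, 3, 3, 1, 3], .stab 12 false [2, 2, 4, 1, 2, 0, 4, 6, 1, 2, 1, 2, 2, 1, 3], .stab 6 false [7, 5, 3, 5, 3, 0, 4, 6, 1, 2, 4, 1, 1, 2, 4, 1, 2, 2], .stab 12 false [1, 4, 1, 5, 3, 4, 6, 2,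 0, 2, 2, 1, 2, 2, 1, 2], .stab 12 false [7, 5, 2, 5, 0, 4, 6, 0, 4, 0, 2, 2, 0, 2, 4, 1, 4, 3], .stab 7 false [1, 5, 1, 5, 3, 5, 6, 0, 3, 0, 2, 2], .stab 8 false [6, 0, 2, 0, 3, 3], .step 13 [13, 15], .tok, .stab 19 false [2, 4, 1, 2, 0, 4, 6, 3, 4, 1, 3, 4, 2, 2, 0, 3, 5, 3], .stab 19 false [0, 0, 3, 0, 2], .stab 19 true [2, 4, 1, 2, 0, 4, 6, 3, 4, 1, 3, 4, 2, 2, 0, 3, 5, 3], .stab 19 true [6, 1, 3, 1, 2, 2], .step 42 [15], .tok])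
  , (⟨⟨1, [5, 1, 3, 3, 5, 6, 0, 5, 3, 0, 5, 2], true, 3, [5, 1, 4, 1, 4, 6, 0, 5, 5, 0, 5, 1, 5, 3]⟩, [(-90), 33, 11, 40, 65, 29, (-41), (-17), (-22), 0, 17, 0, 0, (-2)]⟩, .scan 0 3 [5, 1, 4, 1, 4, 6, 0, 5, 5, 0, 5, 1, 5, 3] [.tok, .step 44 []])
  , (⟨⟨3, [2, 0, 5, 2, 0, 4, 6, 5, 1, 3, 5, 2, 0], false, 3, [5, 1, 4, 1, 4, 6, 0, 5, 5, 0, 5, 1, 5, 3]⟩, [(-30), 9, 8, 19, 19, 1, (-18), (-10), (-12), 0, 8, 0, 0, 0]⟩, .cmp 1 [5, 1, 3, 3, 5, 6, 0, 5, 3, 0, 5, 2] [.stab 8 false [2, 1, 2, 5, 2, 4, 6, 2, 1, 4, 3, 0, 4, 0, 3, 1, 3], .stab 6 false [1, 4, 1, 3, 3, 4, 6, 0, 2, 2, 5, 1, 2, 5, 0, 3, 0, 3], .stab 6 false [2, 2, 0, 2, 5, 1, 4, 6, 2, 1, 5, 3, 0, 5, 3, 3, 1, 3], .stab 12 false [4, 4, 3, 5, 2, 1, 4, 6, 0, 0, 3, 4,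 0, 2, 5, 5, 2], .stab 12 false [3, 5, 0, 4, 0, 5, 6, 4, 0, 5, 1, 2, 1, 4, 4], .stab 6 false [6, 1, 4, 2, 2, 0, 2, 2, 4, 4, 2], .stab 12 true [3, 3, 5, 0, 4, 6, 1, 5, 3, 0, 5, 2, 0, 2, 1], .stab 6 true [4, 6, 4, 4, 1, 4, 6, 2, 5, 1, 3, 3, 5, 3, 5, 3], .stab 12 true [5, 6, 5, 0, 4, 3, 4, 6, 3, 0, 2, 0, 5, 3, 1, 4, 3, 5], .stab 12 true [3, 3, 0, 4, 6, 0, 5, 1, 2, 5, 2, 2, 1, 3, 3], .stab 7 true [3, 3, 1, 4, 6, 0, 5, 1, 2, 5, 2, 2, 1, 3, 3], .step 40 [0, 11, 8, 13, 1, 1]] [.step 45 []])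
  , (⟨⟨2, [6, 1, 4, 3, 0, 4, 6, 2, 1, 2, 4, 4, 2, 1, 3, 5], true, 3, [2, 4, 2, 4, 6, 5, 0, 4, 2, 5, 0, 3, 0, 2, 2]⟩, [(-38), 21, 1, 12, 34, 26, (-4), (-6), (-5), 0, 6, 0, 0, (-2)]⟩, .scan 5 3 [2, 4, 2, 4, 6, 5, 0, 4, 2, 5, 0, 3, 0, 2, 2] [.tok, .stab 46 false [5, 1, 4, 1, 4, 6, 0, 5, 3, 4, 3, 0, 5, 2, 4, 2], .stab 46 true [2, 0, 5, 2, 0, 4, 6, 3, 0, 2, 5, 0, 5, 2, 4, 2, 5], .step 41 [13, 15, 13, 5, 15, 2], .tok, .stab 12 false [2, 1, 5, 3, 3, 4, 6, 5, 3, 4, 0, 4, 0, 0, 3, 3], .stab 12 false [0, 3, 0, 4, 6, 1, 2, 2, 1, 5, 3, 0, 5, 2, 2, 4], .stab 8 false [3, 3, 4, 3, 4, 6, 3, 0, 3, 4, 3, 0, 4, 3, 5, 5, 0], .stab 7 false [0, 5, 2, 1, 3, 4, 6, 1, 2, 1, 5, 1, 2, 5, 0, 5, 1], .stab 12 false [1, 5, 1, 5, 3, 5, 6,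 0, 0, 3, 4, 0, 5, 2, 0, 2, 2], .stab 8 false [6, 3, 3, 5, 5, 1, 5, 2, 0, 2, 2], .step 13 [0, 12, 14, 5, 7, 10, 12], .tok])
  , (⟨⟨3, [2, 4, 2, 4, 6, 5, 0, 4, 2, 5, 0, 3, 0, 2, 2], true, 2, [6, 1, 4, 3, 0, 4, 6, 2, 0, 2, 4, 2, 1, 3, 4, 4]⟩, [38, (-21), (-1), (-12), (-34), (-26), 4, 6, 6, 0, (-6), 0, 0, 2]⟩, .scan 0 2 [6, 1, 4, 3, 0, 4, 6, 2, 0, 2, 4, 2, 1, 3, 4, 4] [.tok, .step 47 []])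
  , (⟨⟨3, [5, 7, 4, 6, 4, 0, 4, 6, 3, 0, 2, 4, 2, 4, 1, 2, 1, 5], true, 1, [5, 0, 3, 5, 0, 4, 6, 0, 3, 4, 3, 1, 4, 3, 4, 3, 1, 4]⟩, [14, (-6), (-3), 1, (-16), (-2), (-2), 10, 4, 0, 1, (-1), 0, (-1)]⟩, .scan 17 1 [5, 0, 3, 5, 0, 4, 6, 0, 3, 4, 3, 1, 4, 3, 4, 3, 1, 4] [.tok, .step 13 [7, 12, 7, 14, 6], .tok, .stab 15 false [5, 1, 3, 1, 5, 0, 4, 6, 2, 2, 4, 1, 3, 1, 5, 5, 1], .stab 19 false [5, 2, 4, 3, 0, 4, 6, 2, 0, 5, 0, 5, 1, 4], .stab 16 false [2, 5, 3, 0, 2, 2, 4, 6, 1, 2, 2, 4, 1, 2, 2, 1, 5, 2, 1], .stab 19 false [7, 1, 3, 4, 6, 3, 0, 5, 5, 3, 3, 0, 5, 5, 2, 2], .stab 16 false [6, 1, 2, 0, 4, 6, 2, 4, 0, 3, 1, 4, 4, 3, 3, 5], .stab 19 false [1, 4, 7, 2, 4, 6, 2, 2, 4, 0, 5, 2, 0, 3, 0, 3, 3, 5], .stab 19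 false [3, 5, 6, 2, 2, 5, 0, 2, 1, 3, 5, 1, 3, 4], .stab 15 true [1, 3, 3, 5, 6, 2, 2, 5, 0, 4, 2, 1, 3, 1, 5, 0], .stab 16 true [5, 3, 0, 4, 6, 2, 0, 3, 5, 3, 1, 3, 5, 1, 4, 4], .stab 19 true [6, 3, 5, 5, 0, 4, 6, 3, 3, 1, 5, 2, 1, 2, 5, 2, 1], .stab 16 true [3, 5, 3, 5, 2, 2, 4, 6, 0, 5, 3, 3, 0, 5, 2, 0, 5, 3, 5], .stab 19 true [6, 0, 5, 2, 5, 1, 4, 6, 2, 0, 3, 4, 0, 5, 3, 1], .stab 16 true [1, 4, 0, 5, 2, 1, 4, 6, 0, 3, 5, 3, 5, 5, 1, 2, 2, 5], .step 27 [3, 12, 3, 14, 11, 7, 12], .tok, .stab 16 false [4, 1, 3, 5, 1, 5, 6, 1, 2, 2, 1, 2, 2, 4, 0, 4, 2, 1], .stab 19 false [4, 3, 4, 1, 2, 1, 4, 6, 0, 5, 0, 3, 1, 2, 5, 0, 2, 2, 0], .stab 16 false [0, 3, 3, 4, 1, 5, 6, 1, 5, 2, 0, 5, 3, 4, 0, 3, 1], .stab 15 false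 [1, 3, 3, 4, 1, 5, 6, 2, 5, 3, 0, 2, 1, 5, 3, 3], .stab 19 false [5, 1, 4, 2, 5, 6, 0, 5, 0, 0, 2, 0, 3, 3], .stab 16 false [2, 4, 1, 2, 0, 4, 6, 2, 1, 4, 1, 2, 1, 2, 2, 1], .stab 19 false [2, 4, 2, 5, 5, 1, 3, 5], .stab 19 true [2, 4, 1, 2, 0, 4, 6, 2, 1, 4, 1, 2, 1, 2, 2, 1], .stab 19 true [6, 3, 1, 5, 2, 2, 5, 1, 4, 4], .step 42 [10, 6, 8, 12, 6, 14], .tok])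
  , (⟨⟨1, [5, 0, 3, 5, 0, 4, 6, 0, 3, 4, 3, 1, 4, 3, 4, 3, 1, 4], true, 3, [5, 7, 4, 6, 4, 0, 4, 6, 1, 3, 1, 2, 1, 5, 3, 5, 3, 4]⟩, [(-14), 6, 3, (-1), 16, 2, 2, (-10), (-3), 0, (-1), 1, 0, 1]⟩, .scan 0 3 [5, 7, 4, 6, 4, 0, 4, 6, 1, 3, 1, 2, 1, 5, 3, 5, 3, 4] [.tok, .step 49 []])
  , (⟨⟨3, [2, 0, 5, 2, 0, 4, 6, 1, 3, 5, 1, 2, 5, 1, 4, 2, 2, 5], false, 3, [5, 7, 4, 6, 4, 0, 4, 6, 1, 3, 1, 2, 1, 5, 3, 5, 3, 4]⟩, [48, (-17), 1, (-22), (-31), (-27), 24, (-3), 7, 0, (-10), 1, 0, 3]⟩, .cmp 1 [5, 0, 3, 5, 0, 4, 6, 0, 3, 4, 3, 1, 4, 3, 4, 3, 1, 4] [.stab 8 false [7, 4, 6, 3, 4, 6, 2, 5, 1, 3, 1, 2, 4, 4, 2, 5, 1], .stab 8 false [3, 5, 2, 0, 2, 4, 6, 2, 1, 3, 4, 3, 3, 5, 2, 1, 5], .stab 12 false [1, 5, 2, 1, 5, 6, 1,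 5, 0, 3, 3, 4, 3, 0, 2, 1], .stab 12 false [5, 7, 3, 4, 2, 4, 6, 0, 0, 4, 0, 2, 0, 4, 3, 3, 4], .stab 6 false [3, 5, 0, 4, 0, 5, 6, 0, 5, 2, 5, 1, 2, 4, 4, 2], .stab 6 false [6, 3, 1, 5, 0, 3, 0, 4, 3, 0, 2, 1], .stab 12 true [3, 3, 5, 0, 4, 6, 0, 3, 0, 5, 2, 2, 1, 5, 5, 2, 2], .stab 6 true [4, 6, 4, 4, 1, 4, 6, 2, 5, 2, 0, 3, 1, 5, 3, 3, 5], .stab 12 true [5, 6, 5, 0, 4, 3, 4, 6, 3, 1, 3, 3, 1, 5, 2, 4, 2, 5], .stab 12 true [3, 3, 0, 4, 6, 0, 2, 5, 0, 4, 3, 0, 3, 5, 3, 0], .stab 7 true [3, 3, 1, 4, 6, 0, 2, 5, 0, 4, 3, 0, 3, 5, 3, 0], .step 40 [5, 3, 3, 12, 14, 12]] [.step 50 []])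
  , (⟨⟨3, [3, 0, 4, 7, 1, 4, 6, 2, 5, 3, 5, 1, 4, 0, 4, 0], true, 3, [7, 0, 2, 4, 1, 4, 6, 4, 0, 3, 1, 5, 2, 5, 0, 2, 4, 2]⟩, [(-144), 74, 11, 55, 113, 76, (-45), (-35), (-26), 0, 23, 0, 1, (-5)]⟩, .scan 16 3 [7, 0, 2, 4, 1, 4, 6, 4, 0, 3, 1, 5, 2, 5, 0, 2, 4, 2] [.tok, .stab 46 false [5, 1, 4, 1, 4, 6, 0, 0, 4, 3, 0, 3, 3, 5, 1, 2], .stab 51 false [3, 5, 0, 3, 0, 4, 6, 2, 1, 5, 5, 3, 3, 4, 1, 5, 2, 0], .stab 51 false [5, 1, 4, 6, 2, 5, 0, 0, 2, 0, 2, 2, 0], .stab 46 false [7, 4, 4, 3, 3, 4, 6, 3, 5, 5, 0, 2, 4, 1, 4], .stab 46 false [5, 2, 0, 2, 4, 6, 3, 5, 1, 2, 1, 5, 2, 0, 4, 3, 0], .stab 46 false [4, 2, 1, 5, 3, 4, 6, 1, 2, 5, 5, 1, 5, 2, 4, 2, 1], .stab 46 false [5, 6, 0, 2, 1, 3, 4, 0, 5, 3, 0, 2, 1],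 .stab 46 true [4, 2, 1, 5, 3, 4, 6, 1, 2, 5, 5, 1, 5, 2, 4, 2, 1], .stab 46 true [5, 2, 0, 2, 4, 6, 3, 5, 1, 2, 1, 5, 2, 0, 4, 3, 0], .stab 46 true [7, 4, 4, 3, 3, 4, 6, 3, 5, 5, 0, 2, 4, 1, 4], .stab 46 true [5, 1, 4, 6, 2, 5, 0, 0, 2, 0, 2, 2, 0], .stab 51 true [3, 5, 0, 3, 0, 4, 6, 2, 1, 5, 5, 3, 3, 4, 1, 5, 2, 0], .stab 51 true [5, 1, 4, 1, 4, 6, 0, 0, 4, 3, 0, 3, 3, 5, 1, 2], .stab 46 true [2, 0, 5, 2, 0, 4, 6, 3, 3, 5, 5, 1, 2, 1, 5, 5], .step 41 [10, 12, 0, 6, 15, 13], .tok, .stab 8 false [4, 3, 4, 0, 5, 0, 4, 6, 0, 3, 5, 1, 2, 5, 0, 4, 2, 2, 0, 2], .stab 6 false [5, 0, 2, 0, 4, 6, 2, 5, 0, 4, 2, 5, 2, 0, 3, 1, 5], .stab 6 false [4, 4, 2, 5, 2, 4, 6, 0, 5, 2, 1, 3, 1, 3, 3, 5, 1, 5], .stab 7 false [5,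 6, 2, 5, 3, 4, 6, 0, 2, 4, 1, 5, 3, 5, 0, 3, 3, 0, 2], .stab 8 false [5, 6, 2, 4, 4, 3, 4, 6, 2, 4, 0, 0, 2, 5, 3, 4, 0, 3], .stab 8 false [3, 5, 0, 4, 0, 5, 6, 0, 3, 5, 1, 2, 5, 0, 4, 2, 2, 0, 2], .stab 6 false [6, 0, 5, 3, 0, 4, 2, 4, 0, 3, 5], .step 13 [5, 12, 11, 2, 13], .tok, .stab 15 false [3, 0, 4, 2, 4, 6, 2, 1, 3, 4, 0, 3, 3, 0, 3, 4, 0], .stab 19 false [5, 6, 3, 3, 4, 6, 2, 0, 2, 4, 2, 0, 4, 2, 4, 1, 3], .stab 15 false [2, 1, 4, 6, 2, 4, 6, 1, 5, 3, 5, 1, 2, 5, 1, 5, 5], .stab 15 false [4, 0, 5, 7, 1, 4, 6, 0, 0, 5, 3, 0, 5, 2, 4, 2, 4], .stab 16 false [4, 4, 7, 2, 0, 4, 6, 5, 1, 5, 3, 0, 5, 0, 3, 5], .stab 19 false [5, 2, 0, 5, 1, 5, 6, 2, 1, 4, 4, 3, 1, 2, 1], .stab 16 false [2, 2, 5, 1, 5, 6, 0,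 4, 0, 0, 3, 5, 2, 5, 5], .stab 19 false [7, 5, 5, 6, 1, 4, 6, 0, 2, 1, 5, 1, 4, 0, 5, 5], .stab 15 false [1, 5, 1, 5, 6, 2, 5, 5, 2, 0, 4, 3, 1, 3], .step 38 [10, 10, 14, 12, 3, 4], .tok])
  , (⟨⟨3, [7, 2, 1, 4, 6, 2, 4, 2, 0, 2, 2, 0, 2, 4, 1, 5], true, 3, [7, 3, 4, 2, 1, 4, 6, 1, 5, 3, 3, 0, 4, 3, 1, 4, 2, 4]⟩, [(-27), 39, (-13), (-7), 44, 71, 20, (-14), 10, 0, (-1), 0, 2, (-6)]⟩, .scan 16 3 [7, 3, 4, 2, 1, 4, 6, 1, 5, 3, 3, 0, 4, 3, 1, 4, 2, 4] [.tok, .stab 46 false [1, 5, 6, 2, 2, 4, 6, 4, 0, 3, 3, 4, 2, 1, 2, 4], .stab 46 false [3, 5, 2, 1, 5, 6, 1, 3, 1, 4, 2, 2, 1, 4, 3, 4, 1], .stab 51 false [1, 4, 1, 3, 4, 1, 4, 6, 2, 0, 3, 1, 5, 2, 4, 2, 4, 0], .stab 51 false [4, 1, 2, 5, 0, 4, 6, 2, 5, 3, 5, 2, 2,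 5, 0], .stab 51 false [5, 5, 7, 1, 2, 0, 4, 6, 2, 2, 4, 0, 3, 3, 5, 3, 1, 5], .stab 46 false [1, 2, 5, 0, 5, 1, 4, 6, 2, 2, 0, 5, 2, 4, 3, 5, 0], .stab 46 false [3, 5, 5, 2, 0, 4, 6, 2, 2, 1, 5, 3, 3, 5, 2, 4], .stab 46 false [2, 0, 4, 1, 4, 6, 0, 5, 5, 0, 2, 0, 5, 0, 5], .stab 46 false [0, 3, 5, 0, 3, 5, 6, 3, 3, 4, 4, 1, 2, 5, 2, 1], .stab 51 false [6, 0, 3, 4, 3, 1, 3, 3, 5, 0, 3, 0], .stab 51 true [0, 3, 5, 0, 3, 5, 6, 3, 3, 4, 4, 1, 2, 5, 2, 1], .stab 46 true [2, 0, 4, 1, 4, 6, 0, 5, 5, 0, 2, 0, 5, 0, 5], .stab 46 true [3, 5, 5, 2, 0, 4, 6, 2, 2, 1, 5, 3, 3, 5, 2, 4], .stab 46 true [1, 2, 5, 0, 5, 1, 4, 6, 2, 2, 0, 5, 2, 4, 3, 5, 0], .stab 46 true [5, 5, 7, 1, 2, 0, 4, 6, 2, 2, 4, 0, 3, 3, 5, 3, 1, 5],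 .stab 51 true [4, 1, 2, 5, 0, 4, 6, 2, 5, 3, 5, 2, 2, 5, 0], .stab 51 true [1, 4, 1, 3, 4, 1, 4, 6, 2, 0, 3, 1, 5, 2, 4, 2, 4, 0], .stab 51 true [3, 5, 2, 1, 5, 6, 1, 3, 1, 4, 2, 2, 1, 4, 3, 4, 1], .stab 46 true [1, 5, 6, 2, 2, 4, 6, 4, 0, 3, 3, 4, 2, 1, 2, 4], .stab 46 true [2, 4, 2, 4, 6, 2, 5, 5, 2, 4, 0, 4, 0, 0], .step 48 [11, 3, 13, 1, 14, 12], .tok, .stab 19 false [4, 1, 5, 5, 2, 4, 6, 2, 4, 0, 3, 4, 3, 0, 2, 1, 4], .stab 19 false [1, 2, 4, 3, 3, 4, 6, 3, 1, 5, 5, 1, 2, 4, 2], .stab 16 false [3, 4, 3, 3, 4, 6, 2, 1, 2, 5, 5, 2, 2, 1, 3, 3], .stab 19 false [5, 6, 4, 1, 2, 0, 4, 6, 2, 0, 3, 5, 1, 4, 0, 3, 1, 3], .stab 16 false [7, 5, 5, 2, 0, 4, 6, 0, 5, 2, 1, 4, 3, 3, 5, 3, 1, 2], .stab 15 false [5, 0,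 3, 5, 2, 4, 6, 4, 2, 4, 3, 3, 1, 3, 3, 4], .stab 19 false [5, 1, 2, 5, 6, 0, 2, 4, 2, 5, 5, 2, 5, 0, 5], .stab 16 false [2, 1, 4, 3, 0, 4, 6, 0, 0, 4, 2, 2, 4, 2], .stab 19 false [3, 5, 1, 5, 6, 1, 1, 5, 1, 5, 3, 5, 3, 0, 2], .stab 16 true [5, 2, 0, 3, 3, 5, 6, 2, 2, 4, 2, 1, 3, 3, 5, 0, 3, 0], .stab 16 true [3, 4, 4, 0, 4, 6, 5, 0, 3, 3, 5, 0, 4, 4, 2], .stab 19 true [5, 2, 1, 5, 2, 2, 4, 6, 2, 4, 2, 2, 1, 3, 5, 3, 0, 5], .stab 16 true [1, 5, 3, 5, 1, 4, 6, 2, 4, 1, 4, 2, 2, 0, 5, 3, 3], .stab 19 true [3, 4, 7, 0, 4, 6, 3, 5, 3, 3, 0, 2, 5, 2, 4], .stab 16 true [7, 0, 4, 0, 4, 6, 2, 5, 2, 0, 3, 4, 1, 3], .stab 15 true [7, 0, 2, 5, 2, 0, 4, 6, 1, 4, 2, 5, 2, 5, 1, 2, 2], .stab 19 true [3, 1, 5, 7, 3, 4, 6, 2,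 5, 2, 1, 5, 3, 5, 0, 2, 5], .stab 16 true [2, 2, 4, 7, 2, 4, 6, 3, 3, 0, 4, 2, 5, 2, 2, 0], .step 23 [], .tok, .stab 15 false [5, 3, 0, 3, 5, 6, 4, 1, 5, 3, 0, 3, 4, 3, 3, 0], .stab 16 false [1, 3, 4, 2, 5, 6, 2, 2, 5, 2, 1, 2, 4, 1, 4, 4, 3], .stab 19 false [3, 4, 2, 2, 4, 6, 2, 1, 3, 5, 1, 3, 3, 5, 0, 4, 3, 3], .stab 16 false [1, 5, 0, 3, 4, 1, 4, 6, 4, 3, 4, 3, 0, 2, 5, 3], .stab 19 false [4, 3, 3, 5, 1, 5, 6, 5, 5, 1, 5, 1, 2, 5, 0], .stab 15 false [7, 5, 5, 6, 1, 4, 6, 2, 2, 4, 0, 3, 0, 2, 1, 5, 0, 2], .stab 15 false [1, 5, 1, 5, 6, 1, 3, 4, 1, 5, 2, 2], .step 38 [0, 7, 13, 6, 15], .tok])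
  , (⟨⟨3, [1, 5, 6, 0, 4, 6, 1, 2, 2, 1, 3, 3, 4, 4], true, 3, [4, 4, 6, 5, 5, 0, 4, 6, 0, 2, 1, 5, 2, 0, 4, 2, 1]⟩, [(-131), 71, (-2), 44, 110, 99, (-35), (-24), (-15), 1, 20, 0, 2, (-10)]⟩, .scan 18 3 [4, 4, 6, 5, 5, 0, 4, 6, 0, 2, 1, 5, 2, 0, 4, 2, 1] [.tok, .stab 46 false [1, 5, 6, 2, 2, 4, 6, 2, 5, 2, 5, 1, 3, 4, 1, 2, 2], .stab 46 false [3, 5, 2, 1, 5, 6, 0, 2, 0, 5, 2, 2, 1, 3, 5, 3, 0], .stab 51 false [1, 4, 1, 3, 4, 1, 4, 6, 0, 2, 0, 5, 3, 3, 5, 5, 3, 4, 0], .stab 51 false [4, 1, 2, 5, 0, 4, 6, 2, 0, 3, 0, 4, 2, 5, 2, 2, 0], .stab 51 false [5, 5, 7, 1, 2, 0, 4, 6, 0, 2, 0, 3, 0, 3, 3, 4, 1, 5, 3, 3], .stab 46 false [1, 2, 5, 0, 5, 1, 4, 6, 0, 0, 5, 3, 3, 4, 1, 5, 3, 1], .stab 46 false [3, 5, 5, 2, 0,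 4, 6, 0, 5, 5, 3, 4, 0, 5, 3, 1, 3], .stab 46 false [2, 0, 4, 1, 4, 6, 2, 4, 2, 0, 5, 5, 3, 4, 0, 4], .stab 46 false [0, 3, 5, 0, 3, 5, 6, 0, 3, 0, 2, 1, 2, 2, 4, 1, 2, 4], .stab 51 false [6, 0, 3, 5, 0, 3, 3, 5, 1, 3, 1, 2], .stab 51 true [0, 3, 5, 0, 3, 5, 6, 0, 3, 0, 2, 1, 2, 2, 4, 1, 2, 4], .stab 46 true [2, 0, 4, 1, 4, 6, 2, 4, 2, 0, 5, 5, 3, 4, 0, 4], .stab 46 true [3, 5, 5, 2, 0, 4, 6, 0, 5, 5, 3, 4, 0, 5, 3, 1, 3], .stab 46 true [1, 2, 5, 0, 5, 1, 4, 6, 0, 0, 5, 3, 3, 4, 1, 5, 3, 1], .stab 46 true [5, 5, 7, 1, 2, 0, 4, 6, 0, 2, 0, 3, 0, 3, 3, 4, 1, 5, 3, 3], .stab 51 true [4, 1, 2, 5, 0, 4, 6, 2, 0, 3, 0, 4, 2, 5, 2, 2, 0], .stab 51 true [1, 4, 1, 3, 4, 1, 4, 6, 0, 2, 0, 5, 3, 3, 5, 5, 3, 4, 0], .stab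 51 true [3, 5, 2, 1, 5, 6, 0, 2, 0, 5, 2, 2, 1, 3, 5, 3, 0], .stab 46 true [1, 5, 6, 2, 2, 4, 6, 2, 5, 2, 5, 1, 3, 4, 1, 2, 2], .stab 46 true [2, 4, 2, 4, 6, 2, 2, 0, 3, 4, 2, 2, 0, 3, 1], .step 48 [5, 10, 12, 10, 15, 6], .tok, .stab 15 false [2, 4, 1, 5, 2, 4, 6, 4, 4, 2, 5, 2, 5, 1, 3, 1], .stab 16 false [3, 5, 7, 5, 1, 4, 6, 3, 0, 2, 5, 0, 3, 5, 0, 2], .stab 19 false [6, 1, 3, 0, 4, 6, 3, 3, 4, 0, 5, 5, 3, 3, 4, 0, 3], .stab 16 false [3, 5, 6, 4, 6, 0, 3, 0, 5, 3, 5, 3, 0, 5, 3], .stab 19 false [5, 5, 7, 4, 3, 4, 6, 2, 1, 3, 5, 3, 0, 4, 2, 2, 5], .stab 16 false [7, 3, 4, 0, 2, 2, 4, 6, 0, 2, 5, 0, 2, 2, 5, 0, 5, 2], .stab 19 false [1, 2, 5, 6, 1, 2, 1, 3, 5, 0, 2, 4, 4], .stab 15 false [3, 3, 5, 6, 2, 0,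 5, 2, 2, 0, 2, 2, 5, 5], .stab 15 true [1, 2, 5, 6, 1, 2, 1, 3, 5, 0, 2, 4, 4], .stab 19 true [7, 3, 4, 0, 2, 2, 4, 6, 0, 2, 5, 0, 2, 2, 5, 0, 5, 2], .stab 15 true [5, 3, 4, 1, 5, 6, 0, 0, 0, 5, 2], .stab 16 true [4, 6, 0, 5, 0, 4, 6, 1, 4, 1, 2, 4, 2, 2, 5, 5, 1], .stab 19 true [7, 3, 4, 4, 6, 0, 4, 6, 2, 2, 1, 2, 2, 5, 2, 0, 5], .stab 16 true [5, 2, 4, 4, 0, 4, 6, 2, 2, 5, 2, 0, 2, 4, 0, 4, 3], .stab 19 true [4, 3, 4, 6, 1, 3, 1, 5, 5, 3, 3, 4, 1, 5], .stab 19 true [6, 3, 4, 1, 4, 6, 1, 2, 4, 2, 1, 2, 5, 2, 1, 4], .stab 19 true [4, 2, 4, 2, 1, 4, 6, 0, 2, 0, 4, 3, 5, 3, 4, 2], .stab 15 true [5, 3, 1, 5, 3, 5, 6, 4, 4, 0, 2, 4, 2, 1, 4], .step 33 [14, 13, 0, 14], .tok, .stab 19 false [4, 7, 1, 2, 0, 4, 6, 2,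 4, 4, 1, 4, 3, 3, 5, 1, 5], .stab 19 false [6, 5, 6, 4, 2, 0, 4, 6, 0, 4, 0, 0, 3, 0, 2, 4, 2, 0, 2], .stab 19 false [2, 0, 2, 5, 1, 5, 6, 5, 0, 5, 5, 3, 5, 3, 0, 2, 1], .stab 15 false [5, 2, 0, 5, 1, 5, 6, 2, 2, 0, 4, 3, 5, 1, 2, 1, 2], .stab 16 false [2, 2, 5, 1, 5, 6, 5, 0, 5, 5, 3, 5, 3, 0, 2, 1], .stab 19 false [7, 5, 5, 6, 1, 4, 6, 2, 2, 0, 3, 0, 2, 4, 2, 4, 4], .stab 15 false [1, 5, 1, 5, 6, 5, 5, 1, 3, 1, 2, 2, 4, 4], .step 38 [0, 0, 13, 15, 0, 0], .tok])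
  , (⟨⟨2, [4, 2, 5, 6, 0, 0, 0, 0, 2], true, 4, []⟩, [0, 0, 0, 0, 0, 0, 0, 0, 0, 0, 0, 0, 0, 0]⟩, .tree)
  , (⟨⟨4, [], true, 2, [4, 2, 5, 6, 1, 1, 2]⟩, [0, 0, 0, 0, 0, 0, 0, 0, 1, 0, 0, 0, 0, 0]⟩, .scan 0 2 [4, 2, 5, 6, 1, 1, 2] [.tok, .step 55 []])
  , (⟨⟨4, [0, 2, 5, 6, 2, 0, 4, 6, 2, 0, 4, 2, 4, 0, 3, 3], true, 1, [1, 1, 5, 6, 2, 4, 6, 0, 2, 5, 1, 4, 2, 5, 2, 1, 3]⟩, [(-43), 18, 0, 21, 34, 17, (-17), 0, (-6), 0, 9, 0, 1, (-4)]⟩, .scan 16 1 [1, 1, 5, 6, 2, 4, 6, 0, 2, 5, 1, 4, 2, 5, 2, 1, 3] [.tok, .stab 6 false [7, 0, 4, 3, 0, 4, 6, 2, 0, 2, 1, 4, 3, 0, 5, 3, 3, 4], .stab 8 false [6, 1, 4, 3, 0, 4, 6, 1, 1, 2, 2, 1, 2, 4, 3, 3], .stab 12 false [6, 2, 0, 4, 3, 0, 4, 6, 4, 1, 5, 2, 1, 3, 3, 1, 3, 4], .stab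 12 false [6, 3, 4, 3, 0, 4, 6, 2, 0, 2, 2, 5, 1, 2, 1, 5, 1, 4], .stab 7 false [7, 3, 4, 1, 2, 4, 6, 0, 2, 0, 3, 1, 3, 3, 5, 0, 3, 5, 3, 5], .stab 6 false [6, 4, 3, 0, 4, 6, 3, 5, 0, 0, 0, 4, 3, 3, 4, 3], .stab 6 true [7, 3, 4, 1, 2, 4, 6, 0, 2, 0, 3, 1, 3, 3, 5, 0, 3, 5, 3, 5], .stab 7 true [6, 3, 4, 3, 0, 4, 6, 2, 0, 2, 2, 5, 1, 2, 1, 5, 1, 4], .stab 12 true [6, 2, 0, 4, 3, 0, 4, 6, 4, 1, 5, 2, 1, 3, 3, 1, 3, 4], .stab 12 true [6, 1, 4, 3, 0, 4, 6, 1, 1, 2, 2, 1, 2, 4, 3, 3], .stab 8 true [7, 0, 4, 3, 0, 4, 6, 2, 0, 2, 1, 4, 3, 0, 5, 3, 3, 4], .stab 6 true [7, 0, 3, 4, 3, 0, 4, 6, 3, 5, 3, 4, 0, 3, 3, 0, 3, 1], .step 10 [6, 15, 13, 11, 6], .tok, .stab 8 false [5, 0, 2, 2, 5, 6, 4, 0, 4, 0, 3, 0, 3, 3, 1],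 .stab 7 false [7, 4, 3, 5, 1, 4, 6, 3, 5, 1, 5, 5, 2, 5, 2, 1], .stab 7 false [4, 0, 2, 2, 4, 6, 5, 0, 5, 1, 3, 1, 3, 3, 1], .stab 12 false [5, 6, 2, 4, 4, 3, 4, 6, 0, 2, 5, 0, 3, 3, 5, 5, 3, 0, 2], .stab 8 false [3, 5, 0, 4, 0, 5, 6, 3, 4, 1, 1, 3, 4, 2, 4], .stab 6 false [6, 0, 5, 0, 2, 2, 0, 2, 5], .step 13 [2, 14, 4, 12, 5, 10], .tok, .stab 19 false [5, 3, 5, 2, 0, 5, 6, 0, 2, 5, 1, 3, 5, 3, 0, 3, 5, 1], .stab 19 false [7, 2, 0, 5, 1, 4, 6, 0, 3, 1, 3, 5, 1, 3, 3, 4, 0], .stab 19 false [3, 4, 7, 2, 4, 6, 1, 4, 4, 1, 2, 4, 3, 3, 4], .stab 16 false [5, 6, 2, 2, 4, 4, 6, 5, 3, 3, 4, 1, 4, 2, 2], .stab 19 false [0, 3, 4, 2, 0, 4, 6, 2, 0, 4, 4, 3, 0, 3, 5, 1, 4], .stab 16 false [4, 2, 5, 6, 2, 4, 1, 3, 1, 3,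 4, 3, 3], .step 55 [0, 4, 13, 0, 15, 1], .tok])
  , (⟨⟨1, [1, 1, 5, 6, 2, 4, 6, 0, 2, 5, 1, 4, 2, 5, 2, 1, 3], true, 4, [0, 2, 5, 6, 2, 0, 4, 6, 3, 4, 2, 1, 3, 4, 0, 2, 2]⟩, [43, (-18), 0, (-21), (-34), (-17), 17, 0, 7, 0, (-9), 0, (-1), 4]⟩, .scan 0 4 [0, 2, 5, 6, 2, 0, 4, 6, 3, 4, 2, 1, 3, 4, 0, 2, 2] [.tok, .step 57 []])
  , (⟨⟨4, [4, 7, 3, 3, 0, 4, 6, 1, 3, 5, 1, 2, 4, 4, 1], true, 2, [7, 5, 2, 1, 4, 6, 0, 4, 4, 2, 5, 0, 5, 2, 4, 2, 1]⟩, [(-37), 14, (-1), 19, 30, 18, (-17), (-3), (-7), 0, 8, 0, 2, (-4)]⟩, .scan 16 2 [7, 5, 2, 1, 4, 6, 0, 4, 4, 2, 5, 0, 5, 2, 4, 2, 1] [.tok, .step 14 [2, 7, 12, 14, 12], .tok, .stab 12 false [6, 1, 4, 3, 0, 4, 6, 0, 4, 2, 5, 2, 0, 5, 3, 1, 2], .stab 12 false [6, 2, 0, 4, 3,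 0, 4, 6, 1, 3, 4, 1, 2, 4, 4, 1], .stab 12 false [6, 3, 4, 3, 0, 4, 6, 2, 5, 1, 4, 2, 2, 4, 2, 1, 2, 4], .stab 6 false [7, 4, 3, 0, 4, 6, 1, 2, 4, 2, 5, 3, 1, 3, 4, 3], .stab 8 false [6, 4, 3, 0, 4, 6, 0, 5, 2, 0, 3, 3, 4, 2, 1, 4], .stab 6 true [7, 3, 4, 1, 2, 4, 6, 1, 1, 4, 2, 1, 4, 3, 1, 2, 5], .stab 7 true [6, 3, 4, 3, 0, 4, 6, 4, 3, 5, 0, 0, 3, 0, 2, 5, 0], .stab 12 true [6, 2, 0, 4, 3, 0, 4, 6, 0, 0, 2, 2, 5, 0, 3, 5], .stab 12 true [6, 1, 4, 3, 0, 4, 6, 4, 4, 1, 2, 1, 4, 3, 3, 0, 3], .stab 8 true [7, 0, 4, 3, 0, 4, 6, 0, 5, 3, 5, 1, 2, 1, 5, 5], .stab 6 true [7, 0, 3, 4, 3, 0, 4, 6, 5, 3, 0, 5, 3, 3, 1, 2, 1], .step 10 [2, 14, 6, 12, 7, 14], .tok, .stab 8 false [7, 3, 1, 4, 0, 4, 6, 2, 4, 1, 5, 3, 5,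 5, 1, 4], .stab 12 false [2, 4, 4, 6, 0, 4, 6, 0, 2, 2, 5, 1, 5, 3, 1, 5, 2, 5], .stab 7 false [2, 5, 6, 1, 4, 6, 0, 2, 2, 5, 1, 5, 3, 1, 5, 2, 5], .stab 12 false [7, 3, 4, 4, 6, 2, 4, 3, 5, 5, 3, 0, 3, 3, 1], .stab 6 false [3, 4, 6, 0, 4, 6, 2, 5, 2, 1, 3, 1, 4, 0, 5], .stab 12 false [1, 4, 7, 0, 4, 6, 3, 4, 1, 3, 3, 4, 1, 4, 2, 0], .stab 8 false [6, 4, 6, 3, 3, 1, 5, 1, 2, 1, 5, 2, 2], .stab 6 true [3, 0, 4, 6, 2, 4, 6, 5, 2, 4, 0, 0, 2, 5, 0, 3], .stab 12 true [1, 2, 5, 6, 2, 0, 4, 6, 0, 0, 3, 0, 5, 3, 3, 4, 3, 0, 3], .stab 12 true [4, 0, 4, 7, 4, 6, 0, 5, 2, 0, 3, 5, 5, 3, 4], .stab 7 true [2, 0, 5, 6, 1, 4, 6, 2, 5, 0, 2, 1, 3, 4, 0, 3, 3, 1, 3], .stab 12 true [4, 6, 0, 2, 0, 4, 6, 2, 5, 1, 2, 4, 0, 5,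 2], .stab 6 true [2, 4, 2, 4, 7, 4, 6, 0, 2, 2, 5, 5, 0, 3, 5, 1, 2], .stab 12 true [1, 1, 5, 6, 2, 4, 6, 0, 2, 1, 3, 5, 0, 3, 5, 3, 0, 3, 4, 3], .step 58 [0, 14, 6, 12, 10, 1], .tok])
  , (⟨⟨2, [7, 5, 2, 1, 4, 6, 0, 4, 4, 2, 5, 0, 5, 2, 4, 2, 1], true, 4, [4, 7, 3, 3, 0, 4, 6, 1, 3, 5, 0, 2, 4, 1]⟩, [37, (-14), 1, (-19), (-30), (-18), 17, 3, 8, 0, (-8), 0, (-2), 4]⟩, .scan 0 4 [4, 7, 3, 3, 0, 4, 6, 1, 3, 5, 0, 2, 4, 1] [.tok, .step 59 []])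
  , (⟨⟨4, [4, 1, 3, 3, 5, 1, 2, 5, 1], false, 4, [4, 7, 3, 3, 0, 4, 6, 1, 3, 5, 0, 2, 4, 1]⟩, [(-83), 31, 20, 41, 50, 7, (-36), (-18), (-24), 0, 16, 0, (-2), 2]⟩, .cmp 2 [7, 5, 2, 1, 4, 6, 0, 4, 4, 2, 5, 0, 5, 2, 4, 2, 1] [.stab 16 false [4, 7, 4, 1, 2, 0, 4, 6, 3, 1, 3, 4, 3, 4, 3, 1, 4, 2], .stab 16 false [6, 5, 5, 2, 0, 4, 6, 0, 4, 4, 2, 5, 0, 5, 2, 4, 2, 1], .stab 19 false [5, 7, 1, 4, 6, 5, 3, 5, 3, 0, 2, 4, 2, 2], .stab 16 false [6, 5, 5, 2, 5, 0, 4, 6, 2, 4, 4, 2, 0, 2, 2, 4, 0, 2, 1], .stab 15 false [1, 5, 6, 3, 4, 6, 2, 2, 5, 0, 4, 3, 3, 5, 3, 5], .stab 15 false [5, 6, 2, 2, 4, 4, 6, 4, 4, 3, 3, 5, 3, 1, 2, 4, 1], .stab 19 false [0, 3, 4, 2, 0, 4, 6, 2, 4, 2, 2, 0, 5, 2, 2, 1, 4], .stab 16 false [4,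 2, 5, 6, 3, 5, 0, 4, 2, 2, 4, 0, 3, 4, 1], .step 55 [11, 2, 15, 4, 13]] [.step 60 []])
  , (⟨⟨4, [1, 2, 5, 0, 5, 1, 4, 6, 0, 5, 0, 5, 2, 0, 2, 2, 1, 2, 2], true, 3, [4, 2, 0, 4, 1, 4, 6, 1, 5, 2, 4, 0, 3, 3, 0]⟩, [(-160), 57, 14, 67, 110, 54, (-76), (-20), (-35), 0, 29, 0, 1, (-5)]⟩, .scan 19 3 [4, 2, 0, 4, 1, 4, 6, 1, 5, 2, 4, 0, 3, 3, 0] [.tok, .stab 46 false [5, 1, 4, 1, 4, 6, 0, 4, 3, 0, 3, 5, 0, 0, 2, 5], .stab 51 false [3, 5, 0, 3, 0, 4, 6, 0, 2, 0, 3, 0, 4, 1, 3, 4, 1, 3], .stab 51 false [5, 1, 4, 6, 0, 3, 5, 0, 3, 3, 5, 2, 5], .stab 46 false [7, 4, 4, 3, 3, 4, 6, 1, 2, 2, 5, 2, 1, 5, 0, 3, 1], .stab 46 false [5, 2, 0, 2, 4, 6, 3, 4, 1, 4, 3, 1, 5, 2, 5], .stab 46 false [4, 2, 1, 5, 3, 4, 6, 2, 1, 5,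 3, 5, 1, 4, 0, 2], .stab 46 false [5, 6, 0, 4, 2, 4, 1, 2, 1, 4], .stab 46 true [4, 2, 1, 5, 3, 4, 6, 2, 1, 5, 3, 5, 1, 4, 0, 2], .stab 46 true [5, 2, 0, 2, 4, 6, 3, 4, 1, 4, 3, 1, 5, 2, 5], .stab 46 true [7, 4, 4, 3, 3, 4, 6, 1, 2, 2, 5, 2, 1, 5, 0, 3, 1], .stab 46 true [5, 1, 4, 6, 0, 3, 5, 0, 3, 3, 5, 2, 5], .stab 51 true [3, 5, 0, 3, 0, 4, 6, 0, 2, 0, 3, 0, 4, 1, 3, 4, 1, 3], .stab 51 true [5, 1, 4, 1, 4, 6, 0, 4, 3, 0, 3, 5, 0, 0, 2, 5], .stab 46 true [2, 0, 5, 2, 0, 4, 6, 3, 5, 0, 2, 5, 0, 0, 2, 0, 4], .step 41 [0, 0, 12, 14, 1, 6], .tok, .stab 7 false [6, 3, 4, 1, 2, 4, 6, 5, 3, 0, 4, 3, 3, 0, 2, 1], .stab 8 false [7, 3, 4, 1, 2, 4, 6, 0, 4, 0, 5, 2, 4, 0, 3, 0, 2], .stab 6 false [6, 4, 3, 0, 4, 6, 0,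 2, 0, 3, 1, 4, 3, 5, 5, 2], .stab 6 true [7, 3, 4, 1, 2, 4, 6, 0, 4, 0, 5, 2, 4, 0, 3, 0, 2], .stab 7 true [6, 3, 4, 3, 0, 4, 6, 2, 4, 4, 2, 0, 3, 1, 5, 3, 4], .stab 12 true [6, 2, 0, 4, 3, 0, 4, 6, 0, 2, 2, 5, 1, 3, 3, 5, 1, 2], .stab 12 true [6, 1, 4, 3, 0, 4, 6, 0, 2, 4, 1, 3, 5, 5, 3, 1, 3, 4], .stab 8 true [7, 0, 4, 3, 0, 4, 6, 0, 3, 0, 4, 1, 5, 1, 4, 2, 4, 1], .stab 6 true [7, 0, 3, 4, 3, 0, 4, 6, 3, 5, 0, 3, 5, 3, 1, 2, 5, 1], .step 10 [0, 6, 12, 6, 14, 12], .tok, .stab 12 false [1, 5, 6, 0, 4, 6, 0, 5, 3, 4, 3, 5, 0, 3, 0, 2], .stab 6 false [2, 5, 7, 4, 0, 4, 6, 2, 5, 2, 5, 0, 3, 3, 1, 3, 3], .stab 7 false [2, 4, 7, 3, 3, 4, 6, 1, 4, 2, 4, 2, 1, 4, 2, 0, 3, 3], .stab 6 false [3, 5, 6, 1, 3, 0, 4, 6,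 3, 0, 2, 5, 2, 2, 1, 3, 5, 3, 1], .stab 6 false [3, 0, 4, 6, 2, 4, 6, 4, 2, 0, 2, 5, 1, 3, 5, 0, 4], .stab 6 false [6, 4, 6, 4, 1, 3, 1, 5, 2, 0, 5, 5, 2, 2], .stab 6 true [3, 0, 4, 6, 2, 4, 6, 4, 2, 0, 2, 5, 1, 3, 5, 0, 4], .stab 12 true [1, 2, 5, 6, 2, 0, 4, 6, 4, 2, 0, 2, 4, 2, 0, 3, 3, 4], .stab 12 true [4, 0, 4, 7, 4, 6, 2, 4, 0, 2, 0, 4, 3, 0, 2, 0], .stab 7 true [2, 0, 5, 6, 1, 4, 6, 2, 2, 0, 2, 2, 0, 4, 1, 4, 0], .stab 12 true [4, 6, 0, 2, 0, 4, 6, 3, 4, 0, 2, 4, 3, 4, 0], .stab 6 true [2, 4, 2, 4, 7, 4, 6, 0, 4, 1, 3, 3, 5, 5, 3, 1, 2], .stab 12 true [1, 1, 5, 6, 2, 4, 6, 2, 5, 5, 0, 3, 1, 5, 3, 0, 2, 1], .step 58 [0, 8, 14], .tok])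
  , (⟨⟨3, [4, 2, 0, 4, 1, 4, 6, 1, 5, 2, 4, 0, 3, 3, 0], true, 4, [1, 2, 5, 0, 5, 1, 4, 6, 3, 3, 0, 5, 3, 3, 1, 4, 3]⟩, [160, (-57), (-14), (-67), (-110), (-54), 76, 20, 36, 0, (-29), 0, (-1), 5]⟩, .scan 0 4 [1, 2, 5, 0, 5, 1, 4, 6, 3, 3, 0, 5, 3, 3, 1, 4, 3] [.tok, .step 62 []])
  , (⟨⟨2, [6, 4, 4, 6, 5, 2, 0, 4, 6, 4, 1, 5, 3, 0, 3, 4, 0, 3], true, 4, [4, 2, 2, 5, 6, 4, 1, 2, 1, 4, 3, 3, 1, 5, 2]⟩, [43, (-16), (-1), (-21), (-31), (-23), 19, (-5), 6, 0, (-8), 0, (-1), 4]⟩, .scan 4 4 [4, 2, 2, 5, 6, 4, 1, 2, 1, 4, 3, 3, 1, 5, 2] [.tok, .step 57 [2, 4, 9, 12, 2], .tok, .stab 6 false [2, 1, 5, 0, 5, 6, 0, 2, 2, 1, 3, 1], .stab 8 false [5, 5, 3, 3, 4, 6, 1, 3, 3, 1, 2, 1], .stab 7 false [4, 3, 3, 4, 4, 6, 0, 3,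 3, 0, 2, 0], .stab 8 false [3, 4, 1, 2, 0, 5, 6, 0, 2, 0, 3, 1, 2], .stab 6 false [2, 0, 3, 5, 0, 4, 6, 2, 1, 3, 1, 3], .stab 7 false [5, 7, 3, 4, 2, 4, 6, 3, 4, 4, 3, 0, 4, 1, 5, 1, 2], .stab 6 false [3, 5, 0, 4, 0, 5, 6, 0, 2, 2, 1, 3, 1, 2], .stab 6 false [6, 0, 2, 1, 3, 3], .step 13 [10, 10, 12, 14], .tok])
  , (⟨⟨4, [4, 2, 2, 5, 6, 4, 1, 2, 1, 4, 3, 3, 1, 5, 2], true, 2, [6, 4, 4, 6, 5, 2, 0, 4, 6, 0, 4, 3, 5, 2, 1, 2, 5, 1]⟩, [(-43), 16, 1, 21, 31, 23, (-19), 5, (-5), 0, 8, 0, 1, (-4)]⟩, .scan 0 2 [6, 4, 4, 6, 5, 2, 0, 4, 6, 0, 4, 3, 5, 2, 1, 2, 5, 1] [.tok, .step 64 []])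
  , (⟨⟨4, [5, 1, 4, 7, 0, 4, 6, 0, 0, 3, 0, 2, 0, 3, 4, 3, 3, 5], true, 1, [6, 5, 5, 2, 5, 0, 4, 6, 3, 4, 1, 5, 3, 0, 4]⟩, [11, 15, (-15), (-15), 7, 35, 22, 1, 16, (-1), (-6), 1, 1, (-4)]⟩, .scan 12 1 [6, 5, 5, 2, 5, 0, 4, 6, 3, 4, 1, 5, 3, 0, 4] [.tok, .stab 12 false [5, 1, 3, 1, 5, 0, 4, 1, 2], .stab 12 false [1, 4, 3, 3, 1, 4, 4, 1, 2, 5], .stab 6 true [4, 2, 2, 0, 5, 3, 3, 1, 3], .step 9 [4, 10, 12, 14, 12, 11, 4, 13], .tok, .stab 6 false [2, 5, 3, 4, 1, 4, 6, 3, 3, 0, 3, 1], .stab 8 false [2, 5, 1, 3, 1, 4, 6, 0, 3, 0, 3, 3, 1, 3, 3], .stab 12 false [0, 3, 4, 2, 4, 6, 1, 1, 3, 1, 2], .stab 12 false [4, 3, 3, 5, 5, 6, 1, 1, 2, 2, 1, 3], .stab 6 false [2, 5, 2, 0, 4, 0, 4, 6, 1, 3, 3, 1, 3], .stab 6 false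 [1, 5, 1, 5, 3, 5, 6, 2, 0, 3], .stab 8 false [6, 1, 1, 1, 3], .step 13 [12], .tok, .stab 19 false [4, 3, 5, 7, 5, 1, 4, 6, 3, 5, 2, 1, 2, 5, 0, 4, 3], .stab 15 false [0, 4, 2, 2, 4, 4, 6, 1, 5, 5, 3, 5, 3, 3, 1, 5], .stab 16 false [1, 5, 2, 1, 5, 6, 0, 3, 4, 0, 3, 0, 4, 1, 4, 3], .stab 15 false [5, 2, 0, 2, 4, 6, 4, 0, 0, 3, 5, 2, 0, 2], .stab 15 false [6, 3, 4, 4, 3, 4, 6, 0, 0, 4, 0, 3, 0, 2, 4, 0, 3], .stab 19 false [5, 6, 4, 2, 5, 0, 2, 5, 1, 4, 3], .stab 19 true [6, 3, 4, 4, 3, 4, 6, 0, 0, 4, 0, 3, 0, 2, 4, 0, 3], .stab 15 true [5, 2, 0, 2, 4, 6, 4, 0, 0, 3, 5, 2, 0, 2], .stab 16 true [5, 3, 4, 6, 5, 1, 4, 6, 3, 5, 2, 1, 2, 5, 0, 4, 3], .stab 19 true [6, 5, 6, 2, 1, 3, 4, 6, 2, 2, 5, 3, 5, 3, 0], .stab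 16 true [6, 4, 4, 6, 5, 2, 0, 4, 6, 0, 4, 1, 3, 5, 1, 2, 2, 1, 4, 3], .step 64 [1, 3, 15, 6, 12, 10], .tok])
  , (⟨⟨1, [6, 5, 5, 2, 5, 0, 4, 6, 3, 4, 1, 5, 3, 0, 4], true, 4, [5, 1, 4, 7, 0, 4, 6, 3, 1, 5, 2, 1, 5, 2, 2, 4]⟩, [(-11), (-15), 15, 15, (-7), (-35), (-22), (-1), (-15), 1, 6, (-1), (-1), 4]⟩, .scan 0 4 [5, 1, 4, 7, 0, 4, 6, 3, 1, 5, 2, 1, 5, 2, 2, 4] [.tok, .step 66 []])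
  , (⟨⟨4, [0, 2, 5, 6, 2, 0, 4, 6, 1, 4, 4, 3, 1, 5, 2, 5, 2, 1], false, 4, [5, 1, 4, 7, 0, 4, 6, 3, 1, 5, 2, 1, 5, 2, 2, 4]⟩, [(-84), 10, 22, 56, 45, (-15), (-61), (-4), (-34), 1, 23, (-1), 0, 0]⟩, .cmp 1 [6, 5, 5, 2, 5, 0, 4, 6, 3, 4, 1, 5, 3, 0, 4] [.stab 6 false [0, 5, 6, 0, 4, 6, 0, 0, 4, 0, 2, 2, 0, 2, 4, 0], .stab 7 false [1, 4, 7, 0, 4, 6, 0, 0, 4, 0, 2, 2, 0, 2, 4, 0], .stab 8 false [6, 4, 6, 2, 1, 3, 5, 1, 3, 4, 3, 0, 2], .stab 6 true [3, 0, 4, 6, 2, 4, 6, 1, 2, 5, 0, 4, 0, 4, 2, 5], .stab 12 true [1, 2, 5, 6, 2, 0, 4, 6, 3, 0, 4, 0, 3, 4, 3, 5, 3], .stab 12 true [4, 0, 4, 7, 4, 6, 3, 1, 5, 3, 0, 2, 0, 4, 2, 2, 1], .stab 7 true [2, 0, 5, 6, 1, 4, 6, 3, 3, 1, 4, 2, 0, 4, 3, 0, 4, 0], .stab 12 true [4,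 6, 0, 2, 0, 4, 6, 2, 0, 3, 4, 3, 4, 3, 5, 2, 4, 0], .stab 6 true [2, 4, 2, 4, 7, 4, 6, 2, 1, 3, 5, 0, 2, 1, 3, 3], .stab 12 true [1, 1, 5, 6, 2, 4, 6, 4, 2, 2, 4, 1, 4, 3, 0, 3, 3], .step 58 [1, 1, 10, 1, 4]] [.step 67 []])
  , (⟨⟨4, [4, 2, 5, 5, 1, 4, 6, 3, 5, 3, 4, 0, 4, 3, 0, 3, 1], true, 2, [7, 4, 6, 0, 0, 5, 3, 0, 5, 2, 1, 2, 2]⟩, [18, 1, (-16), (-10), 0, 27, 14, 20, 15, 0, (-4), 0, 2, (-6)]⟩, .scan 14 2 [7, 4, 6, 0, 0, 5, 3, 0, 5, 2, 1, 2, 2] [.tok, .step 14 [0, 10, 12, 15, 1, 6, 11, 13], .tok, .stab 6 false [5, 6, 2, 5, 2, 4, 6, 3, 0, 5, 3, 3, 0, 2, 4, 1, 4], .stab 12 false [3, 1, 4, 2, 0, 5, 6, 3, 0, 3, 3, 1, 3], .stab 8 false [6, 2, 5, 2, 4, 6, 2, 0, 2, 2, 1, 4, 2, 0, 4, 3, 1], .stab 12 false [1, 3,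 5, 2, 5, 6, 2, 1, 3, 3, 1, 2], .stab 6 false [4, 6, 4, 4, 1, 4, 6, 0, 2, 5, 3, 3, 0, 2, 1, 2, 2, 4], .stab 6 false [3, 3, 5, 0, 4, 6, 2, 1, 3, 3, 1], .stab 12 false [6, 0, 0, 3], .step 13 [11, 11], .tok, .stab 19 false [1, 4, 0, 4, 2, 4, 6, 0, 2, 1, 2, 2, 5, 1, 2, 2, 5, 2], .stab 16 false [5, 2, 4, 1, 4, 6, 1, 1, 3, 3, 5, 1, 2, 2, 5, 2], .stab 19 false [5, 7, 1, 3, 4, 6, 2, 1, 3, 1, 3, 5, 3, 5, 5, 1, 3, 3], .stab 19 false [6, 3, 4, 4, 3, 4, 6, 1, 4, 2, 0, 2, 1, 5, 2], .stab 19 false [5, 6, 4, 2, 2, 1, 3, 5, 1, 5, 5], .stab 19 true [6, 3, 4, 4, 3, 4, 6, 1, 4, 2, 0, 2, 1, 5, 2], .stab 15 true [5, 2, 0, 2, 4, 6, 4, 1, 1, 3, 4, 1, 3, 3, 5], .stab 16 true [5, 3, 4, 6, 5, 1, 4, 6, 4, 3, 4, 3, 3, 0, 4, 2, 0, 2], .stab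 19 true [6, 5, 6, 2, 1, 3, 4, 6, 2, 2, 5, 3, 5, 1, 3, 5], .stab 16 true [6, 4, 4, 6, 5, 2, 0, 4, 6, 2, 2, 5, 2, 0, 3, 4, 3, 1], .step 64 [1, 15, 1, 4], .tok])
  , (⟨⟨2, [7, 4, 6, 0, 0, 5, 3, 0, 5, 2, 1, 2, 2], true, 4, [4, 2, 5, 5, 1, 4, 6, 5, 3, 1, 4, 3, 5, 2, 2, 5]⟩, [(-18), (-1), 16, 10, 0, (-27), (-14), (-20), (-14), 0, 4, 0, (-2), 6]⟩, .scan 0 4 [4, 2, 5, 5, 1, 4, 6, 5, 3, 1, 4, 3, 5, 2, 2, 5] [.tok, .step 69 []])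
  , (⟨⟨4, [3, 3, 4, 0, 5, 6, 0, 0, 5, 2, 2, 5, 0, 5, 3, 0, 2], true, 3, [7, 3, 3, 0, 2, 4, 6, 0, 5, 2, 4, 4, 0, 3, 4, 3, 1, 2]⟩, [(-115), 54, 1, 42, 90, 64, (-35), (-15), (-17), 0, 17, 0, 1, (-5)]⟩, .scan 20 3 [7, 3, 3, 0, 2, 4, 6, 0, 5, 2, 4, 4, 0, 3, 4, 3, 1, 2] [.tok, .stab 46 false [5, 1, 4, 1, 4, 6, 2, 5, 3, 0, 5, 2, 1, 3, 3, 1], .stab 51 false [3, 5, 0, 3, 0, 4, 6, 3, 3, 4, 0, 4, 2, 1, 2, 4], .stab 51 false [5, 1, 4, 6, 2, 0, 3, 3, 5, 1, 3, 3, 5, 0, 5], .stab 46 false [7, 4, 4, 3, 3, 4, 6, 0, 3, 0, 2, 2, 5, 2, 1, 4], .stab 46 false [5, 2, 0, 2, 4, 6, 0, 2, 4, 0, 4, 3, 1, 3, 4, 3], .stab 46 false [4, 2, 1, 5, 3, 4, 6, 3, 3, 0, 3, 5, 3, 0, 5, 5], .stab 46 false [5, 6, 0, 3, 5, 0, 2, 0, 5, 3, 1, 3], .stab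 46 true [4, 2, 1, 5, 3, 4, 6, 3, 3, 0, 3, 5, 3, 0, 5, 5], .stab 46 true [5, 2, 0, 2, 4, 6, 0, 2, 4, 0, 4, 3, 1, 3, 4, 3], .stab 46 true [7, 4, 4, 3, 3, 4, 6, 0, 3, 0, 2, 2, 5, 2, 1, 4], .stab 46 true [5, 1, 4, 6, 2, 0, 3, 3, 5, 1, 3, 3, 5, 0, 5], .stab 51 true [3, 5, 0, 3, 0, 4, 6, 3, 3, 4, 0, 4, 2, 1, 2, 4], .stab 51 true [5, 1, 4, 1, 4, 6, 2, 5, 3, 0, 5, 2, 1, 3, 3, 1], .stab 46 true [2, 0, 5, 2, 0, 4, 6, 3, 5, 1, 4, 3, 0, 3, 3, 5, 1], .step 41 [2, 4, 12, 2], .tok, .stab 7 false [3, 5, 2, 2, 4, 6, 1, 3, 4, 2, 5, 1, 2, 1, 4], .stab 6 false [4, 2, 1, 4, 0, 5, 6, 0, 3, 0, 4, 0, 2, 4, 0, 4, 2], .stab 7 false [4, 1, 5, 5, 2, 4, 6, 3, 4, 1, 3, 3, 1, 5, 1, 5, 3], .stab 12 false [5, 5, 1, 3, 4, 6, 3, 0, 2, 5, 0, 4,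 2, 0, 5, 1, 2], .stab 8 false [5, 7, 3, 4, 2, 4, 6, 3, 5, 1, 2, 4, 4, 2, 1, 5], .stab 6 false [3, 5, 0, 4, 0, 5, 6, 1, 5, 3, 1, 5, 3, 4, 2], .stab 6 false [6, 5, 3, 0, 3, 3, 1, 4, 2, 4, 1], .step 13 [4, 10, 15, 4, 13], .tok, .stab 19 false [4, 0, 4, 3, 3, 4, 6, 2, 5, 0, 3, 0, 3, 4, 3, 1, 4], .stab 16 false [0, 4, 2, 5, 2, 2, 4, 6, 4, 0, 3, 1, 3, 4, 0, 2, 1, 5], .stab 15 false [4, 3, 4, 1, 3, 4, 6, 0, 2, 4, 0, 5, 3, 0, 5, 2, 0, 5], .stab 19 false [2, 1, 3, 4, 6, 3, 1, 2, 4, 2, 0, 3, 1, 4, 4], .stab 16 false [3, 3, 0, 2, 4, 6, 0, 2, 0, 5, 3, 0, 3, 3, 0, 3, 4, 4], .stab 15 false [1, 5, 6, 0, 2, 0, 4, 3, 1, 3, 3, 1, 3, 4, 4], .stab 15 false [5, 6, 0, 5, 2, 2, 0, 5, 3, 0, 2, 4, 2], .stab 19 true [6, 3, 4, 4, 3, 4,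 6, 2, 1, 2, 5, 0, 3, 0, 4, 2, 1, 5], .stab 15 true [5, 2, 0, 2, 4, 6, 0, 2, 0, 5, 3, 4, 1, 4, 3, 3, 0, 3], .stab 16 true [5, 3, 4, 6, 5, 1, 4, 6, 1, 3, 5, 3, 5, 0, 2, 4, 1, 4], .stab 19 true [6, 5, 6, 2, 1, 3, 4, 6, 3, 4, 1, 3, 3, 5, 0, 3, 5], .stab 16 true [6, 4, 4, 6, 5, 2, 0, 4, 6, 1, 2, 5, 0, 4, 2, 2, 0], .step 64 [10, 8, 12, 2, 10, 15, 13, 11], .tok])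
  , (⟨⟨3, [7, 3, 3, 0, 2, 4, 6, 0, 5, 2, 4, 4, 0, 3, 4, 3, 1, 2], true, 4, [3, 3, 4, 0, 5, 6, 4, 2, 2, 1, 4, 3, 4, 4, 1, 2]⟩, [115, (-54), (-1), (-42), (-90), (-64), 35, 15, 18, 0, (-17), 0, (-1), 5]⟩, .scan 0 4 [3, 3, 4, 0, 5, 6, 4, 2, 2, 1, 4, 3, 4, 4, 1, 2] [.tok, .step 71 []])
  , (⟨⟨4, [1, 5, 0, 3, 3, 5, 6, 1, 1, 2], true, 3, [4, 4, 2, 5, 6, 4, 6, 1, 1, 3, 5, 1, 4, 1, 5, 3]⟩, [(-90), 41, 5, 31, 69, 38, (-27), (-19), (-15), 0, 13, 0, 0, (-2)]⟩, .scan 21 3 [4, 4, 2, 5, 6, 4, 6, 1, 1, 3, 5, 1, 4, 1, 5, 3] [.tok, .stab 46 false [5, 1, 4, 1, 4, 6, 0, 2, 4, 2, 2, 4, 1, 2, 4, 4, 2], .stab 51 false [3, 5, 0, 3, 0, 4, 6, 0, 2, 0, 3, 5, 1, 3, 3, 5, 5], .stab 51 false [5, 1, 4, 6, 0, 5, 2, 4, 4, 3, 0, 3, 3], .stab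 46 false [7, 4, 4, 3, 3, 4, 6, 4, 3, 5, 1, 3, 1, 5, 2, 4], .stab 46 false [5, 2, 0, 2, 4, 6, 2, 2, 1, 4, 4, 3, 4, 1, 5], .stab 46 false [4, 2, 1, 5, 3, 4, 6, 0, 3, 3, 4, 0, 5, 0, 3, 4], .stab 46 false [5, 6, 0, 2, 0, 4, 0, 5, 3, 5, 3, 3], .stab 46 true [4, 2, 1, 5, 3, 4, 6, 0, 3, 3, 4, 0, 5, 0, 3, 4], .stab 46 true [5, 2, 0, 2, 4, 6, 2, 2, 1, 4, 4, 3, 4, 1, 5], .stab 46 true [7, 4, 4, 3, 3, 4, 6, 4, 3, 5, 1, 3, 1, 5, 2, 4], .stab 46 true [5, 1, 4, 6, 0, 5, 2, 4, 4, 3, 0, 3, 3], .stab 51 true [3, 5, 0, 3, 0, 4, 6, 0, 2, 0, 3, 5, 1, 3, 3, 5, 5], .stab 51 true [5, 1, 4, 1, 4, 6, 0, 2, 4, 2, 2, 4, 1, 2, 4, 4, 2], .stab 46 true [2, 0, 5, 2, 0, 4, 6, 3, 4, 0, 2, 1, 5, 2, 5, 2, 4], .step 41 [14, 0, 12, 5], .tok, .stab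 6 false [4, 1, 4, 2, 5, 0, 4, 6, 0, 2, 2, 4, 2, 2, 1, 2, 4, 2], .stab 7 false [2, 5, 2, 4, 0, 5, 6, 0, 5, 3, 0, 4, 4, 0, 4, 2], .stab 6 false [5, 0, 3, 3, 5, 3, 4, 6, 1, 2, 4, 2, 2, 1, 2, 4, 2], .stab 12 false [0, 5, 0, 2, 0, 4, 6, 1, 2, 4, 1, 2, 2, 4, 1, 5, 3, 4], .stab 7 false [1, 4, 1, 2, 1, 4, 6, 1, 2, 4, 1, 2, 2, 4, 1, 5, 3, 4], .stab 12 false [3, 1, 5, 0, 4, 0, 4, 6, 2, 0, 4, 4, 2, 2, 0, 2, 4, 2], .stab 7 false [3, 5, 0, 4, 0, 5, 6, 1, 2, 1, 4, 2, 2, 1, 2, 4, 2], .stab 6 false [6, 3, 0, 5, 2, 4, 4, 0, 4, 3, 5], .step 13 [9, 11, 2, 13, 0], .tok, .stab 15 false [2, 5, 5, 3, 3, 1, 4, 6, 0, 4, 0, 0, 0, 5, 3, 5, 5, 3], .stab 16 false [6, 4, 1, 5, 3, 4, 6, 2, 2, 4, 1, 5, 2, 4, 2, 1, 3], .stab 19 false [4, 2,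 5, 6, 0, 5, 0, 4, 3, 4, 0, 0, 2, 2], .step 55 [0, 12, 4, 13, 0], .tok])
  , (⟨⟨3, [4, 4, 2, 5, 6, 4, 6, 1, 1, 3, 5, 1, 4, 1, 5, 3], true, 4, [1, 5, 0, 3, 3, 5, 6, 2]⟩, [90, (-41), (-5), (-31), (-69), (-38), 27, 19, 16, 0, (-13), 0, 0, 2]⟩, .scan 0 4 [1, 5, 0, 3, 3, 5, 6, 2] [.tok, .step 73 []])
  , (⟨⟨4, [3, 3, 4, 0, 5, 6, 0, 3, 5, 3, 0, 3, 3, 5, 0, 3], false, 4, [1, 5, 0, 3, 3, 5, 6, 2]⟩, [233, (-80), 10, (-101), (-146), (-135), 118, (-25), 28, 0, (-48), 6, 1, 15]⟩, .cmp 3 [4, 4, 2, 5, 6, 4, 6, 1, 1, 3, 5, 1, 4, 1, 5, 3] [.stab 51 false [3, 4, 4, 7, 3, 4, 6, 1, 5, 5, 2, 4, 2, 5, 2], .stab 51 false [4, 3, 1, 2, 5, 6, 1, 2, 4, 2, 4, 1, 1, 2, 2, 4], .stab 46 false [7, 3, 5, 3, 4, 6, 0, 3, 0, 3, 5, 3, 5, 1, 2,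 2], .stab 46 false [5, 1, 4, 1, 2, 1, 4, 6, 0, 5, 5, 3, 3, 0, 4, 4, 3, 3], .stab 46 false [5, 5, 2, 5, 0, 4, 6, 5, 5, 3, 0, 5, 2, 1, 2, 5], .stab 51 false [2, 4, 1, 3, 1, 4, 6, 1, 5, 3, 0, 3, 3, 0, 4, 3, 0], .stab 51 false [4, 0, 5, 3, 3, 4, 6, 4, 2, 2, 4, 0, 5, 5, 3, 3], .stab 51 false [0, 4, 3, 5, 2, 4, 6, 1, 3, 1, 4, 1, 3, 3, 5, 5], .stab 46 false [4, 4, 3, 3, 1, 4, 6, 0, 2, 5, 2, 2, 1, 4, 2, 1, 3], .stab 46 false [4, 3, 5, 7, 2, 4, 6, 1, 2, 1, 3, 5, 3, 5, 1, 3, 4], .stab 46 false [7, 5, 0, 3, 0, 4, 6, 1, 4, 2, 1, 4, 2, 2, 0, 4, 3, 5], .stab 51 false [4, 2, 2, 1, 2, 4, 0, 5, 5, 2, 2], .stab 46 true [1, 3, 0, 4, 2, 4, 6, 2, 0, 3, 5, 3, 4, 0, 2, 4, 3], .stab 46 true [5, 5, 2, 4, 3, 4, 6, 0, 2, 4, 1, 4, 3, 0,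 5, 2, 0], .stab 46 true [3, 4, 7, 3, 4, 6, 1, 1, 3, 4, 1, 5, 2, 1, 4, 3, 5], .stab 46 true [7, 1, 4, 3, 0, 4, 6, 2, 4, 0, 2, 2, 5, 1, 2, 2, 1, 2], .stab 46 true [7, 3, 3, 0, 2, 4, 6, 4, 4, 3, 3, 4, 0, 5, 3, 0, 4], .step 72 [1, 10, 14, 11, 7, 0]] [.step 74 []])
  , (⟨⟨2, [2, 4, 4, 1, 2, 2, 4, 6, 2, 1, 2, 5, 1, 5, 2, 2, 0, 4], true, 4, [5, 1, 3, 4, 0, 4, 6, 3, 3, 5, 5, 1, 2, 2, 5, 3, 0]⟩, [103, (-26), (-15), (-55), (-65), (-21), 59, (-4), 26, 0, (-24), 1, 0, 4]⟩, .scan 12 4 [5, 1, 3, 4, 0, 4, 6, 3, 3, 5, 5, 1, 2, 2, 5, 3, 0] [.tok, .stab 68 false [6, 4, 4, 1, 3, 0, 4, 6, 3, 4, 2, 5, 2, 2, 0, 4, 4], .stab 75 false [4, 2, 0, 5, 6, 0, 2, 2, 4, 2, 0, 2, 4, 3, 3], .stab 61 false [4, 0, 3, 3, 4, 6, 1, 2, 5, 2, 2, 4,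 2, 1, 5], .stab 61 false [4, 2, 2, 4, 6, 1, 5, 2, 0, 3, 0, 2, 5, 3, 4], .stab 61 true [4, 0, 3, 3, 4, 6, 1, 2, 5, 2, 2, 4, 2, 1, 5], .stab 61 true [4, 2, 0, 5, 6, 0, 2, 2, 4, 2, 0, 2, 4, 3, 3], .stab 75 true [6, 4, 4, 1, 3, 0, 4, 6, 3, 4, 2, 5, 2, 2, 0, 4, 4], .stab 68 true [0, 2, 5, 6, 2, 0, 4, 6, 2, 0, 3, 1, 4, 3, 3, 0, 2], .step 57 [11, 4, 13, 7, 10], .tok, .stab 8 false [5, 5, 2, 5, 3, 4, 6, 2, 0, 3, 5, 3, 3, 4, 0, 2, 4, 2, 1], .stab 7 false [4, 7, 2, 5, 2, 4, 6, 0, 2, 0, 2, 2, 1, 3, 5, 2, 5, 2], .stab 12 false [3, 5, 5, 1, 5, 0, 4, 6, 0, 0, 2, 4, 2, 0, 3, 0, 2, 5, 5], .stab 7 false [3, 4, 0, 5, 0, 4, 6, 0, 0, 2, 4, 2, 0, 3, 0, 2, 5, 5], .stab 7 false [3, 1, 5, 0, 4, 0, 4, 6, 1, 2, 5, 2, 1, 3, 1, 2, 5, 5],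 .stab 7 false [3, 5, 0, 4, 0, 5, 6, 2, 5, 5, 2, 0, 3, 1, 2, 5, 5], .stab 6 false [6, 3, 5, 3, 0, 4, 4, 2, 2, 5, 5], .step 13 [7, 11, 3, 12, 14, 7], .tok, .stab 15 false [3, 1, 5, 7, 3, 4, 6, 2, 0, 5, 3, 5, 5, 0, 3, 5, 0], .stab 19 false [7, 0, 2, 5, 2, 0, 4, 6, 5, 5, 0, 5, 2, 0, 3, 1, 2], .stab 15 false [7, 0, 4, 0, 4, 6, 0, 2, 1, 4, 2, 2, 1, 2, 4, 4], .stab 16 false [3, 4, 7, 0, 4, 6, 0, 2, 0, 5, 3, 4, 0, 2, 5, 0], .stab 19 false [1, 5, 3, 5, 1, 4, 6, 2, 2, 5, 0, 2, 1, 3, 1, 3, 4, 4], .stab 16 false [5, 2, 1, 5, 2, 2, 4, 6, 2, 2, 4, 0, 2, 0, 3, 0, 3, 4, 4], .stab 19 false [3, 4, 4, 0, 4, 6, 0, 4, 0, 4, 4, 3, 5, 2, 1], .stab 16 false [5, 2, 0, 3, 3, 5, 6, 3, 0, 5, 2, 5, 1, 3, 1, 4, 0], .stab 16 false [3, 5,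 1, 5, 6, 2, 1, 4, 1, 4, 3, 4, 1, 5], .stab 16 true [5, 2, 0, 3, 3, 5, 6, 3, 0, 5, 2, 5, 1, 3, 1, 4, 0], .stab 16 true [3, 4, 4, 0, 4, 6, 0, 4, 0, 4, 4, 3, 5, 2, 1], .stab 19 true [5, 2, 1, 5, 2, 2, 4, 6, 2, 2, 4, 0, 2, 0, 3, 0, 3, 4, 4], .stab 16 true [1, 5, 3, 5, 1, 4, 6, 2, 2, 5, 0, 2, 1, 3, 1, 3, 4, 4], .stab 19 true [3, 4, 7, 0, 4, 6, 0, 2, 0, 5, 3, 4, 0, 2, 5, 0], .stab 16 true [7, 0, 4, 0, 4, 6, 0, 2, 1, 4, 2, 2, 1, 2, 4, 4], .stab 15 true [7, 0, 2, 5, 2, 0, 4, 6, 5, 5, 0, 5, 2, 0, 3, 1, 2], .stab 19 true [3, 1, 5, 7, 3, 4, 6, 2, 0, 5, 3, 5, 5, 0, 3, 5, 0], .stab 16 true [2, 2, 4, 7, 2, 4, 6, 2, 1, 3, 5, 0, 3, 5, 3, 0, 3], .step 23 [2, 7, 7, 10, 12, 14], .tok])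
  , (⟨⟨4, [5, 1, 3, 4, 0, 4, 6, 3, 3, 5, 5, 1, 2, 2, 5, 3, 0], true, 2, [2, 4, 4, 1, 2, 2, 4, 6, 5, 1, 4, 3, 1, 4, 2, 1, 4]⟩, [(-103), 26, 15, 55, 65, 21, (-59), 4, (-25), 0, 24, (-1), 0, (-4)]⟩, .scan 0 2 [2, 4, 4, 1, 2, 2, 4, 6, 5, 1, 4, 3, 1, 4, 2, 1, 4] [.tok, .step 76 []])
  , (⟨⟨2, [5, 2, 4, 2, 1, 4, 6, 0, 4, 1, 3, 5, 3, 1, 3, 4, 3, 1], true, 4, [1, 5, 0, 4, 0, 4, 6, 3, 0, 3, 4, 0, 2, 5, 5, 2]⟩, [38, (-8), (-6), (-28), (-24), 6, 23, (-8), 11, 1, (-11), 0, 0, 2]⟩, .scan 14 4 [1, 5, 0, 4, 0, 4, 6, 3, 0, 3, 4, 0, 2, 5, 5, 2] [.tok, .stab 68 false [6, 4, 4, 1, 3, 0, 4, 6, 2, 0, 3, 4, 3, 4, 4, 1, 3, 1], .stab 75 false [4, 2, 0, 5, 6, 2, 2, 5, 3, 3, 4, 2], .stab 61 false [4, 0, 3, 3, 4, 6, 0, 3, 3, 0, 3, 3,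 0, 5, 3, 4, 0, 4], .stab 61 false [4, 2, 2, 4, 6, 4, 2, 2, 0, 2, 4, 0, 3, 0, 5, 2], .stab 61 true [4, 0, 3, 3, 4, 6, 0, 3, 3, 0, 3, 3, 0, 5, 3, 4, 0, 4], .stab 61 true [4, 2, 0, 5, 6, 2, 2, 5, 3, 3, 4, 2], .stab 75 true [6, 4, 4, 1, 3, 0, 4, 6, 2, 0, 3, 4, 3, 4, 4, 1, 3, 1], .stab 68 true [0, 2, 5, 6, 2, 0, 4, 6, 3, 3, 0, 4, 2, 2, 0, 3, 0], .step 57 [12, 10, 14, 0, 13, 4, 11], .tok, .stab 7 false [6, 4, 6, 0, 4, 6, 0, 3, 1, 3, 4, 0, 5, 3, 0], .stab 7 false [7, 4, 4, 6, 1, 4, 6, 0, 3, 1, 3, 4, 0, 5, 3, 0], .stab 8 false [2, 0, 2, 4, 3, 5, 6, 5, 3, 4, 0, 2, 0, 4], .stab 6 false [5, 2, 0, 4, 0, 5, 6, 5, 2, 2, 0, 2, 5, 2, 5, 5, 0], .stab 8 false [1, 4, 1, 2, 1, 4, 6, 0, 5, 2, 2, 0, 2, 5, 2, 5, 5, 0], .stab 12 false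 [3, 1, 5, 0, 4, 0, 4, 6, 5, 2, 2, 5, 1, 2, 4, 0, 5], .stab 7 false [3, 5, 0, 4, 0, 5, 6, 0, 5, 2, 1, 5, 3, 5, 1, 3], .stab 6 false [6, 0, 4, 2, 0, 2, 2, 0, 2, 2, 0, 5, 5], .step 13 [4, 10, 12, 10, 5, 15, 13, 11], .tok, .stab 16 false [4, 6, 4, 1, 4, 6, 2, 0, 3, 5, 0, 2, 0, 4, 1, 5], .stab 15 false [0, 4, 6, 1, 4, 6, 0, 4, 2, 2, 5, 1, 2, 4, 4], .stab 19 false [4, 6, 4, 4, 2, 0, 4, 6, 0, 2, 0, 3, 5, 1, 5, 3, 3, 5, 1], .stab 16 false [3, 5, 1, 4, 6, 0, 0, 0, 0, 5, 2, 5, 3, 3, 5], .stab 19 false [3, 4, 2, 4, 2, 0, 4, 6, 0, 3, 1, 5, 2, 0, 5, 3, 0, 5, 0], .stab 16 false [2, 2, 5, 1, 2, 2, 4, 6, 1, 2, 5, 1, 4, 2, 1, 5, 1, 2], .stab 15 false [2, 0, 4, 3, 3, 0, 4, 6, 2, 5, 1, 4, 2, 1, 5, 1, 2], .stab 15 false [6, 4,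 1, 5, 3, 4, 6, 1, 3, 4, 3, 5, 1, 3, 3, 4, 0], .stab 19 false [4, 2, 5, 6, 0, 2, 0, 4, 2, 1, 5, 3, 3, 4], .stab 15 true [1, 4, 2, 2, 5, 6, 2, 5, 1, 4, 2, 2, 5, 1, 2, 5], .stab 19 true [7, 3, 5, 3, 4, 6, 0, 2, 0, 3, 5, 1, 2], .stab 16 true [1, 4, 0, 3, 5, 0, 4, 6, 5, 5, 0, 2, 4, 4, 2, 2, 4], .stab 16 true [3, 4, 2, 5, 6, 0, 2, 2, 4, 0, 5, 2, 2, 1, 3], .stab 16 true [7, 5, 1, 4, 3, 0, 4, 6, 0, 2, 0, 2, 2, 0, 2, 2, 5, 1, 2], .stab 19 true [6, 4, 3, 1, 2, 4, 6, 0, 3, 0, 2, 0, 2, 5, 2, 4, 0, 3], .stab 16 true [6, 4, 4, 0, 2, 0, 4, 6, 4, 0, 4, 1, 5, 1, 3, 1], .step 20 [6, 10, 7, 13, 11], .tok])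
  , (⟨⟨4, [1, 5, 0, 4, 0, 4, 6, 3, 0, 3, 4, 0, 2, 5, 5, 2], true, 2, [5, 2, 4, 2, 1, 4, 6, 3, 4, 4, 3, 5, 0, 3, 3, 4, 1]⟩, [(-38), 8, 6, 28, 24, (-6), (-23), 8, (-10), (-1), 11, 0, 0, (-2)]⟩, .scan 0 2 [5, 2, 4, 2, 1, 4, 6, 3, 4, 4, 3, 5, 0, 3, 3, 4, 1] [.tok, .step 78 []])
  , (⟨⟨3, [3, 4, 2, 4, 6, 0, 4, 6, 4, 1, 4, 3, 5, 1, 5, 2], true, 4, [1, 4, 1, 4, 0, 5, 6, 0, 3, 0, 5, 3, 0, 2, 4, 0, 5]⟩, [311, (-140), (-8), (-127), (-238), (-175), 116, 38, 50, 0, (-57), 2, (-2), 18]⟩, .scan 18 4 [1, 4, 1, 4, 0, 5, 6, 0, 3, 0, 5, 3, 0, 2, 4, 0, 5] [.tok, .stab 68 false [6, 4, 4, 1, 3, 0, 4, 6, 2, 4, 4, 0, 3, 1, 5, 3, 3, 0], .stab 75 false [4, 2, 0, 5, 6, 0, 3, 1, 3, 4, 2, 1, 3, 3, 1], .stab 61 false [4, 0, 3, 3, 4, 6,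 0, 5, 0, 3, 0, 2, 1, 3, 5, 5], .stab 61 false [4, 2, 2, 4, 6, 5, 5, 2, 1, 3, 4, 1, 5, 1], .stab 61 true [4, 0, 3, 3, 4, 6, 0, 5, 0, 3, 0, 2, 1, 3, 5, 5], .stab 61 true [4, 2, 0, 5, 6, 0, 3, 1, 3, 4, 2, 1, 3, 3, 1], .stab 75 true [6, 4, 4, 1, 3, 0, 4, 6, 2, 4, 4, 0, 3, 1, 5, 3, 3, 0], .stab 68 true [0, 2, 5, 6, 2, 0, 4, 6, 1, 3, 5, 0, 3, 3, 0, 5, 3], .step 57 [14, 1, 3, 14, 12], .tok, .stab 12 false [5, 2, 1, 4, 3, 5, 6, 0, 5, 2, 0, 2, 1, 3, 4, 3, 1], .stab 12 false [7, 4, 1, 3, 4, 6, 4, 1, 5, 3, 3, 5, 1, 2, 5, 1], .stab 8 false [4, 4, 3, 1, 2, 4, 6, 1, 2, 4, 2, 0, 2, 1, 3, 5], .stab 12 false [1, 2, 1, 5, 1, 4, 6, 1, 4, 3, 1, 4, 4], .stab 12 false [4, 0, 3, 3, 4, 6, 0, 2, 2, 1, 4, 3, 1, 4, 4], .stab 8 false [1,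 5, 1, 5, 3, 5, 6, 3, 1, 2, 2, 4, 3, 1, 4, 4], .stab 8 false [6, 2, 4, 4, 2, 1, 3, 1, 3, 4], .stab 12 true [3, 3, 5, 0, 4, 6, 0, 4, 2, 0, 3, 0, 3, 3, 1, 4], .stab 6 true [4, 6, 4, 4, 1, 4, 6, 1, 5, 2, 4, 2, 1, 5, 1, 2], .stab 12 true [5, 6, 5, 0, 4, 3, 4, 6, 1, 5, 2, 1, 3, 4, 0, 2, 5, 5], .stab 12 true [3, 3, 0, 4, 6, 2, 0, 2, 4, 2, 2, 0, 2, 1, 4], .stab 7 true [3, 3, 1, 4, 6, 2, 0, 2, 4, 2, 2, 0, 2, 1, 4], .step 40 [4, 6, 12, 5, 11], .tok, .stab 51 false [1, 3, 0, 5, 0, 5, 6, 4, 0, 3, 1, 2, 4, 2, 2, 1], .stab 46 false [3, 1, 3, 4, 2, 4, 6, 2, 2, 5, 1, 1, 2, 1, 4], .stab 46 false [4, 0, 5, 2, 4, 4, 6, 2, 1, 5, 1, 4, 1, 4, 3, 3, 5], .stab 51 false [1, 4, 1, 4, 2, 5, 6, 0, 2, 5, 2, 1, 5, 5, 2, 2, 4], .stab 46 false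 [4, 2, 1, 3, 3, 4, 6, 3, 1, 3, 5, 3, 4, 0, 2, 4], .stab 46 false [4, 6, 0, 5, 1, 4, 3, 3, 0, 3, 4, 3, 1, 3], .stab 46 true [4, 2, 1, 3, 3, 4, 6, 3, 1, 3, 5, 3, 4, 0, 2, 4], .stab 46 true [1, 4, 1, 4, 2, 5, 6, 0, 2, 5, 2, 1, 5, 5, 2, 2, 4], .stab 46 true [0, 2, 4, 2, 4, 6, 4, 1, 4, 0, 2, 0, 5, 0], .stab 46 true [4, 2, 5, 5, 3, 5, 6, 5, 1, 3, 1, 4, 2, 1, 5, 3], .stab 46 true [0, 2, 5, 0, 3, 0, 4, 6, 2, 0, 4, 3, 1, 5, 2, 1, 2, 2], .stab 46 true [7, 2, 1, 4, 6, 4, 2, 1, 5, 2, 5, 3], .step 53 [14, 7, 12, 15, 2, 10], .tok])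
  , (⟨⟨4, [1, 4, 1, 4, 0, 5, 6, 0, 3, 0, 5, 3, 0, 2, 4, 0, 5], true, 3, [3, 4, 2, 4, 6, 0, 4, 6, 0, 3, 1, 5, 3, 3, 5, 3, 3]⟩, [(-311), 140, 8, 127, 238, 175, (-116), (-38), (-49), 0, 57, (-2), 2, (-18)]⟩, .scan 0 3 [3, 4, 2, 4, 6, 0, 4, 6, 0, 3, 1, 5, 3, 3, 5, 3, 3] [.tok, .step 80 []])
  , (⟨⟨4, [4, 4, 6, 5, 1, 4, 6, 5, 0, 5, 0, 4, 2, 5, 5], true, 4, [1, 3, 5, 3, 3, 4, 6, 1, 4, 2, 2, 4, 1, 5, 2, 2, 0]⟩, [(-88), 50, 27, 39, 77, 16, (-25), (-64), (-33), 0, 17, 3, 1, 0]⟩, .scan 11 4 [1, 3, 5, 3, 3, 4, 6, 1, 4, 2, 2, 4, 1, 5, 2, 2, 0] [.tok, .stab 68 false [6, 4, 4, 1, 3, 0, 4, 6, 2, 4, 2, 0, 3, 3, 0, 2, 5, 5], .stab 75 false [4, 2, 0, 5, 6, 4, 2, 2, 5, 2, 4, 1, 3, 3], .stab 61 false [4, 0, 3, 3, 4, 6, 2, 0, 4,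 2, 4, 0, 3, 4, 0, 2, 5], .stab 61 false [4, 2, 2, 4, 6, 0, 3, 1, 2, 4, 0, 3, 5, 3, 3, 0], .stab 61 true [4, 0, 3, 3, 4, 6, 2, 0, 4, 2, 4, 0, 3, 4, 0, 2, 5], .stab 61 true [4, 2, 0, 5, 6, 4, 2, 2, 5, 2, 4, 1, 3, 3], .stab 75 true [6, 4, 4, 1, 3, 0, 4, 6, 2, 4, 2, 0, 3, 3, 0, 2, 5, 5], .stab 68 true [0, 2, 5, 6, 2, 0, 4, 6, 3, 1, 3, 5, 3, 1, 3, 3, 4, 2], .step 57 [10, 6, 12, 10, 14, 12, 5, 11], .tok, .stab 12 false [4, 3, 1, 4, 0, 4, 6, 0, 3, 4, 2, 5, 2, 2, 4], .stab 6 false [5, 0, 4, 0, 3, 5, 6, 0, 4, 2, 4, 2, 2, 1, 3, 5, 1, 1], .stab 6 false [1, 4, 1, 4, 3, 4, 6, 1, 1, 1, 3, 4, 2, 5, 2, 2, 4], .stab 7 false [7, 5, 2, 5, 0, 4, 6, 0, 3, 4, 3, 3, 5, 0, 2, 1], .stab 7 false [1, 5, 1, 5, 3, 5, 6, 0, 3, 4, 2, 5, 2,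 2, 4], .stab 8 false [6, 1, 4, 4, 1, 3, 4, 1, 5, 2, 2], .stab 12 true [3, 3, 5, 0, 4, 6, 4, 2, 0, 5, 2, 4, 3, 4], .stab 6 true [4, 6, 4, 4, 1, 4, 6, 0, 3, 3, 4, 1, 3, 5, 0, 2, 1, 5, 2, 2], .stab 12 true [5, 6, 5, 0, 4, 3, 4, 6, 2, 4, 2, 5, 2, 4, 0, 0], .stab 12 true [3, 3, 0, 4, 6, 1, 4, 2, 1, 3, 1, 2, 5, 1, 2, 5], .stab 7 true [3, 3, 1, 4, 6, 1, 4, 2, 1, 3, 1, 2, 5, 1, 2, 5], .step 40 [0, 10, 4, 0, 15, 13], .tok, .stab 51 false [5, 5, 3, 4, 3, 0, 4, 6, 0, 2, 4, 4, 3, 4, 2, 1, 3], .stab 51 false [2, 0, 4, 0, 4, 6, 1, 2, 4, 4, 2, 5, 1, 2, 2, 4, 0], .stab 46 false [7, 4, 3, 3, 4, 6, 0, 5, 2, 2, 4, 0, 4, 2, 0, 4], .stab 46 false [4, 4, 3, 1, 2, 4, 6, 2, 0, 2, 4, 1, 2, 2, 5, 0], .stab 51 false [4, 7, 1, 4, 3, 4,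 6, 4, 0, 4, 4, 2, 4, 1, 4, 3], .stab 46 false [4, 7, 3, 5, 0, 4, 6, 0, 3, 0, 2, 1, 2, 5, 0, 4, 3, 4], .stab 46 false [3, 5, 2, 4, 3, 1, 4, 6, 2, 2, 0, 5, 1, 4, 1, 4, 3], .stab 51 false [2, 0, 4, 1, 4, 6, 1, 2, 2, 5, 1, 4, 3, 3, 1, 4], .stab 46 false [0, 3, 5, 0, 3, 5, 6, 4, 3, 5, 0, 3, 4, 1, 2, 1, 2], .stab 51 false [6, 3, 0, 2, 0, 2, 4, 3, 4, 2, 2, 0], .stab 46 true [0, 3, 4, 6, 4, 6, 2, 2, 5, 1, 1, 1, 4, 2, 5], .stab 51 true [3, 1, 4, 2, 0, 4, 6, 0, 3, 5, 5, 3, 0, 3, 3, 4, 1, 3], .stab 46 true [1, 5, 1, 3, 4, 6, 0, 5, 2, 4, 4, 0, 2, 4, 2, 1], .stab 46 true [3, 4, 2, 4, 6, 0, 4, 6, 3, 4, 4, 3, 4, 0, 4, 3, 0], .step 80 [12, 10, 0, 3, 10, 14], .tok])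
  , (⟨⟨2, [2, 0, 5, 7, 2, 4, 6, 4, 2, 1, 3, 4, 1, 1, 3], true, 4, [7, 1, 2, 0, 4, 6, 1, 1, 2, 4, 2, 4, 1, 2, 2]⟩, [426, (-145), (-31), (-216), (-277), (-165), 225, 30, 93, 0, (-94), 5, 0, 19]⟩, .scan 18 4 [7, 1, 2, 0, 4, 6, 1, 1, 2, 4, 2, 4, 1, 2, 2] [.tok, .stab 68 false [6, 4, 4, 1, 3, 0, 4, 6, 4, 1, 5, 3, 3, 0, 5, 3, 3], .stab 75 false [4, 2, 0, 5, 6, 2, 2, 0, 5, 2, 0, 5, 3, 1, 3, 5], .stab 61 false [4, 0, 3, 3, 4, 6, 0, 3, 4, 2, 0, 4, 2, 2, 1, 2], .stab 61 false [4, 2, 2, 4, 6, 0, 3, 5, 3, 3, 0, 3, 5, 1, 3, 1], .stab 61 true [4, 0, 3, 3, 4, 6, 0, 3, 4, 2, 0, 4, 2, 2, 1, 2], .stab 61 true [4, 2, 0, 5, 6, 2, 2, 0, 5, 2, 0, 5, 3, 1, 3, 5], .stab 75 true [6, 4, 4, 1, 3, 0, 4, 6, 4, 1, 5, 3, 3, 0, 5, 3, 3], .stab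 68 true [0, 2, 5, 6, 2, 0, 4, 6, 3, 4, 0, 3, 1, 5, 5, 3, 3], .step 57 [1, 15, 4, 12, 7, 10, 12], .tok, .stab 12 false [4, 2, 1, 3, 0, 4, 6, 4, 1, 5, 0, 5, 2, 1, 5, 3], .stab 7 false [5, 3, 4, 4, 1, 5, 6, 0, 0, 5, 3, 0, 5, 2, 2, 4, 2, 0], .stab 7 false [5, 3, 0, 2, 2, 4, 6, 2, 0, 4, 0, 5, 2, 0, 3, 3, 0], .stab 12 false [3, 4, 0, 5, 0, 4, 6, 1, 4, 1, 5, 3, 1, 5, 2, 5, 0], .stab 7 false [3, 1, 5, 0, 4, 0, 4, 6, 4, 1, 5, 3, 1, 5, 2, 5, 0], .stab 7 false [3, 5, 0, 4, 0, 5, 6, 4, 0, 5, 1, 5, 3, 0, 2, 0, 5], .stab 6 false [6, 2, 5, 2, 0, 4, 0, 3, 0, 3, 4], .stab 12 true [3, 3, 5, 0, 4, 6, 0, 0, 4, 3, 5, 0, 2, 5], .stab 6 true [4, 6, 4, 4, 1, 4, 6, 4, 4, 3, 0, 4, 2, 5, 0, 3, 3], .stab 12 true [5, 6, 5, 0, 4, 3, 4, 6,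 4, 2, 5, 0, 2, 4, 2, 1, 5, 3], .stab 12 true [3, 3, 0, 4, 6, 1, 3, 1, 4, 3, 5, 0, 5, 1, 3], .stab 7 true [3, 3, 1, 4, 6, 1, 3, 1, 4, 3, 5, 0, 5, 1, 3], .step 40 [0, 2, 10, 13, 4, 11, 15, 13], .tok, .stab 51 false [2, 4, 3, 5, 0, 4, 6, 5, 0, 3, 5, 0, 0, 3], .stab 51 false [4, 2, 5, 7, 0, 4, 6, 0, 3, 5, 1, 2, 2, 5, 2, 4, 0], .stab 51 false [1, 3, 4, 0, 2, 0, 4, 6, 1, 2, 2, 5, 2, 0, 3, 3, 0, 4], .stab 51 false [5, 3, 5, 1, 2, 5, 6, 5, 0, 2, 4, 4, 2, 0, 5, 2, 1], .stab 51 false [1, 4, 6, 0, 5, 1, 4, 6, 0, 2, 5, 1, 5, 5, 3, 1, 3, 3], .stab 51 false [4, 6, 1, 4, 6, 0, 2, 4, 1, 5, 3, 3, 1, 3, 4, 4], .stab 46 false [5, 7, 0, 4, 3, 4, 6, 1, 5, 1, 3, 1, 4, 3, 3, 1, 5, 3], .stab 51 false [3, 5, 2, 4, 3, 1, 4, 6, 1, 2,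 2, 1, 3, 1, 5, 0, 5, 0], .stab 51 false [2, 0, 4, 1, 4, 6, 2, 2, 5, 0, 5, 2, 5, 0, 3, 1, 3], .stab 46 false [0, 3, 5, 0, 3, 5, 6, 0, 2, 1, 3, 3, 4, 1, 3, 4, 2, 4], .stab 51 false [6, 2, 1, 4, 3, 4, 1, 5, 3, 0, 5], .stab 51 true [0, 3, 5, 0, 3, 5, 6, 0, 2, 1, 3, 3, 4, 1, 3, 4, 2, 4], .stab 46 true [2, 0, 4, 1, 4, 6, 2, 2, 5, 0, 5, 2, 5, 0, 3, 1, 3], .stab 46 true [3, 5, 5, 2, 0, 4, 6, 3, 0, 2, 1, 5, 3, 4, 2], .stab 46 true [1, 2, 5, 0, 5, 1, 4, 6, 1, 5, 3, 3, 0, 3, 3, 5, 1, 4], .stab 46 true [5, 5, 7, 1, 2, 0, 4, 6, 3, 0, 2, 4, 1, 3, 3, 4, 0], .stab 51 true [4, 1, 2, 5, 0, 4, 6, 2, 0, 2, 5, 2, 4, 2, 4, 0, 3], .stab 51 true [1, 4, 1, 3, 4, 1, 4, 6, 1, 4, 2, 2, 4, 2, 4, 3, 1, 4], .stab 51 true [3, 5, 2, 1, 5, 6,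 0, 5, 2, 0, 2, 4, 1, 5, 5, 3], .stab 46 true [1, 5, 6, 2, 2, 4, 6, 3, 3, 4, 1, 3, 1, 2, 1, 3, 5], .stab 46 true [2, 4, 2, 4, 6, 3, 1, 2, 4, 2, 0, 4, 2, 2, 5], .step 48 [1, 11, 6, 1, 11, 11], .tok])
  , (⟨⟨4, [7, 1, 2, 0, 4, 6, 1, 1, 2, 4, 2, 4, 1, 2, 2], true, 2, [2, 0, 5, 7, 2, 4, 6, 4, 2, 1, 3, 4, 3]⟩, [(-426), 145, 31, 216, 277, 165, (-225), (-30), (-92), 0, 94, (-5), 0, (-19)]⟩, .scan 0 2 [2, 0, 5, 7, 2, 4, 6, 4, 2, 1, 3, 4, 3] [.tok, .step 83 []])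
  , (⟨⟨4, [6, 4, 3, 4, 2, 0, 4, 6, 2, 4, 2, 2, 0, 3, 5, 0, 0, 3, 5], true, 2, [7, 5, 0, 4, 3, 4, 6, 1, 5, 3, 0, 2, 5, 2, 2, 4]⟩, [243, (-77), 2, (-116), (-147), (-132), 133, (-26), 36, 0, (-54), 6, 1, 16]⟩, .scan 21 2 [7, 5, 0, 4, 3, 4, 6, 1, 5, 3, 0, 2, 5, 2, 2, 4] [.tok, .step 14 [2, 14, 1, 14, 1, 12], .tok, .stab 12 false [4, 1, 2, 4, 2, 4, 6, 0, 0, 0, 4, 3, 5, 0, 5, 1, 3], .stab 6 false [5, 7, 5, 1, 5, 2, 4, 6, 4, 3, 0, 5, 3, 4, 0, 2, 5], .stab 7 false [4, 2, 1, 3, 5, 0, 4, 6, 0, 2, 2, 4, 3, 5, 0, 5, 3, 1], .stab 7 false [2, 2, 0, 2, 5, 1, 4, 6, 1, 4, 4, 3, 1, 5, 2, 2, 4, 2, 0], .stab 12 false [4, 4, 3, 5, 2, 1, 4, 6, 1, 1, 3, 4, 3, 5, 0, 2, 5], .stab 12 false [3, 5, 0, 4, 0, 5, 6, 0, 5, 5, 2, 5, 1, 3, 1,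 4, 3, 3], .stab 6 false [6, 0, 2, 5, 0, 4, 3, 1, 3, 3, 1, 2], .stab 12 true [3, 3, 5, 0, 4, 6, 5, 2, 2, 1, 3, 4, 0, 5], .stab 6 true [4, 6, 4, 4, 1, 4, 6, 5, 2, 4, 4, 2, 5, 1, 2, 2], .stab 12 true [5, 6, 5, 0, 4, 3, 4, 6, 3, 3, 1, 5, 2, 5, 0, 3, 0, 4], .stab 12 true [3, 3, 0, 4, 6, 0, 5, 2, 5, 1, 4, 2, 2, 5, 1], .stab 7 true [3, 3, 1, 4, 6, 0, 5, 2, 5, 1, 4, 2, 2, 5, 1], .step 40 [2, 14, 1, 12, 5], .tok, .stab 46 false [4, 2, 4, 2, 5, 6, 3, 4, 0, 0, 0, 3, 4, 3, 5], .stab 51 false [6, 2, 5, 1, 4, 6, 3, 3, 4, 0, 4, 3, 4, 1, 4, 4], .stab 51 false [7, 2, 4, 3, 4, 6, 2, 1, 4, 3, 1, 3, 5, 0], .stab 46 false [4, 4, 2, 4, 3, 5, 6, 0, 2, 2, 0, 5, 0, 4, 0, 3, 1, 3], .stab 51 false [4, 7, 3, 4, 2, 0, 4, 6, 1, 4, 2, 1,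 2, 2, 1, 5, 3, 3], .stab 51 false [7, 4, 0, 4, 0, 4, 6, 1, 1, 3, 1, 2, 4, 1, 4, 3, 4], .stab 46 false [7, 4, 0, 5, 0, 4, 6, 1, 2, 2, 1, 4, 4, 2, 1, 3, 4], .stab 46 false [7, 5, 3, 3, 1, 4, 6, 0, 3, 1, 4, 0, 3, 5, 3], .stab 46 false [3, 1, 3, 5, 2, 5, 6, 0, 2, 1, 2, 2, 1, 4, 2, 2, 1, 4, 2], .stab 51 false [7, 5, 0, 3, 0, 4, 6, 2, 0, 2, 4, 1, 3, 4, 3, 0, 2], .stab 51 false [3, 5, 1, 3, 4, 1, 2, 4, 3], .stab 46 true [1, 3, 0, 4, 2, 4, 6, 2, 0, 2, 4, 2, 1, 2, 2, 5], .stab 46 true [5, 5, 2, 4, 3, 4, 6, 1, 2, 2, 4, 3, 0, 2], .stab 46 true [3, 4, 7, 3, 4, 6, 0, 5, 1, 5, 2, 4, 0, 3, 4, 3, 0], .stab 46 true [7, 1, 4, 3, 0, 4, 6, 1, 5, 2, 0, 2, 2, 0, 4, 3], .stab 46 true [7, 3, 3, 0, 2, 4, 6, 1, 3, 4, 0, 3, 0, 2, 4, 1,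 5], .step 72 [13, 8, 15, 4, 12], .tok])
  , (⟨⟨2, [7, 5, 0, 4, 3, 4, 6, 1, 5, 3, 0, 2, 5, 2, 2, 4], true, 4, [6, 4, 3, 4, 2, 0, 4, 6, 5, 3, 3, 1, 4, 1, 1, 3, 5, 3]⟩, [(-243), 77, (-2), 116, 147, 132, (-133), 26, (-35), 0, 54, (-6), (-1), (-16)]⟩, .scan 0 4 [6, 4, 3, 4, 2, 0, 4, 6, 5, 3, 3, 1, 4, 1, 1, 3, 5, 3] [.tok, .step 85 []])
  , (⟨⟨2, [7, 5, 2, 0, 2, 4, 6, 3, 0, 4, 4, 3, 4, 0, 2, 0], true, 4, [7, 5, 6, 2, 0, 4, 6, 0, 3, 4, 3, 0, 5, 2, 2, 5, 2]⟩, [328, (-132), (-37), (-161), (-240), (-129), 148, 72, 79, 0, (-70), 2, (-2), 13]⟩, .scan 10 4 [7, 5, 6, 2, 0, 4, 6, 0, 3, 4, 3, 0, 5, 2, 2, 5, 2] [.tok, .stab 61 false [6, 4, 3, 3, 1, 4, 6, 1, 5, 0, 5, 2, 2, 0, 2, 4, 2, 0], .stab 75 false [5, 7, 4, 1, 3, 4, 6,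 4, 2, 4, 2, 0, 2, 1, 3, 3], .stab 61 false [1, 5, 1, 3, 1, 4, 6, 3, 0, 3, 4, 4, 2, 4, 4], .stab 68 false [0, 2, 4, 3, 3, 4, 6, 2, 1, 5, 5, 3, 5, 3, 3, 1, 4], .stab 75 false [0, 2, 5, 0, 4, 6, 5, 3, 3, 5, 5, 0, 4], .stab 75 false [0, 5, 3, 3, 4, 4, 1, 3], .stab 75 true [0, 2, 5, 0, 4, 6, 5, 3, 3, 5, 5, 0, 4], .stab 75 true [0, 2, 4, 3, 3, 4, 6, 2, 1, 5, 5, 3, 5, 3, 3, 1, 4], .stab 68 true [1, 5, 1, 3, 1, 4, 6, 3, 0, 3, 4, 4, 2, 4, 4], .stab 61 true [5, 7, 4, 1, 3, 4, 6, 4, 2, 4, 2, 0, 2, 1, 3, 3], .stab 75 true [6, 4, 3, 3, 1, 4, 6, 1, 5, 0, 5, 2, 2, 0, 2, 4, 2, 0], .stab 61 true [1, 4, 1, 4, 0, 5, 6, 5, 3, 3, 0, 5, 2, 1, 4, 3, 3], .step 81 [1, 14, 13, 7, 0, 10, 15], .tok, .stab 51 false [4, 2, 1, 5, 3, 4, 6,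 0, 4, 0, 5, 0, 0, 3, 5, 0, 2], .stab 46 false [5, 6, 1, 5, 2, 1, 3, 4, 1, 5, 2, 5], .stab 46 true [4, 2, 1, 5, 3, 4, 6, 0, 4, 0, 5, 0, 0, 3, 5, 0, 2], .stab 46 true [5, 2, 0, 2, 4, 6, 0, 3, 1, 2, 5, 0, 2, 5, 1], .stab 46 true [7, 4, 4, 3, 3, 4, 6, 0, 0, 4, 2, 4, 2, 0, 5, 0, 3], .stab 46 true [5, 1, 4, 6, 2, 0, 3, 0, 5, 2, 4, 0, 4, 0], .stab 51 true [3, 5, 0, 3, 0, 4, 6, 5, 0, 5, 0, 5, 2, 4, 0], .stab 51 true [5, 1, 4, 1, 4, 6, 0, 5, 1, 5, 0, 4, 2, 2, 0, 2], .stab 46 true [2, 0, 5, 2, 0, 4, 6, 4, 0, 5, 5, 0, 4, 4], .step 41 [11, 5, 8, 12], .tok, .stab 7 false [1, 4, 0, 3, 4, 6, 1, 4, 3, 5, 5, 1, 3, 3, 1, 3], .stab 8 false [7, 4, 3, 1, 4, 1, 4, 6, 5, 2, 1, 5, 2, 0, 2, 4, 4], .stab 7 false [5, 3, 0, 2, 4, 0, 4,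 6, 0, 3, 4, 3, 5, 5, 1, 3, 3, 1, 3], .stab 8 false [2, 5, 5, 0, 3, 0, 4, 6, 5, 2, 1, 4, 3, 1, 5, 1, 3], .stab 7 false [3, 5, 3, 0, 2, 4, 6, 0, 2, 2, 1, 5, 5, 2, 5, 1, 3, 1], .stab 7 false [4, 4, 3, 5, 2, 1, 4, 6, 5, 2, 0, 3, 5, 0, 5, 3], .stab 12 false [3, 5, 0, 4, 0, 5, 6, 0, 3, 0, 4, 2, 5, 5, 0, 3, 1], .stab 6 false [6, 3, 5, 0, 0, 2, 2, 4, 0, 3, 3], .step 13 [1, 15, 6, 6, 8], .tok])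
  , (⟨⟨4, [7, 5, 6, 2, 0, 4, 6, 0, 3, 4, 3, 0, 5, 2, 2, 5, 2], true, 2, [7, 5, 2, 0, 2, 4, 6, 0, 4, 2, 4, 0, 4, 2, 2, 1]⟩, [(-328), 132, 37, 161, 240, 129, (-148), (-72), (-78), 0, 70, (-2), 2, (-13)]⟩, .scan 0 2 [7, 5, 2, 0, 2, 4, 6, 0, 4, 2, 4, 0, 4, 2, 2, 1] [.tok, .step 87 []])
  , (⟨⟨4, [5, 5, 2, 5, 1, 4, 6, 3, 3, 0, 5, 3, 3, 4, 3, 1], true, 4, [0, 2, 4, 1, 2, 0, 4, 6, 3, 3, 5, 1, 2, 5, 5, 1, 3, 4]⟩, [(-126), 53, 8, 61, 93, 49, (-52), (-15), (-27), 0, 25, 0, 2, (-7)]⟩, .scan 16 4 [0, 2, 4, 1, 2, 0, 4, 6, 3, 3, 5, 1, 2, 5, 5, 1, 3, 4] [.tok, .step 56 [2, 13, 4, 6, 11], .tok, .stab 15 false [4, 1, 3, 5, 1, 5, 6, 5, 0, 4, 0, 3, 4, 4, 3, 0], .stab 19 false [4, 3, 4, 1, 2, 1, 4, 6, 3, 5, 5, 2, 0, 5, 2, 1], .stab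 16 false [0, 3, 3, 4, 1, 5, 6, 0, 4, 0, 5, 5, 3, 5, 1, 4, 2], .stab 15 false [1, 3, 3, 4, 1, 5, 6, 3, 4, 3, 1, 3, 3, 5, 1, 5, 1], .stab 19 false [5, 1, 4, 2, 5, 6, 2, 2, 5, 5, 2, 0, 2, 5, 2, 2], .stab 16 false [2, 4, 1, 2, 0, 4, 6, 1, 1, 2, 4, 3, 4, 1, 5, 3, 5], .stab 19 false [1, 3, 3, 5, 0, 3, 0, 5, 2, 5, 1], .step 14 [4, 10, 14, 12, 11, 7, 15, 13], .tok, .stab 7 false [0, 4, 3, 5, 6, 4, 6, 0, 4, 0, 4, 0, 4, 3, 0, 2, 2], .stab 6 false [0, 5, 6, 4, 6, 2, 2, 5, 2, 4, 1, 5, 2, 2], .stab 7 false [1, 4, 7, 4, 6, 2, 2, 5, 2, 4, 1, 5, 2, 2], .stab 12 false [1, 3, 5, 6, 3, 4, 6, 1, 3, 5, 3, 4, 0, 2, 2, 0, 4], .stab 12 false [4, 3, 5, 7, 4, 4, 6, 0, 3, 4, 1, 3, 3, 4, 0], .stab 8 false [3, 0, 4, 6, 2, 4, 6, 0, 3, 3,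 0, 2, 1, 3, 4, 0, 5, 3], .stab 6 false [6, 4, 6, 0, 3, 4, 3, 0, 4, 2, 0, 5, 0], .stab 6 true [3, 0, 4, 6, 2, 4, 6, 0, 3, 3, 0, 2, 1, 3, 4, 0, 5, 3], .stab 12 true [1, 2, 5, 6, 2, 0, 4, 6, 2, 1, 3, 5, 1, 4, 3, 5, 3, 0, 3], .stab 12 true [4, 0, 4, 7, 4, 6, 2, 0, 5, 5, 3, 5, 0, 3, 1, 4], .stab 7 true [2, 0, 5, 6, 1, 4, 6, 0, 2, 2, 4, 2, 1, 4, 2, 1, 3], .stab 12 true [4, 6, 0, 2, 0, 4, 6, 0, 5, 5, 0, 3, 3, 5, 0, 2, 2], .stab 6 true [2, 4, 2, 4, 7, 4, 6, 2, 0, 5, 1, 5, 3, 3, 4, 4], .stab 12 true [1, 1, 5, 6, 2, 4, 6, 0, 2, 2, 4, 2, 1, 5, 2, 4, 0, 3], .step 58 [10, 0, 12, 3, 14, 13], .tok])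
  , (⟨⟨4, [7, 4, 3, 3, 1, 4, 6, 3, 3, 5, 0, 0, 3, 3, 0, 5], true, 4, [5, 2, 5, 0, 3, 0, 4, 6, 5, 0, 3, 3, 1, 3, 4, 0, 3, 1]⟩, [(-272), 105, 41, 131, 195, 99, (-124), (-74), (-74), 0, 59, (-3), 2, (-6)]⟩, .scan 21 4 [5, 2, 5, 0, 3, 0, 4, 6, 5, 0, 3, 3, 1, 3, 4, 0, 3, 1] [.tok, .step 56 [12, 5, 0, 10, 10], .tok, .stab 15 false [2, 0, 5, 6, 2, 0, 3, 5, 3, 4, 1], .stab 15 false [3, 0, 2, 5, 6, 0, 4, 2, 5, 0, 4, 3, 3, 5, 3], .stab 16 false [2, 5, 6, 2, 0, 3, 5, 3, 4, 1], .stab 15 true [1, 2, 2, 5, 6, 0, 2, 2, 0, 3, 3, 5, 3, 4, 1], .stab 19 true [5, 1, 2, 5, 0, 4, 6, 1, 4, 2, 2, 0, 3, 3, 5, 1, 2], .stab 16 true [7, 3, 5, 1, 5, 0, 4, 6, 1, 1, 5, 2, 4, 1, 2, 4, 0], .stab 15 true [5, 2, 2, 4, 1, 2, 4, 6, 0, 3, 0, 5,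 3, 4, 4, 3, 1, 4, 2], .stab 19 true [4, 4, 2, 5, 3, 4, 6, 0, 3, 3, 0, 5, 3, 0, 2, 0, 5, 1], .stab 16 true [4, 1, 4, 6, 1, 5, 3, 0, 2, 4, 2, 1, 5], .stab 19 true [7, 2, 2, 4, 3, 4, 6, 0, 2, 5, 3, 3, 1, 4, 3, 3, 1], .stab 19 true [5, 3, 4, 6, 4, 6, 4, 2, 1, 2, 5, 0, 3, 5, 3], .step 21 [], .tok, .stab 15 false [2, 1, 2, 4, 2, 4, 6, 0, 2, 2, 0, 4, 2, 2, 1, 5, 2], .stab 15 false [3, 1, 4, 3, 4, 6, 0, 4, 0, 2, 2, 4, 2, 5, 0], .stab 19 false [4, 2, 0, 5, 0, 5, 6, 1, 4, 2, 4, 1, 5, 2, 2, 1, 2], .stab 16 false [1, 5, 1, 3, 0, 4, 6, 2, 2, 4, 1, 3, 1, 5, 5, 1, 4], .stab 19 false [4, 0, 5, 6, 0, 3, 0, 2, 0, 3, 4, 1, 5, 2], .stab 15 true [0, 5, 3, 4, 0, 4, 6, 1, 2, 2, 1, 2, 4, 1, 5, 2], .stab 15 true [0, 4, 0, 5, 3, 4, 6,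 0, 4, 3, 4, 0, 2, 4, 0, 5, 3], .stab 16 true [2, 1, 3, 5, 0, 4, 6, 0, 3, 1, 2, 1, 3, 4, 1, 5, 2], .stab 19 true [1, 4, 2, 4, 3, 5, 6, 1, 3, 4, 1, 4, 2, 2, 4, 0, 2], .stab 16 true [3, 3, 0, 5, 3, 4, 6, 0, 2, 4, 4, 2, 2, 0, 3, 5], .stab 19 true [2, 0, 4, 4, 3, 5, 6, 2, 0, 5, 1, 3, 5, 3, 1, 3], .stab 16 true [6, 0, 4, 2, 1, 4, 6, 2, 2, 1, 5, 2, 4, 1, 5, 3], .stab 19 true [0, 5, 6, 1, 3, 4, 6, 1, 3, 1, 5, 1, 3, 3, 5], .stab 19 true [7, 5, 2, 0, 2, 4, 6, 4, 0, 3, 4, 3, 5, 1, 5, 3, 0], .step 87 [1, 1, 2, 2, 14, 12], .tok])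
  , (⟨⟨4, [1, 3, 3, 4, 0, 4, 6, 1, 4, 4, 3, 4, 2, 4, 1, 3], true, 4, [3, 4, 4, 6, 0, 4, 6, 1, 5, 2, 0, 5, 3, 3, 0, 5, 3]⟩, [(-407), 153, 20, 189, 273, 204, (-206), (-47), (-81), 1, 84, (-4), (-1), (-18)]⟩, .scan 12 4 [3, 4, 4, 6, 0, 4, 6, 1, 5, 2, 0, 5, 3, 3, 0, 5, 3] [.tok, .stab 75 false [4, 6, 5, 5, 2, 1, 4, 6, 2, 4, 4, 1, 5, 3, 3, 4, 1, 3], .stab 68 false [4, 0, 3, 4, 6, 4, 2, 2, 1, 4, 3, 0, 3, 1], .stab 61 false [4, 3, 0, 2, 4, 6, 2, 1, 5, 0, 5, 2, 1, 4, 3, 3, 4], .stab 75 false [6, 4, 2, 4, 4, 6, 0, 3, 3, 4, 1, 3, 3, 1, 4], .stab 75 false [0, 2, 0, 5, 1, 4, 6, 1, 3, 3, 4, 3, 4, 0, 2, 0, 3, 1], .stab 75 false [1, 4, 6, 1, 5, 3, 0, 3, 5, 1, 5, 2, 0, 2], .stab 75 true [0, 2, 0, 5, 1, 4, 6, 1, 3, 3, 4, 3,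 4, 0, 2, 0, 3, 1], .stab 75 true [6, 4, 2, 4, 4, 6, 0, 3, 3, 4, 1, 3, 3, 1, 4], .stab 75 true [4, 3, 0, 2, 4, 6, 2, 1, 5, 0, 5, 2, 1, 4, 3, 3, 4], .stab 61 true [4, 0, 3, 4, 6, 4, 2, 2, 1, 4, 3, 0, 3, 1], .stab 68 true [4, 6, 5, 5, 2, 1, 4, 6, 2, 4, 4, 1, 5, 3, 3, 4, 1, 3], .stab 75 true [1, 5, 0, 4, 0, 4, 6, 2, 0, 3, 0, 4, 0, 4, 0, 4, 3], .step 79 [13, 6, 4, 15, 4], .tok, .stab 19 false [6, 5, 2, 5, 2, 0, 4, 6, 0, 0, 2, 0, 4, 0, 4, 2, 1], .stab 16 false [5, 1, 3, 0, 5, 6, 5, 2, 0, 3, 3, 0, 2, 4, 4, 2], .stab 19 false [5, 1, 4, 3, 1, 4, 6, 4, 0, 5, 2, 2, 5, 0, 2, 1], .stab 16 false [6, 4, 2, 4, 2, 0, 4, 6, 0, 2, 4, 0, 3, 0, 3, 3, 1, 3, 3, 4], .stab 15 false [4, 4, 2, 1, 5, 1, 4, 6, 3, 3, 1, 3, 5, 5, 3, 5, 1,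 2], .stab 15 false [2, 4, 0, 5, 2, 0, 4, 6, 0, 2, 2, 5, 1, 5, 3, 1, 5, 0, 5], .stab 19 false [4, 7, 5, 0, 3, 0, 4, 6, 0, 3, 0, 2, 1, 4, 3, 0, 4, 0], .stab 15 false [1, 4, 2, 2, 5, 6, 4, 0, 2, 0, 5, 3, 1, 2, 5], .stab 15 false [4, 2, 5, 6, 3, 3, 0, 2, 2, 4, 2, 1, 4, 4, 3], .stab 15 true [1, 4, 2, 2, 5, 6, 4, 0, 2, 0, 5, 3, 1, 2, 5], .stab 15 true [4, 7, 5, 0, 3, 0, 4, 6, 0, 3, 0, 2, 1, 4, 3, 0, 4, 0], .stab 16 true [2, 1, 3, 5, 2, 4, 6, 2, 0, 2, 5, 2, 1, 2, 4, 2, 4], .stab 16 true [7, 3, 4, 2, 0, 4, 6, 3, 3, 5, 0, 5, 3, 0, 2, 1, 2, 2], .stab 19 true [5, 3, 5, 5, 2, 4, 6, 2, 2, 1, 3, 5, 0, 3, 1, 5, 1, 4], .stab 16 true [4, 1, 4, 3, 3, 1, 4, 6, 1, 3, 5, 1, 3, 3, 5, 1, 4], .step 22 [6, 5, 14, 6, 12, 10], .tok, .stab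 15 false [4, 3, 0, 3, 5, 6, 0, 4, 2, 4, 2, 0, 3, 3, 5, 3, 0], .stab 16 false [3, 4, 2, 1, 3, 1, 4, 6, 3, 1, 2, 1, 4, 0, 5, 5, 2, 2], .stab 19 false [1, 3, 4, 0, 5, 6, 2, 2, 4, 0, 5, 2, 1, 3, 5], .stab 16 false [3, 5, 0, 4, 6, 3, 1, 3, 5, 3, 4, 0], .stab 15 false [4, 6, 4, 6, 4, 0, 4, 6, 3, 3, 0, 2, 2, 4, 1, 4, 2, 0], .stab 15 false [6, 2, 4, 4, 1, 4, 6, 1, 3, 3, 4, 1, 3, 3, 5, 3, 5], .stab 19 false [1, 4, 0, 5, 6, 0, 3, 1, 4, 2, 4, 0, 2, 2, 5, 5], .stab 15 true [4, 2, 1, 4, 1, 4, 6, 2, 2, 4, 2, 4, 0, 2, 2, 5, 5], .stab 19 true [7, 2, 5, 5, 6, 0, 4, 6, 0, 3, 1, 2, 4, 0, 2, 2, 0, 4, 2], .stab 16 true [1, 4, 1, 4, 6, 5, 1, 4, 3, 5, 3, 1, 5, 1], .stab 19 true [1, 3, 4, 3, 3, 4, 6, 3, 4, 0, 3, 4, 1, 5, 2, 2], .stab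 16 true [1, 2, 5, 2, 5, 6, 2, 2, 0, 2, 2, 1, 2, 5, 0, 5, 2], .stab 15 true [3, 0, 5, 2, 5, 6, 2, 5, 2, 4, 4, 2, 0, 5], .stab 19 true [2, 0, 5, 7, 2, 4, 6, 3, 3, 4, 0, 3, 3, 1, 4, 4, 3, 4], .step 83 [4, 10, 12, 4, 14, 1], .tok])
  , (⟨⟨4, [7, 4, 6, 0, 2, 0, 4, 6, 2, 5, 1, 5, 2, 4, 2, 2, 1, 4], true, 4, [1, 3, 5, 7, 0, 4, 6, 4, 2, 1, 2, 5, 0, 3, 0]⟩, [29, (-18), (-4), (-7), (-23), (-32), 8, 18, 3, (-1), (-2), 0, 2, (-1)]⟩, .scan 17 4 [1, 3, 5, 7, 0, 4, 6, 4, 2, 1, 2, 5, 0, 3, 0] [.tok, .step 56 [8, 10, 12, 10, 14, 5, 13], .tok, .stab 15 false [1, 5, 1, 5, 0, 4, 6, 1, 3, 5, 3, 1, 3, 5, 1, 2, 1, 2, 2], .stab 16 false [1, 2, 0, 4, 2, 0, 4, 6, 1, 4, 1, 5, 0, 2, 1, 5, 1, 3], .stab 19 false [5, 3, 0, 2, 5, 6, 3, 0,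 2, 4, 1, 3, 3, 4, 4, 2], .stab 16 false [2, 5, 0, 3, 0, 4, 6, 1, 4, 1, 4, 1, 5, 3, 5, 3, 1], .stab 19 false [5, 2, 0, 3, 3, 5, 6, 2, 4, 0, 4, 3, 1, 4, 1, 3, 1], .stab 16 false [3, 5, 1, 5, 6, 1, 2, 4, 1, 5, 2, 0, 5, 3, 3], .stab 16 true [5, 2, 0, 3, 3, 5, 6, 2, 4, 0, 4, 3, 1, 4, 1, 3, 1], .stab 16 true [3, 4, 4, 0, 4, 6, 3, 4, 1, 3, 5, 3, 4, 3, 5], .stab 19 true [5, 2, 1, 5, 2, 2, 4, 6, 1, 1, 2, 5, 2, 2, 5, 3, 1, 3, 5], .stab 16 true [1, 5, 3, 5, 1, 4, 6, 2, 5, 3, 4, 2, 2, 4, 0, 3], .stab 19 true [3, 4, 7, 0, 4, 6, 3, 1, 3, 4, 3, 5, 2, 1], .stab 16 true [7, 0, 4, 0, 4, 6, 2, 0, 3, 1, 3, 3, 4, 0, 2, 4], .stab 15 true [7, 0, 2, 5, 2, 0, 4, 6, 2, 5, 5, 1, 2, 4], .stab 19 true [3, 1, 5, 7, 3, 4, 6, 3, 3, 1, 5, 3,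 3, 0, 4, 3, 0], .stab 16 true [2, 2, 4, 7, 2, 4, 6, 2, 2, 1, 3, 4, 1, 5, 0, 4, 4], .step 23 [3, 11, 15, 2, 13, 4], .tok, .stab 16 false [1, 5, 2, 5, 2, 4, 6, 3, 3, 5, 5, 1, 3, 5, 2, 2], .stab 19 false [3, 5, 3, 4, 2, 5, 6, 0, 3, 3, 0, 3, 4, 3, 3, 0, 5], .stab 16 false [5, 5, 1, 3, 0, 4, 6, 0, 4, 3, 1, 4, 3, 3, 1, 2, 1, 5], .stab 19 false [7, 3, 0, 4, 2, 0, 4, 6, 3, 5, 1, 2, 2, 1, 5, 2, 4, 1], .stab 16 false [2, 5, 3, 5, 1, 4, 6, 2, 2, 0, 4, 2, 4, 0, 3, 1, 4], .stab 15 false [6, 2, 5, 2, 4, 6, 0, 3, 0, 5, 5, 0, 3, 5, 1, 3, 3], .stab 19 false [7, 1, 4, 6, 1, 4, 0, 5, 2, 0, 4, 2, 5, 0], .stab 15 false [6, 4, 6, 0, 5, 3, 0, 2, 5, 1, 3, 4, 4], .stab 19 true [3, 4, 0, 4, 0, 4, 6, 5, 3, 0, 3, 3, 0, 3], .stab 15 true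 [4, 6, 4, 1, 5, 0, 4, 6, 0, 3, 1, 4, 1, 5, 3, 5, 1, 3], .stab 16 true [0, 4, 0, 4, 0, 4, 6, 3, 1, 3, 3, 5, 3, 1, 5, 2], .stab 19 true [0, 4, 4, 7, 2, 4, 6, 5, 2, 5, 3, 5, 0, 3, 0], .stab 16 true [5, 5, 7, 2, 1, 4, 6, 3, 1, 4, 2, 5, 2, 0, 5, 3, 4], .stab 15 true [6, 4, 3, 4, 2, 0, 4, 6, 0, 2, 0, 5, 3, 5, 2, 0, 5, 2], .stab 15 true [7, 2, 5, 5, 1, 4, 6, 2, 0, 4, 1, 4, 0, 3, 1, 2, 1], .stab 19 true [4, 0, 4, 2, 5, 6, 1, 4, 0, 3, 5, 3, 0, 2, 4], .stab 15 true [5, 2, 4, 2, 1, 4, 6, 1, 5, 2, 5, 0, 5, 0, 2], .step 78 [12, 14, 6, 0, 12], .tok])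
  , (⟨⟨4, [3, 5, 5, 2, 5, 6, 3, 1, 4, 3, 5, 3, 5, 1, 2, 1], true, 3, [5, 7, 2, 5, 0, 4, 6, 0, 4, 0, 5, 5, 2, 2, 0, 4, 2, 2]⟩, [(-173), 73, 14, 68, 127, 88, (-59), (-26), (-32), 0, 31, (-1), 1, (-7)]⟩, .scan 14 3 [5, 7, 2, 5, 0, 4, 6, 0, 4, 0, 5, 5, 2, 2, 0, 4, 2, 2] [.tok, .stab 46 false [1, 5, 6, 2, 2, 4, 6, 0, 3, 3, 4, 3, 0, 4, 4, 0, 3], .stab 46 false [3, 5, 2, 1, 5, 6, 0, 3, 4, 0, 3, 3, 0, 4, 3, 3, 5], .stab 51 false [1, 4, 1, 3, 4, 1, 4, 6, 3, 4, 2, 4, 3, 1, 2, 5, 0], .stab 51 false [4, 1, 2, 5, 0, 4, 6, 5, 0, 2, 1, 3, 3, 1, 2, 4, 0], .stab 51 false [5, 5, 7, 1, 2, 0, 4, 6, 0, 2, 2, 5, 2, 1, 2, 4, 1, 3, 5], .stab 46 false [1, 2, 5, 0, 5, 1, 4, 6, 2, 4, 1, 2, 4, 2, 1, 4, 4, 1], .stab 46 false [3, 5, 5, 2,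 0, 4, 6, 0, 5, 1, 4, 1, 5, 2, 2, 1, 4], .stab 46 false [2, 0, 4, 1, 4, 6, 0, 2, 5, 1, 4, 1, 2], .stab 46 false [0, 3, 5, 0, 3, 5, 6, 5, 0, 4, 2, 2, 0, 4, 3, 1, 2], .stab 51 false [6, 3, 1, 4, 4, 2, 1, 3, 4, 1], .stab 51 true [0, 3, 5, 0, 3, 5, 6, 5, 0, 4, 2, 2, 0, 4, 3, 1, 2], .stab 46 true [2, 0, 4, 1, 4, 6, 0, 2, 5, 1, 4, 1, 2], .stab 46 true [3, 5, 5, 2, 0, 4, 6, 0, 5, 1, 4, 1, 5, 2, 2, 1, 4], .stab 46 true [1, 2, 5, 0, 5, 1, 4, 6, 2, 4, 1, 2, 4, 2, 1, 4, 4, 1], .stab 46 true [5, 5, 7, 1, 2, 0, 4, 6, 0, 2, 2, 5, 2, 1, 2, 4, 1, 3, 5], .stab 51 true [4, 1, 2, 5, 0, 4, 6, 5, 0, 2, 1, 3, 3, 1, 2, 4, 0], .stab 51 true [1, 4, 1, 3, 4, 1, 4, 6, 3, 4, 2, 4, 3, 1, 2, 5, 0], .stab 51 true [3, 5, 2, 1, 5, 6, 0, 3, 4,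 0, 3, 3, 0, 4, 3, 3, 5], .stab 46 true [1, 5, 6, 2, 2, 4, 6, 0, 3, 3, 4, 3, 0, 4, 4, 0, 3], .stab 46 true [2, 4, 2, 4, 6, 0, 2, 4, 0, 3, 4, 3, 1, 2, 5, 0], .step 48 [12, 0, 14, 12, 10, 4, 13], .tok, .stab 15 false [7, 0, 4, 3, 3, 4, 6, 3, 0, 2, 1, 5, 1, 4, 2], .stab 16 false [7, 4, 3, 3, 4, 6, 0, 3, 0, 5, 5, 0, 4, 2], .stab 19 false [4, 3, 1, 4, 2, 4, 6, 0, 0, 3, 0, 5, 3, 3, 0, 3, 4, 1], .stab 16 false [2, 1, 4, 1, 4, 6, 3, 3, 5, 3, 3, 4, 0, 3], .stab 15 false [4, 0, 4, 1, 3, 4, 6, 0, 5, 1, 2, 4, 1, 1, 2, 4, 1], .stab 15 false [5, 6, 5, 6, 2, 0, 4, 6, 2, 1, 2, 4, 2, 1, 4, 2, 2, 5], .stab 19 false [4, 1, 5, 6, 0, 3, 5, 0, 3, 3, 4, 0, 4, 3, 4], .stab 19 true [5, 6, 5, 6, 2, 0, 4, 6, 2, 1, 2, 4, 2, 1, 4, 2, 2,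 5], .stab 16 true [5, 1, 5, 3, 4, 6, 5, 2, 4, 3, 4, 2, 1, 2, 5], .stab 16 true [5, 0, 4, 0, 3, 5, 6, 2, 0, 4, 3, 5, 1, 3, 5, 3, 1], .stab 16 true [0, 2, 4, 0, 4, 6, 3, 5, 2, 4, 0, 3, 4, 1, 2], .stab 19 true [6, 0, 4, 6, 2, 4, 6, 0, 2, 1, 5, 3, 4, 1, 4, 3, 4], .stab 16 true [6, 4, 6, 3, 4, 0, 4, 6, 3, 1, 3, 3, 5, 0, 4, 2, 5, 2], .stab 19 true [5, 1, 5, 2, 4, 6, 1, 1, 4, 3, 1, 5, 2, 1, 4], .stab 16 true [5, 0, 5, 0, 3, 5, 6, 5, 2, 4, 2, 0, 5, 2, 1, 3], .step 28 [11, 13, 7, 14, 0], .tok, .stab 16 false [4, 1, 4, 3, 0, 4, 6, 3, 4, 3, 4, 1, 4, 3, 1, 2, 1], .stab 19 false [1, 3, 1, 5, 1, 4, 6, 4, 0, 2, 5, 2, 1, 2, 2, 5, 5], .stab 19 false [6, 0, 5, 1, 4, 6, 0, 3, 0, 4, 3, 5, 1, 5, 2, 0, 3], .stab 19 false [6, 3, 0,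 3, 5, 1, 4, 6, 4, 0, 2, 5, 2, 1, 2, 2, 5, 5], .stab 15 false [3, 5, 3, 5, 2, 2, 4, 6, 2, 1, 5, 1, 4, 0, 2, 2, 1], .stab 16 false [6, 3, 5, 5, 0, 4, 6, 5, 2, 2, 0, 3, 5, 1, 2, 4, 2], .stab 19 false [5, 3, 0, 4, 6, 5, 2, 4, 4, 1, 3, 5, 3, 1], .stab 16 false [1, 3, 3, 5, 6, 2, 4, 2, 1, 2, 4, 0, 3, 1, 2, 5], .stab 15 false [3, 5, 6, 3, 1, 4, 2, 5, 2, 2, 4, 1, 3], .stab 19 true [1, 4, 7, 2, 4, 6, 0, 3, 1, 3, 5, 3, 4, 1, 3, 3, 1], .stab 19 true [6, 1, 2, 0, 4, 6, 3, 0, 5, 2, 1, 5, 2, 2, 4, 1, 5], .stab 19 true [2, 4, 4, 1, 2, 2, 4, 6, 2, 5, 2, 4, 0, 2, 0, 3, 1], .step 76 [0, 10, 13, 2, 15, 6, 13], .tok])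
  , (⟨⟨3, [5, 7, 2, 5, 0, 4, 6, 0, 4, 0, 5, 5, 2, 2, 0, 4, 2, 2], true, 4, [3, 5, 5, 2, 5, 6, 3, 1, 4, 3, 5, 3, 5, 0, 2, 1]⟩, [173, (-73), (-14), (-68), (-127), (-88), 59, 26, 33, 0, (-31), 1, (-1), 7]⟩, .scan 0 4 [3, 5, 5, 2, 5, 6, 3, 1, 4, 3, 5, 3, 5, 0, 2, 1] [.tok, .step 93 []])
  , (⟨⟨1, [], false, 1, []⟩, [(-1), 1, 0, 0, 0, 0, 0, 0, 0, 0, 0, 0, 0, 0]⟩, .cmp 0 [] [.step 4 []] [.step 4 [1, 10, 2, 11]])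
  , (⟨⟨1, [], false, 1, []⟩, [0, 0, 0, 0, 0, (-2), 0, (-2), 0, 0, 0, 0, 0, 0]⟩, .cmp 0 [] [.step 4 []] [.step 4 [11, 15, 11, 15]])
  , (⟨⟨1, [], false, 1, []⟩, [0, 0, 0, 0, 0, (-2), 0, 2, 0, 0, 0, 0, 0, 0]⟩, .cmp 0 [] [.step 4 []] [.step 4 [11, 11, 14, 14]])
  , (⟨⟨1, [], false, 1, []⟩, [(-2), (-1), 0, 0, 0, 0, 0, 0, 0, 0, 0, 0, 0, 0]⟩, .cmp 0 [] [.step 4 []] [.step 4 [1, 11, 3, 10, 1]])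
  , (⟨⟨1, [], false, 1, []⟩, [0, 0, (-5), 0, 0, 0, 0, 0, 0, 0, 0, 0, 0, 0]⟩, .cmp 0 [] [.step 4 []] [.step 4 [5, 5, 5, 5, 5]])
  , (⟨⟨1, [], false, 1, []⟩, [0, 0, 0, (-5), 0, 0, 0, 0, 0, 0, 0, 0, 0, 0]⟩, .cmp 0 [] [.step 4 []] [.step 4 [7, 7, 7, 7, 7]])
  , (⟨⟨1, [], false, 1, []⟩, [(-1), 0, 1, (-1), (-1), 0, 0, 0, 0, 0, 0, 0, 0, 0]⟩, .cmp 0 [] [.step 4 []] [.step 4 [1, 9, 12, 7, 4, 13]])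
  , (⟨⟨1, [], false, 1, []⟩, [0, 0, 0, 0, 0, 0, (-1), 1, 0, 0, 0, 0, 0, 0]⟩, .cmp 0 [] [.step 4 []] [.step 4 [12, 14, 13, 14, 13, 15]])
  , (⟨⟨0, [5, 0, 4, 3, 3, 5, 0, 3, 1, 2, 1], false, 0, [5, 0, 4, 3, 3, 5, 0, 3, 1, 2, 1]⟩, [(-19), 6, 5, 10, 11, 3, (-13), (-4), (-6), 0, 4, 0, 0, 0]⟩, .scan 1 0 [5, 0, 4, 3, 3, 5, 0, 3, 1, 2, 1] [.step 4 [0, 2, 10, 12, 3, 10, 15, 13, 11], .tok, .stab 12 false [0, 2, 5, 1, 5, 2, 4, 4, 3], .stab 12 false [0, 3, 3, 1, 2, 2, 4, 1, 5, 5], .stab 6 true [1, 2, 4, 0, 5, 3, 5, 0, 2, 0], .step 9 [2, 14, 11, 7, 14, 4, 13], .tok, .step 5 [12, 15, 6, 10, 13, 15, 1], .tok, .tok, .stab 1 false [2, 0, 3, 5, 1, 3, 5, 5, 3, 4], .stab 2 true [4, 2, 1, 3, 5, 0, 4, 3, 3], .stab 0 true [0, 2, 2,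 0, 2, 4, 0, 4, 4, 3], .stab 1 false [1, 3, 3, 5, 3, 0, 2, 2, 4, 1, 2], .stab 1 false [2, 1, 3, 3, 5, 3, 0, 2, 2, 4, 1, 2], .stab 0 true [0, 2, 0, 3, 0, 4, 3, 4, 3, 1, 4, 3, 3], .stab 1 false [0, 3, 1, 5, 2, 0, 5, 2, 2, 0, 2, 5], .stab 0 false [3, 0, 5, 2, 0, 5, 2, 2, 0, 2, 5], .stab 2 false [2, 1, 4, 2, 4, 2, 5, 1, 2, 4, 2, 0], .stab 0 false [1, 2, 5, 1, 5, 2, 2, 4, 0, 2, 2, 0], .stab 1 false [5, 0, 4, 3, 3, 5, 0, 3, 1, 2, 1]])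
  , (⟨⟨0, [3, 4, 2, 1, 5, 5], false, 0, [3, 4, 2, 1, 5, 5]⟩, [1, (-1), 0, 0, 1, 2, 1, 0, 0, 0, 0, 0, 0, 0]⟩, .scan 3 0 [3, 4, 2, 1, 5, 5] [.step 4 [4, 3, 3, 11], .tok, .tok, .stab 6 true [5, 2, 0, 3, 0, 4, 2, 4, 1], .step 9 [0, 10, 12, 10, 5, 0], .tok, .step 5 [10, 12, 1, 10, 0, 14, 13, 11], .tok, .stab 2 false [2, 0, 2, 1, 5, 3, 0, 5, 5], .stab 0 false [3, 0, 3, 4, 3, 1, 5, 1, 1], .stab 1 false [0, 3, 4, 3, 1, 5, 1, 1], .stab 0 false [3, 4, 4, 3, 1, 5, 5], .stab 2 false [4, 3, 4, 4, 3, 1, 5, 5], .stab 1 false [0, 5, 1, 5, 3, 5, 5, 1], .stab 1 false [4, 4, 3, 4, 2, 1, 5, 5], .stab 2 true [4, 3, 4, 2, 1, 5, 5], .stab 2 true [3, 4, 2, 1, 5, 5]])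
  , (⟨⟨0, [], false, 0, []⟩, [(-51), 21, (-1), 26, 36, 23, (-19), (-6), (-8), 0, 12, (-2), 0, (-3)]⟩, .scan 7 0 [] [.step 4 [], .tok, .stab 12 true [3, 3, 5, 0, 4, 6, 2, 0, 3, 3, 0, 2], .stab 6 true [4, 6, 4, 4, 1, 4, 6, 0, 2, 5, 2, 2, 0, 3, 1, 2, 5, 2], .stab 12 true [5, 6, 5, 0, 4, 3, 4, 6, 0, 3, 4, 2, 0, 4, 2, 4, 0, 2], .stab 12 true [3, 3, 0, 4, 6, 1, 1, 2, 1], .stab 7 true [3, 3, 1, 4, 6, 1, 1, 2, 1], .step 40 [0, 12, 11, 5, 12, 15], .tok, .stab 51 false [0, 3, 0, 5, 2, 4, 6, 2, 1, 5, 2, 2, 1, 3, 5, 1, 5, 5], .stab 46 false [4, 6, 5, 5, 1, 4, 6, 2, 2, 0, 3, 4, 1, 5, 3, 0, 2], .stab 51 false [6, 1, 4, 0, 4, 6, 2, 2, 0, 4, 3, 0, 2], .stab 46 false [3, 3, 5, 2, 5, 1, 4, 6, 0, 3, 5, 3, 5, 2, 0, 4, 3, 4], .stab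 46 false [2, 5, 6, 2, 5, 1, 4, 6, 2, 1, 4, 3, 5, 1, 2, 5, 0, 4], .stab 51 false [4, 2, 1, 5, 3, 4, 6, 3, 1, 4, 3, 5, 3, 1, 3, 3, 1, 5], .stab 46 false [5, 6, 2, 0, 3, 5, 1, 4, 3, 3, 0, 5, 3, 3], .stab 46 true [4, 2, 1, 5, 3, 4, 6, 3, 1, 4, 3, 5, 3, 1, 3, 3, 1, 5], .stab 46 true [5, 2, 0, 2, 4, 6, 1, 1, 4, 2, 1, 2, 4, 2, 2, 1, 2], .stab 46 true [7, 4, 4, 3, 3, 4, 6, 2, 0, 4, 4, 2, 5, 2, 1, 3, 3, 4], .stab 46 true [5, 1, 4, 6, 0, 2, 1, 3, 5, 0, 3, 3, 1, 4, 3, 3], .stab 51 true [3, 5, 0, 3, 0, 4, 6, 2, 2, 4, 2, 1, 4, 4, 3, 3, 5], .stab 51 true [5, 1, 4, 1, 4, 6, 4, 2, 0, 4, 3, 4, 0, 3, 5], .stab 46 true [2, 0, 5, 2, 0, 4, 6, 1, 2, 4, 2, 4, 4, 1, 5, 5, 3, 3], .step 41 [12, 1, 10, 12, 14], .tok, .step 5 [5, 15, 0,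 12], .tok, .stab 1 true [5, 0, 5, 6, 4, 6, 2, 5, 3, 5, 1, 4, 2, 0], .stab 1 true [1, 5, 6, 1, 4, 6, 0, 2, 2, 0, 4, 2, 0, 4, 3, 1, 5], .stab 0 true [4, 4, 6, 0, 4, 6, 0, 2, 2, 0, 4, 2, 0, 4, 3, 1, 5], .stab 0 true [0, 4, 7, 1, 4, 6, 0, 2, 2, 0, 4, 2, 0, 4, 3, 1, 5], .stab 2 true [0, 4, 7, 1, 4, 6, 4, 4, 1, 3, 3, 1, 4, 2, 4], .stab 0 true [4, 7, 1, 4, 6, 4, 4, 1, 3, 3, 1, 4, 2, 4], .stab 1 true [3, 4, 7, 1, 4, 6, 4, 4, 1, 3, 3, 1, 4, 2, 4], .stab 1 true [4, 6, 3, 4, 6, 1, 5, 5, 1, 3, 5], .stab 2 true [6, 3, 4, 6, 1, 5, 5, 1, 3, 5], .stab 1 false [6, 4, 6, 1, 5, 5, 1, 3, 5], .stab 3 false [5, 6, 0, 4, 0, 3, 5], .stab 2 false [6, 0, 4, 0, 3, 5], .stab 0 false [6, 5, 1, 1, 1, 3, 5], .stab 3 false [4, 0, 3, 5], .stab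 2 true [0, 3, 5], .stab 0 true [3, 5], .stab 1 false [5], .stab 2 false []])
  , (⟨⟨0, [3, 4, 1, 3, 4, 2, 2, 4, 2], false, 0, [3, 4, 1, 3, 4, 2, 2, 4, 2]⟩, [120, (-42), (-4), (-61), (-78), (-52), 68, 3, 25, 0, (-26), 1, 0, 6]⟩, .scan 7 0 [3, 4, 1, 3, 4, 2, 2, 4, 2] [.step 4 [2, 10, 12, 3, 14, 7], .tok, .stab 8 false [2, 2, 0, 4, 3, 5, 6, 2, 1, 2, 2, 1, 2, 2], .stab 7 false [6, 5, 0, 4, 1, 4, 6, 5, 2, 4, 3, 4, 0, 0, 0, 3], .stab 6 false [5, 7, 3, 4, 2, 4, 6, 0, 5, 1, 3, 4, 1, 5], .stab 6 false [3, 5, 0, 4, 0, 5, 6, 1, 2, 2], .stab 6 false [6, 3, 0, 3, 3, 1, 3], .stab 12 true [3, 3, 5, 0, 4, 6, 0, 3, 1, 3, 3], .stab 6 true [4, 6, 4, 4, 1, 4, 6, 1, 4, 2, 2, 0, 5, 2, 2, 5, 1], .stab 12 true [5, 6, 5, 0, 4, 3, 4,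 6, 3, 1, 3, 3, 5, 2, 5, 1, 4, 1], .stab 12 true [3, 3, 0, 4, 6, 2, 0, 3, 1, 3, 3, 1, 3], .stab 7 true [3, 3, 1, 4, 6, 2, 0, 3, 1, 3, 3, 1, 3], .step 40 [1, 1, 10, 7, 14], .tok, .stab 46 false [5, 1, 4, 6, 3, 3, 1, 2, 5, 0, 3, 4], .stab 46 false [7, 4, 4, 3, 3, 4, 6, 4, 3, 4, 0, 3, 3, 1, 3, 3, 5], .stab 46 false [5, 2, 0, 2, 4, 6, 1, 1, 4, 1, 5, 1, 2, 4, 4], .stab 46 false [4, 2, 1, 5, 3, 4, 6, 1, 4, 2, 1, 3, 1, 3, 3, 4], .stab 46 false [5, 6, 0, 3, 3, 0, 5, 5, 2, 5, 1, 5, 3], .stab 46 true [4, 2, 1, 5, 3, 4, 6, 1, 4, 2, 1, 3, 1, 3, 3, 4], .stab 46 true [5, 2, 0, 2, 4, 6, 1, 1, 4, 1, 5, 1, 2, 4, 4], .stab 46 true [7, 4, 4, 3, 3, 4, 6, 4, 3, 4, 0, 3, 3, 1, 3, 3, 5], .stab 46 true [5, 1, 4, 6, 3, 3, 1, 2, 5, 0,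 3, 4], .stab 51 true [3, 5, 0, 3, 0, 4, 6, 0, 3, 5, 1, 2, 1, 5, 5, 2, 4], .stab 51 true [5, 1, 4, 1, 4, 6, 5, 2, 1, 2, 2, 5, 1, 2, 2], .stab 46 true [2, 0, 5, 2, 0, 4, 6, 4, 2, 5, 0, 2, 4, 2, 0, 5, 2], .step 41 [10, 14, 1, 12, 10], .tok, .step 5 [4, 10, 12, 14, 5, 12], .tok, .stab 1 false [6, 1, 3, 0, 4, 6, 3, 4, 2, 1, 3, 4, 0, 2, 2], .stab 1 false [6, 2, 1, 3, 0, 4, 6, 3, 4, 2, 1, 3, 4, 0, 2, 2], .stab 2 false [2, 5, 6, 1, 4, 6, 2, 2, 5, 3, 5, 3, 4, 0], .stab 1 true [5, 6, 1, 4, 6, 2, 2, 5, 3, 5, 3, 4, 0], .stab 2 false [6, 1, 4, 6, 2, 2, 5, 3, 5, 3, 4, 0], .stab 1 false [6, 2, 1, 4, 6, 2, 2, 5, 3, 5, 3, 4, 0], .stab 1 false [7, 0, 2, 0, 4, 6, 1, 5, 3, 4, 1, 2, 2, 4, 1, 1], .stab 0 true [7, 2, 1, 4, 6, 1, 5,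 3, 4, 1, 2, 2, 4, 1, 1], .stab 1 true [7, 1, 4, 6, 1, 5, 3, 4, 1, 2, 2, 4, 1, 1], .stab 0 true [6, 4, 6, 1, 5, 3, 4, 1, 2, 2, 4, 1, 1], .stab 3 false [5, 6, 1, 4, 3, 5, 0, 2, 2, 4, 4], .stab 2 false [6, 1, 4, 3, 5, 0, 2, 2, 4, 4], .stab 3 true [1, 4, 3, 5, 0, 2, 2, 4, 4], .stab 2 false [0, 3, 1, 2, 4, 2, 2, 4, 3, 4], .stab 0 true [3, 1, 2, 4, 2, 2, 4, 3, 4], .stab 2 true [3, 4, 1, 3, 4, 2, 2, 4, 2]])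
  , (⟨⟨0, [], false, 0, []⟩, [109, (-37), (-27), (-61), (-66), (-13), 53, 23, 38, 0, (-24), (-1), 2, (-2)]⟩, .scan 9 0 [] [.step 4 [], .tok, .stab 8 false [6, 2, 4, 0, 4, 6, 2, 1, 3, 5, 0, 3, 3, 1, 5, 5], .stab 8 false [4, 6, 3, 3, 1, 4, 6, 1, 5, 3, 4, 1, 2, 2, 4], .stab 6 false [5, 0, 5, 7, 1, 4, 6, 2, 2, 0, 3, 4, 1, 2, 5], .stab 8 false [1, 4, 7, 0, 4, 6, 2, 4, 2, 5, 0, 2, 4], .stab 8 false [6, 4, 6, 0, 3, 3, 0, 4, 3, 5, 0, 5, 2, 5], .stab 6 true [3, 0, 4, 6, 2, 4, 6, 5, 5, 2, 1, 5, 2, 0, 3, 4, 0], .stab 12 true [1, 2, 5, 6, 2, 0, 4, 6, 3, 3, 1, 3, 4, 3, 1, 5, 1, 5, 0], .stab 12 true [4, 0, 4, 7, 4, 6, 3, 5, 3, 0, 2, 4, 1, 2, 2], .stab 7 true [2, 0, 5, 6, 1, 4, 6, 2, 2, 0, 2, 2, 0, 5, 3, 5, 2], .stab 12 true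 [4, 6, 0, 2, 0, 4, 6, 0, 5, 0, 3, 4, 2, 5, 3], .stab 6 true [2, 4, 2, 4, 7, 4, 6, 2, 0, 5, 3, 5, 5, 0, 3, 5, 0], .stab 12 true [1, 1, 5, 6, 2, 4, 6, 2, 1, 3, 5, 0, 3, 0, 2, 5, 1], .step 58 [1, 5, 14, 4], .tok, .stab 61 false [7, 5, 2, 1, 2, 4, 6, 3, 0, 2, 2, 1, 2, 5, 0, 5, 5], .stab 75 false [5, 1, 5, 5, 3, 4, 6, 2, 0, 3, 5, 3, 1, 4, 4, 2], .stab 61 false [5, 3, 4, 2, 4, 6, 4, 0, 3, 4, 3, 1, 2, 2, 1], .stab 68 false [4, 0, 3, 3, 4, 6, 2, 4, 4, 3, 3, 0, 4, 0], .stab 61 false [4, 2, 2, 4, 6, 5, 5, 2, 5, 3, 1, 5, 1, 1], .stab 61 true [4, 0, 3, 3, 4, 6, 2, 4, 4, 3, 3, 0, 4, 0], .stab 61 true [4, 2, 0, 5, 6, 1, 2, 4, 2, 4, 0, 5, 2, 1, 3, 1], .stab 75 true [6, 4, 4, 1, 3, 0, 4, 6, 3, 0, 5, 2, 4, 0, 2, 1], .stab 68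 true [0, 2, 5, 6, 2, 0, 4, 6, 0, 5, 3, 0, 3, 5, 3, 3, 5, 1], .step 57 [14, 4, 2, 11, 15], .tok, .step 5 [9, 10, 12, 4, 14, 5], .tok, .stab 2 true [7, 3, 1, 4, 3, 4, 6, 3, 0, 5, 2, 4, 1, 5, 5, 3, 1], .stab 1 false [7, 1, 4, 3, 4, 6, 3, 0, 5, 2, 4, 1, 5, 5, 3, 1], .stab 0 true [6, 4, 3, 4, 6, 3, 0, 5, 2, 4, 1, 5, 5, 3, 1], .stab 2 true [1, 4, 3, 1, 4, 6, 0, 2, 1, 2, 2], .stab 0 true [4, 0, 2, 4, 6, 0, 0, 0, 0, 2], .stab 2 true [0, 2, 4, 6, 0, 0, 0, 0, 2], .stab 0 true [2, 4, 6, 0, 0, 0, 0, 2], .stab 1 true [4, 6, 0, 0, 0, 0, 2], .stab 2 true [6, 0, 0, 0, 0, 2], .stab 1 true [6, 0, 0, 0, 0], .stab 3 false []])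
  , (⟨⟨0, [0, 2, 0, 2, 4, 2, 1, 2, 2, 5, 0, 3], false, 0, [0, 2, 0, 2, 4, 2, 1, 2, 2, 5, 0, 3]⟩, [250, (-63), 3, (-125), (-150), (-110), 155, (-37), 46, (-1), (-59), 7, (-2), 17]⟩, .scan 13 0 [0, 2, 0, 2, 4, 2, 1, 2, 2, 5, 0, 3] [.step 4 [5, 6, 10, 12, 10, 14, 13, 11], .tok, .stab 8 false [0, 4, 6, 3, 4, 6, 2, 1, 3, 5, 1, 3, 4, 3, 1, 3], .stab 6 false [1, 5, 7, 4, 4, 6, 2, 2, 0, 3, 5, 5, 0, 2, 4], .stab 12 false [4, 4, 6, 2, 1, 4, 6, 3, 3, 4, 4, 1, 4, 3, 3, 0, 4], .stab 12 false [3, 1, 4, 6, 2, 4, 6, 1, 2, 1, 3, 5, 0, 3, 4, 3, 4, 0], .stab 7 false [3, 0, 4, 6, 2, 4, 6, 1, 2, 1, 3, 5, 0, 3, 4, 3, 4, 0], .stab 6 false [6, 4, 6, 1, 1, 5, 1, 3, 4, 0, 2, 2, 5], .stab 6 true [3, 0, 4, 6, 2, 4, 6, 1, 2, 1, 3, 5, 0,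 3, 4, 3, 4, 0], .stab 12 true [1, 2, 5, 6, 2, 0, 4, 6, 5, 0, 3, 1, 3, 4, 3, 0, 4, 4], .stab 12 true [4, 0, 4, 7, 4, 6, 0, 4, 1, 3, 3, 4, 4, 1, 2, 2], .stab 7 true [2, 0, 5, 6, 1, 4, 6, 3, 1, 5, 2, 1, 5, 1, 3, 3], .stab 12 true [4, 6, 0, 2, 0, 4, 6, 2, 2, 0, 5, 2, 2, 5, 3, 5], .stab 6 true [2, 4, 2, 4, 7, 4, 6, 1, 1, 2, 5, 2, 1, 4, 3, 0, 2], .stab 12 true [1, 1, 5, 6, 2, 4, 6, 3, 5, 1, 5, 3, 4, 4], .step 58 [10, 1, 10, 5, 12, 10], .tok, .stab 68 false [5, 3, 4, 2, 4, 6, 0, 3, 0, 4, 0, 5, 1, 2, 4, 0, 3], .stab 68 false [4, 0, 3, 3, 4, 6, 5, 5, 2, 1, 4, 3, 3, 1, 5], .stab 61 false [4, 2, 2, 4, 6, 2, 1, 5, 1, 2, 5, 1, 3, 3], .stab 61 true [4, 0, 3, 3, 4, 6, 5, 5, 2, 1, 4, 3, 3, 1, 5], .stab 61 true [4, 2, 0, 5,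 6, 1, 1, 5, 3, 1, 3, 5, 0, 2], .stab 75 true [6, 4, 4, 1, 3, 0, 4, 6, 0, 2, 0, 3, 5, 3, 4, 1, 2, 4], .stab 68 true [0, 2, 5, 6, 2, 0, 4, 6, 1, 1, 2, 1, 5, 3, 4], .step 57 [11, 15, 7, 1, 10], .tok, .step 5 [0, 0, 10, 12, 6, 4], .tok, .stab 0 true [3, 0, 4, 0, 4, 6, 2, 0, 4, 2, 2, 0, 5, 3, 1, 3, 4], .stab 2 false [1, 4, 2, 1, 4, 6, 0, 5, 2, 2, 0, 4, 2, 5, 1], .stab 0 false [4, 2, 1, 4, 6, 0, 5, 2, 2, 0, 4, 2, 5, 1], .stab 2 true [2, 1, 4, 6, 0, 5, 2, 2, 0, 4, 2, 5, 1], .stab 1 true [1, 4, 6, 0, 5, 2, 2, 0, 4, 2, 5, 1], .stab 0 true [5, 5, 6, 1, 2, 1, 3, 5, 0, 3, 1, 4, 0], .stab 2 false [5, 6, 1, 2, 1, 3, 5, 0, 3, 1, 4, 0], .stab 2 false [6, 1, 2, 1, 3, 5, 0, 3, 1, 4, 0], .stab 1 false [6, 0, 3, 0, 3, 3, 5, 0,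 3, 1, 4, 0], .stab 3 false [1, 5, 3, 1, 2, 4, 2, 2, 0, 3], .stab 2 false [5, 0, 3, 1, 4, 3, 3, 1, 3, 4], .stab 1 false [2, 5, 0, 3, 1, 4, 3, 3, 1, 3, 4], .stab 2 false [2, 0, 3, 1, 3, 3, 1, 4, 3, 3, 5, 2], .stab 0 true [2, 1, 3, 1, 4, 2, 1, 2, 2, 5, 0, 3], .stab 1 true [1, 3, 1, 4, 2, 1, 2, 2, 5, 0, 3], .stab 1 true [0, 2, 0, 2, 4, 2, 1, 2, 2, 5, 0, 3]])
  , (⟨⟨0, [], false, 0, []⟩, [(-86), 29, 8, 45, 57, 29, (-45), (-14), (-20), 0, 20, (-1), (-1), (-3)]⟩, .scan 15 0 [] [.step 4 [], .tok, .stab 7 false [7, 5, 1, 2, 0, 4, 6, 0, 3, 0, 4, 3, 4, 4, 3, 1, 2, 5], .stab 7 false [4, 0, 3, 3, 4, 6, 2, 1, 2, 4, 2, 5, 2, 0, 5, 3], .stab 8 false [1, 5, 1, 5, 3, 5, 6, 2, 4, 2, 0, 2, 2, 0, 5, 2, 0], .stab 8 false [6, 5, 2,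 1, 2, 2, 1, 5, 2, 0], .stab 12 true [3, 3, 5, 0, 4, 6, 4, 3, 5, 0, 4, 3, 1, 5, 2, 1], .stab 6 true [4, 6, 4, 4, 1, 4, 6, 5, 2, 0, 5, 0, 4, 2, 2], .stab 12 true [5, 6, 5, 0, 4, 3, 4, 6, 0, 2, 1, 5, 2, 2, 1, 5, 2, 2, 4, 0, 2], .stab 12 true [3, 3, 0, 4, 6, 1, 4, 3, 3, 1, 5, 0, 5, 1, 3], .stab 7 true [3, 3, 1, 4, 6, 1, 4, 3, 3, 1, 5, 0, 5, 1, 3], .step 40 [12, 14, 11, 7, 1], .tok, .stab 51 false [5, 7, 4, 6, 4, 0, 4, 6, 0, 2, 2, 5, 2, 0], .stab 46 false [5, 1, 5, 7, 2, 4, 6, 1, 4, 3, 3, 4, 0, 2, 4, 0, 0], .stab 51 false [6, 5, 0, 4, 3, 4, 6, 2, 2, 4, 2, 5, 0, 4, 0, 5], .stab 51 false [5, 2, 0, 2, 4, 6, 2, 0, 3, 3, 1, 5, 2, 4, 4, 1, 4], .stab 46 false [4, 2, 1, 5, 3, 4, 6, 3, 4, 1, 2, 4, 2, 2, 0, 3, 3], .stab 46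 false [5, 6, 0, 2, 5, 0, 3, 1, 3, 3, 5, 1, 3, 4, 3], .stab 46 true [4, 2, 1, 5, 3, 4, 6, 3, 4, 1, 2, 4, 2, 2, 0, 3, 3], .stab 46 true [5, 2, 0, 2, 4, 6, 2, 0, 3, 3, 1, 5, 2, 4, 4, 1, 4], .stab 46 true [7, 4, 4, 3, 3, 4, 6, 3, 3, 5, 5, 1, 5, 3, 3, 5, 5], .stab 46 true [5, 1, 4, 6, 2, 0, 2, 5, 2, 0, 2, 2, 0, 2, 5, 5], .stab 51 true [3, 5, 0, 3, 0, 4, 6, 3, 3, 0, 4, 2, 5, 2, 2, 0, 4], .stab 51 true [5, 1, 4, 1, 4, 6, 2, 1, 5, 3, 5, 1, 4, 3, 1], .stab 46 true [2, 0, 5, 2, 0, 4, 6, 2, 2, 4, 1, 5, 3, 4, 1, 1, 3], .step 41 [3, 10, 7, 12, 14, 6], .tok, .step 5 [5, 0, 10, 6, 13, 15], .tok, .stab 2 true [6, 0, 2, 0, 4, 6, 0, 5, 0, 5, 0, 5, 2, 1, 5], .stab 0 true [6, 2, 1, 4, 6, 0, 5, 0, 5, 0, 5, 2, 1, 5], .stab 1 false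 [7, 0, 2, 0, 4, 6, 2, 5, 2, 1, 3, 4, 0, 2, 0, 3], .stab 0 true [7, 2, 1, 4, 6, 2, 5, 2, 1, 3, 4, 0, 2, 0, 3], .stab 2 true [5, 7, 2, 1, 4, 6, 2, 5, 2, 1, 3, 4, 0, 2, 0, 3], .stab 1 true [4, 6, 2, 4, 6, 0, 4, 0, 3, 3, 4, 1, 2, 2], .stab 2 true [6, 2, 4, 6, 0, 4, 0, 3, 3, 4, 1, 2, 2], .stab 0 false [4, 6, 4, 6, 1, 5, 5, 1, 3, 5], .stab 2 true [6, 4, 6, 1, 5, 5, 1, 3, 5], .stab 3 false [5, 6, 0, 4, 0, 3, 5], .stab 2 false [6, 0, 4, 0, 3, 5], .stab 0 false [6, 5, 1, 1, 1, 3, 5], .stab 3 false [4, 0, 3, 5], .stab 2 true [0, 3, 5], .stab 0 true [3, 5], .stab 1 false [5], .stab 2 false []])]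

/-- The equations between the central values. -/
def vRows : List ℕ := [95, 96, 97, 98, 99, 100, 101, 102, 103, 104, 105, 106, 107, 108, 109]

/-- The number of occurrences of `z` for each value. -/
def vWeight : List ℤ := [0, 0, 0, 0, 0, 0, 0, 0, 2, 3, 3, 4, 4, 4]

/-- A vector of weight one. -/
def vGauge : List ℤ := [0, 0, 0, 0, 0, 0, 0, 0, (-1), 0, 1, 0, 0, 0]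

/-- Coefficients of the rows giving each unit vector up to the gauge. -/
def vComb : List (List ℤ) :=
  [[(-11493868777427), (-1015412779270805), 161134410220705, 207645442742633, (-85329222354540), 140851312151868, (-878113609619660), (-1668882767339180), 221527529999440, (-656586079620220), (-56082918987200), 39258043291040, 50474627088480, 0, 100949254176960]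
  , [(-11493868777426), (-1015412779270805), 161134410220705, 207645442742633, (-85329222354540), 140851312151868, (-878113609619660), (-1668882767339180), 221527529999440, (-656586079620220), (-56082918987200), 39258043291040, 50474627088480, 0, 100949254176960]
  , [(-11954094135240), (-1056070865657400), 167586384141411, 215959762319028, (-88745884981421), 146491131675558, (-913274107622058), (-1735706409023406), 230397701456406, (-682876406165652), (-58328532014280), 40829972409996, 52495678812852, 0, 104991357625704]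
  , [(-451707741984), (-39905607292737), 6332564083182, 8160442396800, (-3353428780284), 5535440624881, (-34509765466074), (-65586903858822), 8706006854706, (-25803758611368), (-2204052368280), 1542836657796, 1983647131452, 0, 3967294262904]
  , [(-8517615829), (-752479093858), 119409837524, 153877179595, (-63233846597), 104378898809, (-650732536325), (-1236737825404), 164164602260, (-486567934064), (-41560658800), 29092461160, 37404592920, 0, 74809185840]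
  , [4244927270, 375013277116, (-59510323749), (-76687825435), 31513874911, (-52019349406), 324305808580, 616353475630, (-81814771975), 242491036605, 20712600500, (-14498820350), (-18641340450), 0, (-37282680900)]
  , [27761290, 2452539626, (-389190026), (-501528725), 206096775, (-340199997), 2120919165, 4030874144, (-535058310), 1585860855, 135457800, (-94820460), (-121912020), 0, (-243824040)]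
  , [27761290, 2452539626, (-389190026), (-501528725), 206096775, (-340199997), 2120919165, 4030874145, (-535058310), 1585860855, 135457800, (-94820460), (-121912020), 0, (-243824040)]
  , [(-756201), (-66806801), 10601477, 13661568, (-5614045), 9266995, (-57773515), (-109800388), 14574907, (-43198602), (-3689850), 2582895, 3320865, 0, 6641730]
  , [(-842637), (-74448522), 11814128, 15224252, (-6256213), 10327006, (-64381986), (-122359972), 16242065, (-48139879), (-4111919), 2878343, 3700724, (-1), 7401450]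
  , [(-756201), (-66806801), 10601477, 13661568, (-5614045), 9266995, (-57773515), (-109800388), 14574907, (-43198602), (-3689850), 2582895, 3320865, 0, 6641730]
  , [(-1011331), (-89347012), 14178353, 18270899, (-7508190), 12393623, (-77265952), (-146846381), 19492393, (-57773547), (-4934784), 3454348, 4441305, 0, 8882610]
  , [(-1011095), (-89326007), 14175021, 18266603, (-7506424), 12390709, (-77247785), (-146811859), 19487813, (-57759963), (-4933623), 3453536, 4440261, 0, 8880521]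
  , [(-1011113), (-89327604), 14175270, 18266932, (-7506559), 12390931, (-77249169), (-146814472), 19488159, (-57760998), (-4933711), 3453598, 4440340, 0, 8880680]]

end Cfsg.Agent.Lib.CosetEnum.LyP.Mult
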