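import Cfsg.Agent.Lib.CosetEnum.LyP.Dce.Basic
import Cfsg.Agent.Lib.CosetEnum.LyP.G25.Iso
import Cfsg.Agent.Lib.Multiplier.Perfect
import Cfsg.Agent.S2100
import Mathlib.GroupTheory.Commutator.Basic

/-!
`P` is perfect with trivial multiplier, so an injective image of `P` lifts through every central extension.
-/

set_option autoImplicit false
set_option maxRecDepth 20000

namespace Cfsg.Agent.Lib.CosetEnum.LyP.Mult

open Cfsg Cfsg.Agent.Lib.CosetEnum Cfsg.Agent.Lib.CosetEnum.LyP Cfsg.Agent.Lib.ExactCover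

/-- `P` is perfect. -/
theorem commutator_P : commutator (PresentedGroup pres) = ⊤ := by
  haveI := G25.isSimple_P
  rcases Subgroup.Normal.eq_bot_or_eq_top (inferInstance : (commutator (PresentedGroup pres)).Normal) with
    h | h
  swap
  · exact h
  exfalso
  have hcomm : val [0] * val [2] = val [2] * val [0] :=
    commutatorElement_eq_one_iff_mul_comm.1 (Subgroup.mem_bot.1
      (h ▸ Subgroup.commutator_mem_commutator (Subgroup.mem_top _) (Subgroup.mem_top _)))
  rw [← Dce.val_append, ← Dce.val_append] at hcomm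
  have h1 : ∀ c < 4, scan 10 table ([0] ++ [2]) (Dce.basePt c) = scan 10 table ([2] ++ [0]) (Dce.basePt c) :=
    fun c _ => by
      rw [← Dce.imgPt_word _ (by decide) (Dce.basePt_lt c), hcomm,
        Dce.imgPt_word _ (by decide) (Dce.basePt_lt c)]
  revert h1
  decide +kernel

theorem schur_P : Subsingleton (Multiplier.schurM (PresentedGroup pres)) := by
  haveI := finite
  haveI : Fact (Nat.Prime 5) := ⟨by norm_num⟩
  have h5 := Cfsg.Agent.S2100.result (F := ZMod 5) (by simp [ZMod.card])
  obtain ⟨Γ, _, _, σ, hσ, ⟨e⟩⟩ := Multiplier.exists_cover (PresentedGroup pres)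
  have hker : (G25.iso.toMonoidHom.comp σ).ker = σ.ker := MonoidHom.ker_mulEquiv_comp σ G25.iso
  have hinj := Multiplier.injective_of_trivial h5 (G25.iso.toMonoidHom.comp σ)
    ⟨G25.iso.surjective.comp hσ.1, by rw [hker]; exact hσ.2.1, by rw [hker]; exact hσ.2.2⟩
  haveI : Subsingleton σ.ker := by
    refine ⟨fun a b => Subtype.ext (hinj ?_)⟩
    simp only [MonoidHom.comp_apply, MonoidHom.mem_ker.1 a.2, MonoidHom.mem_ker.1 b.2]
  exact e.symm.injective.subsingleton

/-- An injective image of `P` lifts through a central extension. -/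
theorem exists_lift_P {Γ : Type} {G : Type} [Group Γ] [Group G] (τ : Γ →* G)
    (hs : Function.Surjective τ) (hc : τ.ker ≤ Subgroup.center Γ) (φ : PresentedGroup pres →* G)
    (hφ : Function.Injective φ) : ∃ π : PresentedGroup pres →* Γ, τ.comp π = φ := by
  haveI := finite
  haveI := schur_P
  set E := commutator (Multiplier.FreeCE (PresentedGroup pres))
  let p : E →* PresentedGroup pres := (Multiplier.ceHom _).comp E.subtype
  have hpi : Function.Injective p := by
    rw [← MonoidHom.ker_eq_bot_iff, eq_bot_iff]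
    intro x hx
    have hm : (x : Multiplier.FreeCE (PresentedGroup pres)) ∈ Multiplier.schurM (PresentedGroup pres) :=
      ⟨hx, x.2⟩
    have h1 : (⟨_, hm⟩ : Multiplier.schurM (PresentedGroup pres)) = 1 := Subsingleton.elim _ _
    have h2 : (x : Multiplier.FreeCE (PresentedGroup pres)) = 1 := congrArg (fun z => z.1) h1
    exact Subgroup.mem_bot.2 (Subtype.ext h2)
  have hps : Function.Surjective p := by
    intro q
    obtain ⟨e, rfl⟩ := Multiplier.ceHom_surjective (PresentedGroup pres) q
    have h : e ∈ E ⊔ (Multiplier.ceHom (PresentedGroup pres)).ker := by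
      rw [Multiplier.sup_ker_eq_top_of_perfect _ commutator_P]; exact Subgroup.mem_top e
    obtain ⟨a, ha, b, hb, rfl⟩ := Subgroup.mem_sup_of_normal_left.1 h
    exact ⟨⟨a, ha⟩, by simp [p, MonoidHom.mem_ker.1 hb]⟩
  let eP : E ≃* PresentedGroup pres := MulEquiv.ofBijective p ⟨hpi, hps⟩
  let r : PresentedGroup pres ≃* φ.range := MonoidHom.ofInjective hφ
  let Q := φ.range.comap τ
  let σ : Q →* PresentedGroup pres :=
    r.symm.toMonoidHom.comp ((τ.comp Q.subtype).codRestrict φ.range fun x => x.2)
  have hσ : ∀ x : Q, φ (σ x) = τ x := fun x => congrArg Subtype.val (r.apply_symm_apply _)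
  have hσs : Function.Surjective σ := fun q => by
    obtain ⟨g, hg⟩ := hs (φ q)
    exact ⟨⟨g, q, hg.symm⟩, hφ (by rw [hσ]; exact hg)⟩
  have hσc : σ.ker ≤ Subgroup.center Q := by
    intro x hx
    rw [Subgroup.mem_center_iff]
    intro y
    have : (x : Γ) ∈ τ.ker := by
      rw [MonoidHom.mem_ker, ← hσ, MonoidHom.mem_ker.1 hx, map_one]
    exact Subtype.ext (Subgroup.mem_center_iff.1 (hc this) y.1)
  obtain ⟨f, hf⟩ := Multiplier.exists_lift _ σ hσs hσc
  refine ⟨(Q.subtype.comp f).comp (E.subtype.comp eP.symm.toMonoidHom), MonoidHom.ext fun q => ?_⟩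
  have h1 : σ (f (eP.symm q : E)) = q :=
    (DFunLike.congr_fun hf _).trans (eP.apply_symm_apply q)
  have h2 := hσ (f (eP.symm q : E))
  rw [h1] at h2
  exact h2.symm

end Cfsg.Agent.Lib.CosetEnum.LyP.Mult
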