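import Cfsg.Agent.Lib.CosetEnum.LyP.Mult.Check
import Cfsg.Agent.Lib.CosetEnum.LyP.Mult.Lift
import Cfsg.Agent.Lib.CosetEnum.LyP.Dce.Final
import Cfsg.Agent.Lib.CosetEnum.LyRep.Final

/-!
The presented Lyons group has trivial multiplier: in a central extension the derivations show that the
relations hold for suitable lifts, so the lifts generate a group no larger than the Lyons group.
-/

set_option autoImplicit false
set_option maxRecDepth 20000

namespace Cfsg.Agent.Lib.CosetEnum.LyP.Mult

open Cfsg Cfsg.Agent.Lib.CosetEnum Cfsg.Agent.Lib.CosetEnum.LyP Cfsg.Agent.Lib.ExactCover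
open Cfsg.Spor
open scoped IsMulCommutative

theorem vPats_get {p : ℕ} {t : List (Option (List ℕ))} (h : vPats[p]? = some t) :
    ∃ r k, r < 6 ∧ vPos.getD p 0 = 8 + r ∧ t = (Dce.basePats.getD r []).rotate k := by
  obtain ⟨hp, rfl⟩ := List.getElem?_eq_some_iff.1 h
  have hp' : p < vPatUsed.length := by simpa [vPats] using hp
  refine ⟨vPatUsed[p].1, vPatUsed[p].2, ?_, ?_, ?_⟩
  · have : ∀ q ∈ vPatUsed, q.1 < 6 := by decide +kernel
    exact this _ (List.getElem_mem hp')
  · simp [vPos, List.getD, hp']
  · simp [vPats]

/-- The number of occurrences of `z` in a relation. -/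
def countZ (t : List (Option (List ℕ))) : ℕ := t.countP Option.isNone

section shift

variable {Γ : Type} [Group Γ] (π : PresentedGroup pres →* Γ)

/-- The product of the symbols of a relation. -/
noncomputable def tProd (z : Γ) (t : List (Option (List ℕ))) : Γ :=
  (t.map fun o => o.elim z fun w => π (val w)).prod

theorem tProd_shift (z q : Γ) (hq : ∀ x, x * q = q * x) : ∀ t : List (Option (List ℕ)),
    tProd π (z * q) t = tProd π z t * q ^ countZ t := by
  intro t
  induction t with
  | nil => simp [tProd, countZ]
  | cons o t ih =>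
    cases o with
    | none =>
      simp only [tProd, List.map_cons, List.prod_cons, Option.elim_none, countZ, List.countP_cons,
        Option.isNone_none, if_true] at ih ⊢
      rw [ih, pow_succ', mul_assoc z, ← mul_assoc q, ← hq]
      simp only [mul_assoc]
    | some w =>
      simp only [tProd, List.map_cons, List.prod_cons, Option.elim_some, countZ, List.countP_cons,
        Option.isNone_some, Bool.false_eq_true, if_false, add_zero] at ih ⊢
      rw [ih, mul_assoc]

/-- A rotated relation has the same central value. -/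
theorem tProd_rotate (z : Γ) {t : List (Option (List ℕ))} {q : Γ} (hq : ∀ x, x * q = q * x)
    (h : tProd π z t = q) (k : ℕ) : tProd π z (t.rotate k) = q := by
  set m := k % t.length with hm
  have hr : t.rotate k = t.drop m ++ t.take m := by
    rw [← List.rotate_mod]
    rcases Nat.eq_zero_or_pos t.length with h0 | h0
    · rw [List.length_eq_zero_iff.1 h0]; simp
    · exact List.rotate_eq_drop_append_take (Nat.mod_lt _ h0).le
  have h' : tProd π z (t.take m) * tProd π z (t.drop m) = q := by
    rw [← h]
    simp only [tProd, ← List.prod_append, ← List.map_append, List.take_append_drop]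
  have : tProd π z (t.drop m ++ t.take m) = tProd π z (t.drop m) * tProd π z (t.take m) := by
    simp [tProd]
  rw [hr, this, eq_comm, ← mul_right_inj (tProd π z (t.take m)), ← mul_assoc, h', hq]

end shift

theorem vval_lin {Γ : Type} [Group Γ] (c : ℕ → Subgroup.center Γ) :
    ∀ l : List (ℤ × List ℤ), (∀ p ∈ l, vval c p.2 = 1) →
      vval c ((List.range NV).map fun j => (l.map fun p => p.1 * p.2.getD j 0).sum) = 1 := by
  intro l
  induction l with
  | nil =>
    intro _
    rw [← vval_nil c]
    exact vval_congr c (by decide)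
  | cons p l ih =>
    intro h
    have h1 : vval c ((List.range NV).map fun j => p.1 * p.2.getD j 0) = 1 := by
      have h2 : (∏ j ∈ Finset.range NV, c j ^ p.2.getD j 0 : Subgroup.center Γ) = 1 :=
        Subtype.ext (h p List.mem_cons_self)
      have h3 : (∏ j ∈ Finset.range NV, c j ^ p.2.getD j 0 : Subgroup.center Γ) ^ p.1 = 1 := by
        rw [h2, one_zpow]
      rw [← Finset.prod_zpow] at h3
      simp only [vval]
      rw [← OneMemClass.coe_one (Subgroup.center Γ), ← h3]
      refine congrArg Subtype.val (Finset.prod_congr rfl fun j hj => ?_)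
      rw [Finset.mem_range] at hj
      rw [← zpow_mul, mul_comm]
      simp [hj]
    have h4 := ih fun q hq => h q (List.mem_cons_of_mem _ hq)
    have h5 := vval_add c ((List.range NV).map fun j => p.1 * p.2.getD j 0)
      ((List.range NV).map fun j => (l.map fun q => q.1 * q.2.getD j 0).sum)
    rw [h1, h4, one_mul] at h5
    rw [← h5]
    refine vval_congr c (List.all_eq_true.2 fun j hj => ?_)
    rw [List.mem_range] at hj
    simp [vadd, hj]

/-- The representative of a node, along the tree. -/
noncomputable def vNode {Γ : Type} [Group Γ] (π : PresentedGroup pres →* Γ) (z : Γ) : ℕ → Γ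
  | 0 => 1
  | k + 1 =>
    if h : (vTree.getD k (0, [])).1 ≤ k then
      vNode π z (vTree.getD k (0, [])).1 * π (val (vTree.getD k (0, [])).2) * z
    else 1
termination_by k => k

variable {Δ : Type} [Group Δ] (τ : Δ →* Ly)

/-- A kernel element as a central element. -/
noncomputable def cen (x : Δ) : Subgroup.center Δ :=
  open Classical in if h : x ∈ Subgroup.center Δ then ⟨x, h⟩ else 1

theorem cen_coe {x : Δ} (h : x ∈ Subgroup.center Δ) : (cen x : Δ) = x := by
  rw [cen, dif_pos h]

/-- Lifts of `z` and of `P` can be chosen so that all relations hold. -/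
theorem exists_exact (hs : Function.Surjective τ) (hc : τ.ker ≤ Subgroup.center Δ) :
    ∃ (π : PresentedGroup pres →* Δ) (z : Δ), τ.comp π = toLy ∧ τ z = Dce.lyZ ∧
      (∀ i < Dce.kData.kGen.length,
        π (val (Dce.kData.kGen.getD i [])) * z = z * π (val (Dce.kData.thGen.getD i []))) ∧
      ∀ r < 6, tProd π z (Dce.basePats.getD r []) = 1 := by
  classical
  obtain ⟨π, hπ⟩ := exists_lift_P τ hs hc toLy LyRep.toLy_injective
  obtain ⟨z0, hz0⟩ := hs Dce.lyZ
  have hτπ : ∀ q, τ (π q) = toLy q := fun q => DFunLike.congr_fun hπ q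
  let lam : ℕ → Δ := fun i =>
    (z0 * π (val (Dce.kData.thGen.getD i [])))⁻¹ * (π (val (Dce.kData.kGen.getD i [])) * z0)
  let rv : ℕ → Δ := fun r => tProd π z0 (Dce.basePats.getD r [])
  let c : ℕ → Subgroup.center Δ := fun j => if j < 8 then cen (lam j) else cen (rv (j - 8))
  have hlam : ∀ i < Dce.kData.kGen.length, lam i ∈ τ.ker := by
    intro i hi
    simp only [lam, MonoidHom.mem_ker, map_mul, map_inv, hτπ, hz0, Dce.zk_ly i hi, inv_mul_cancel]
  have hrv : ∀ r < 6, rv r ∈ τ.ker := by
    intro r hr
    have hlen : r < Dce.basePats.length := hr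
    have h := Dce.basePats_ok _ (List.getElem_mem hlen)
    simp only [rv, tProd, MonoidHom.mem_ker]
    rw [map_list_prod, List.map_map]
    rw [List.getD_eq_getElem _ _ hlen]
    refine Eq.trans (congrArg List.prod (List.map_congr_left fun o _ => ?_)) h
    cases o with
    | none => exact hz0
    | some w => exact hτπ _
  have hc8 : ∀ i < Dce.kData.kGen.length, (c i : Δ) = lam i := fun i hi => by
    have : i < 8 := hi
    simp only [c, if_pos this]
    exact cen_coe (hc (hlam i hi))
  have hcr : ∀ r < 6, (c (8 + r) : Δ) = rv r := fun r hr => by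
    simp only [c, if_neg (show ¬ 8 + r < 8 by omega), Nat.add_sub_cancel_left]
    exact cen_coe (hc (hrv r hr))
  let S : Setting Dce.kData vPats vPos Δ :=
    { π := π
      z := z0
      c := c
      kgen_len := by decide +kernel
      kgen_ok := by decide +kernel
      zk := fun i hi => by
        rw [hc8 i hi]
        simp only [lam, mul_inv_cancel_left]
      pvec_lt := vPos_lt
      pat := fun p t h => by
        obtain ⟨r, k, hr, hpos, rfl⟩ := vPats_get h
        rw [hpos]
        exact tProd_rotate π z0 (Subgroup.mem_center_iff.1 (c (8 + r)).2) (hcr r hr).symm k }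
  have htree : ((List.range vTree.length).all fun k => Nat.ble (vTree.getD k (0, [])).1 k) = true := by
    decide +kernel
  have hrel := S.checkAll_sound (g := vNode π z0) (by rw [vNode]) (by
    intro k x hx
    obtain ⟨hk, he⟩ := List.getElem?_eq_some_iff.1 hx
    have hble := List.all_eq_true.1 htree k (List.mem_range.2 hk)
    rw [Nat.ble_eq] at hble
    rw [vNode, dif_pos hble, List.getD_eq_getElem _ _ hk, he]
    rfl) vDerivs [] vDerivs_ok (by simp)
  have hrow : ∀ n ∈ vRows, vval c (((vDerivs.map Prod.fst)[n]?.map VFact.a).getD []) = 1 := by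
    intro n hn
    have h := List.all_eq_true.1 rows_ok n hn
    cases hx : (vDerivs.map Prod.fst)[n]? with
    | none => simp [hx] at h
    | some x =>
      simp only [hx, Bool.and_eq_true, Bool.not_eq_true', Nat.beq_eq] at h
      obtain ⟨⟨he, hij⟩, hw⟩ := h
      have hR := hrel x (by simpa using List.mem_of_getElem? hx)
      simp only [Setting.Rel, Setting.Eqv, he, hij, cond_false, mul_one, S.el_eq hw, mul_inv_cancel,
        one_mul] at hR
      obtain ⟨q, hq⟩ := S.π.range.inv_mem hR
      rw [inv_inv] at hq
      have hk : τ (vval c x.a) = 1 := by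
        simp only [vval, map_one]
        refine MonoidHom.mem_ker.1 ?_
        have hmem : ∀ j < NV, (c j : Δ) ∈ τ.ker := by
          intro j hj
          rcases lt_or_ge j 8 with h8 | h8
          · rw [hc8 j h8]; exact hlam j h8
          · obtain ⟨r, rfl⟩ : ∃ r, j = 8 + r := ⟨j - 8, by omega⟩
            rw [hcr r (by simp only [NV] at hj; omega)]
            exact hrv r (by simp only [NV] at hj; omega)
        have : (∏ j ∈ Finset.range NV, c j ^ x.a.getD j 0 : Subgroup.center Δ) ∈
            τ.ker.comap (Subgroup.center Δ).subtype :=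
          Subgroup.prod_mem _ fun j hj => Subgroup.zpow_mem _ (hmem j (Finset.mem_range.1 hj)) _
        exact this
      have hq1 : toLy q = 1 := by rw [← hτπ]; exact (congrArg τ hq).trans hk
      rw [← map_one toLy] at hq1
      rw [LyRep.toLy_injective hq1, map_one] at hq
      exact hq.symm
  let ζ : Δ := vval c vGauge
  have hζ : ∀ x, x * ζ = ζ * x := vval_comm c _
  have key : ∀ k < NV, (c k : Δ) = ζ ^ vWeight.getD k 0 := by
    intro k hk
    have hlin := vval_lin c ((List.range vRows.length).map fun r =>
      ((vComb.getD k []).getD r 0, ((vDerivs.map Prod.fst)[vRows.getD r 0]?.map VFact.a).getD [])) (by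
        intro p hp
        obtain ⟨r, hr, rfl⟩ := List.mem_map.1 hp
        rw [List.mem_range] at hr
        refine hrow _ ?_
        rw [List.getD_eq_getElem _ _ hr]
        exact List.getElem_mem hr)
    simp only [List.map_map] at hlin
    change vval c (combVec k) = 1 at hlin
    let wX : List ℤ := (List.range NV).map fun j => vWeight.getD k 0 * vGauge.getD j 0
    have hw : vval c wX = ζ ^ vWeight.getD k 0 := by
      simp only [vval, ζ, ← Subgroup.coe_zpow]
      rw [← Finset.prod_zpow]
      refine congrArg Subtype.val (Finset.prod_congr rfl fun j hj => ?_)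
      rw [Finset.mem_range] at hj
      rw [← zpow_mul, mul_comm (vGauge.getD j 0)]
      simp [wX, hj]
    have he : vval c (combVec k) = vval c (vsub (vone k) wX) := by
      refine vval_congr c (List.all_eq_true.2 fun j hj => ?_)
      have h := List.all_eq_true.1 (List.all_eq_true.1 comb_ok k (List.mem_range.2 hk)) j hj
      rw [List.mem_range] at hj
      simp only [decide_eq_true_eq] at h ⊢
      rw [h]
      simp [vsub, vone, wX, hj]
    rw [hlin, vval_sub, vval_one c hk, hw] at he
    exact mul_inv_eq_one.1 he.symm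
  have hζi : ∀ x, x * ζ⁻¹ = ζ⁻¹ * x := fun x => (Commute.inv_right (hζ x) : Commute x ζ⁻¹)
  have hζk : τ ζ = 1 := by
    have h1 : ∀ j < NV, (c j : Δ) ∈ τ.ker := fun j hj => by
      rcases lt_or_ge j 8 with h8 | h8
      · rw [hc8 j h8]; exact hlam j h8
      · obtain ⟨r, rfl⟩ : ∃ r, j = 8 + r := ⟨j - 8, by omega⟩
        rw [hcr r (by simp only [NV] at hj; omega)]
        exact hrv r (by simp only [NV] at hj; omega)
    have : (∏ j ∈ Finset.range NV, c j ^ vGauge.getD j 0 : Subgroup.center Δ) ∈
        τ.ker.comap (Subgroup.center Δ).subtype :=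
      Subgroup.prod_mem _ fun j hj => Subgroup.zpow_mem _ (h1 j (Finset.mem_range.1 hj)) _
    exact this
  refine ⟨π, z0 * ζ⁻¹, hπ, ?_, fun i hi => ?_, fun r hr => ?_⟩
  · rw [map_mul, map_inv, hz0, hζk, inv_one, mul_one]
  · have h8 : i < 8 := hi
    have hw0 : ∀ i < 8, vWeight.getD i 0 = 0 := by decide +kernel
    have hl := key i (by simp only [NV]; omega)
    rw [hc8 i hi, hw0 i h8, zpow_zero] at hl
    have h := S.zk i hi
    change π _ * z0 = z0 * π _ * (c i : Δ) at h
    rw [hc8 i hi, hl, mul_one] at h
    rw [← mul_assoc, h, mul_assoc z0, hζi, ← mul_assoc]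
  · have hcount : ∀ r < 6, (countZ (Dce.basePats.getD r []) : ℤ) = vWeight.getD (8 + r) 0 := by
      decide +kernel
    have h1 := key (8 + r) (by simp only [NV]; omega)
    rw [hcr r hr, ← hcount r hr, zpow_natCast] at h1
    change tProd π z0 (Dce.basePats.getD r []) = _ at h1
    rw [tProd_shift π z0 ζ⁻¹ hζi, h1, inv_pow, mul_inv_cancel]

theorem multiplier_Ly : HasCyclicSchurMultiplier Ly 1 := by
  haveI := Dce.finite_ly
  refine Multiplier.hasCyclicSchurMultiplier_one_iff.2 fun Δ _ _ τ hτ => ?_
  obtain ⟨π, z, hπ, hz, hzk, hpat⟩ := exists_exact τ hτ.1 hτ.2.1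
  let H : Subgroup Δ := Subgroup.closure (Set.range π ∪ {z})
  let π' : PresentedGroup pres →* H :=
    π.codRestrict H fun q => Subgroup.subset_closure (Or.inl ⟨q, rfl⟩)
  let z' : H := ⟨z, Subgroup.subset_closure (Or.inr rfl)⟩
  have hin : ∀ t : List (Option (List ℕ)),
      ((t.map fun o => o.elim z' fun w => π' (val w)).prod : H).1 = tProd π z t := by
    intro t
    induction t with
    | nil => rfl
    | cons o t ih =>
      simp only [tProd, List.map_cons, List.prod_cons, Subgroup.coe_mul] at ih ⊢
      rw [ih]
      cases o <;> rfl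
  let S : Dce.Setting Dce.kData Dce.pats H :=
    { π := π'
      z := z'
      kgen_ok := by decide +kernel
      zk := fun i hi => Subtype.ext (hzk i hi)
      pat := fun t ht => by
        obtain ⟨q, hq, rfl⟩ := List.mem_map.1 ht
        have hlt : ∀ q ∈ Dce.patUsed, q.1 < 6 := by decide +kernel
        refine Subtype.ext ((hin _).trans ?_)
        exact tProd_rotate π z (fun x => by rw [mul_one, one_mul]) (hpat q.1 (hlt q hq)) q.2 }
  have hz2 : S.z * S.z ∈ S.π.range := by
    refine ⟨val Dce.uW, Subtype.ext ?_⟩
    have h := hpat 0 (by omega)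
    simp only [tProd, Dce.basePats, List.getD_cons_zero, List.map_cons, List.map_nil, List.prod_cons,
      List.prod_nil, Option.elim_none, Option.elim_some, mul_one] at h
    rw [← mul_assoc, mul_eq_one_iff_eq_inv, ← map_inv] at h
    change π (val Dce.uW) = z * z
    rw [h]
    congr 1
  have htop : Subgroup.closure (Set.range S.π ∪ {S.z}) = ⊤ := by
    apply Subgroup.map_injective H.subtype_injective
    rw [MonoidHom.map_closure, ← MonoidHom.range_eq_map, Subgroup.range_subtype, Set.image_union,
      Set.image_singleton, ← Set.range_comp]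
    rfl
  obtain ⟨-, hidx⟩ := Dce.fullCert.finite_index S hz2 htop
  have hsum : ∑ i : Fin Dce.fullCert.nds.length,
      Nat.card (PresentedGroup pres ⧸ Dce.fullCert.stab i.1) = 8835156 := by
    have hlen : Dce.fullCert.nds.length = 5 := rfl
    have e : ∀ i : Fin Dce.fullCert.nds.length,
        Nat.card (PresentedGroup pres ⧸ Dce.fullCert.stab i.1) = Dce.nodeIndex i.1 :=
      fun i => Dce.index_stab i.1 (hlen ▸ i.2)
    rw [Finset.sum_congr rfl fun i _ => e i, Fin.sum_univ_eq_sum_range (fun i => Dce.nodeIndex i), hlen]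
    rfl
  rw [hsum] at hidx
  haveI := finite
  have hcardH : Nat.card H ≤ 51765179004000000 := by
    rw [← S.π.range.card_mul_index, Subgroup.index]
    calc Nat.card S.π.range * Nat.card (H ⧸ S.π.range) ≤ 5859000000 * 8835156 := by
          refine Nat.mul_le_mul ?_ hidx
          rw [← card_P.1]
          exact Nat.card_le_card_of_surjective _ S.π.rangeRestrict_surjective
      _ = 51765179004000000 := by norm_num
  let τH : H →* Ly := τ.comp H.subtype
  have hsurj : Function.Surjective τH := by
    rw [← MonoidHom.range_eq_top, eq_top_iff, ← Dce.gens_top, Subgroup.closure_le]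
    rintro x (⟨q, rfl⟩ | rfl)
    · exact ⟨π' q, DFunLike.congr_fun hπ q⟩
    · exact ⟨z', hz⟩
  have hbij : Function.Bijective τH := (Nat.bijective_iff_surjective_and_card τH).2
    ⟨hsurj, le_antisymm (hcardH.trans_eq LyRep.card_ly.symm) (Nat.card_le_card_of_surjective _ hsurj)⟩
  have htopΔ : H ⊔ τ.ker = ⊤ := by
    rw [eq_top_iff]
    intro v _
    obtain ⟨h, hh⟩ := hsurj (τ v)
    have : v = h.1 * (h.1⁻¹ * v) := by group
    rw [this]
    refine Subgroup.mul_mem_sup h.2 ?_
    rw [MonoidHom.mem_ker, map_mul, map_inv, show τ h.1 = τ v from hh, inv_mul_cancel]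
  have hle : commutator Δ ≤ H :=
    (Multiplier.commutator_le_of_sup_central _ _ hτ.2.1 htopΔ).trans
      (Subgroup.commutator_le.2 fun a ha b hb => by
        rw [commutatorElement_def]
        exact mul_mem (mul_mem (mul_mem ha hb) (inv_mem ha)) (inv_mem hb))
  rw [Subgroup.eq_bot_iff_forall]
  intro v hv
  have h1 : (⟨v, hle (hτ.2.2 hv)⟩ : H) = 1 := hbij.1 (by
    rw [map_one]; exact MonoidHom.mem_ker.1 hv)
  exact congrArg Subtype.val h1

end Cfsg.Agent.Lib.CosetEnum.LyP.Mult
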