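import Cfsg.Agent.Lib.CosetEnum.LyP.Dce.Deriv
import Mathlib.GroupTheory.Subgroup.Center

/-!
Derivations of equations in a central extension: the conjugates of the generators of `K` and the
relations hold up to central values, and each derived equation carries the exponents of these values.
-/

set_option autoImplicit false
set_option maxRecDepth 20000

namespace Cfsg.Agent.Lib.CosetEnum.LyP.Mult

open Cfsg.Agent.Lib.CosetEnum Cfsg.Agent.Lib.CosetEnum.LyP Cfsg.Agent.Lib.ExactCover
open scoped IsMulCommutative

/-- The number of the central values. -/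
abbrev NV : ℕ := 14

/-- A sum of exponent vectors. -/
def vadd (a b : List ℤ) : List ℤ := (List.range NV).map fun j => a.getD j 0 + b.getD j 0

/-- A difference of exponent vectors. -/
def vsub (a b : List ℤ) : List ℤ := (List.range NV).map fun j => a.getD j 0 - b.getD j 0

/-- A unit vector. -/
def vone (k : ℕ) : List ℤ := (List.range NV).map fun j => bif Nat.beq j k then 1 else 0

/-- The exponents of a product of generators of `K`. -/
def kVec (k : List ℕ) : List ℤ := (List.range NV).map fun j =>
  k.foldr (fun g s => s + bif Nat.beq (g / 2) j then (bif Nat.beq (g % 2) 1 then -1 else 1) else 0) 0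

/-- Equal vectors. -/
def veq (a b : List ℤ) : Bool := (List.range NV).all fun j => decide (a.getD j 0 = b.getD j 0)

/-- An equation with its exponents. -/
structure VFact where
  f : Dce.DFact
  a : List ℤ

/-- The value of an exponent vector. -/
noncomputable def vval {Γ : Type*} [Group Γ] (c : ℕ → Subgroup.center Γ) (a : List ℤ) : Γ :=
  ((∏ j ∈ Finset.range NV, c j ^ a.getD j 0 : Subgroup.center Γ) : Γ)

section vval
variable {Γ : Type*} [Group Γ] (c : ℕ → Subgroup.center Γ)

theorem vval_comm (a : List ℤ) (x : Γ) : x * vval c a = vval c a * x :=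
  Subgroup.mem_center_iff.1 (∏ j ∈ Finset.range NV, c j ^ a.getD j 0 : Subgroup.center Γ).2 x

theorem vval_add (a b : List ℤ) : vval c (vadd a b) = vval c a * vval c b := by
  simp only [vval, ← Subgroup.coe_mul, ← Finset.prod_mul_distrib]
  refine congrArg Subtype.val (Finset.prod_congr rfl fun j hj => ?_)
  rw [← zpow_add]
  congr 1
  rw [Finset.mem_range] at hj
  simp [vadd, hj]

theorem vval_sub (a b : List ℤ) : vval c (vsub a b) = vval c a * (vval c b)⁻¹ := by
  simp only [vval, ← Subgroup.coe_inv, ← Subgroup.coe_mul, ← Finset.prod_inv_distrib,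
    ← Finset.prod_mul_distrib]
  refine congrArg Subtype.val (Finset.prod_congr rfl fun j hj => ?_)
  rw [← zpow_neg, ← zpow_add]
  congr 1
  rw [Finset.mem_range] at hj
  simp [vsub, hj, sub_eq_add_neg]

theorem vval_congr {a b : List ℤ} (h : veq a b = true) : vval c a = vval c b := by
  simp only [veq, List.all_eq_true, List.mem_range, decide_eq_true_eq] at h
  simp only [vval]
  exact congrArg Subtype.val (Finset.prod_congr rfl fun j hj => by rw [h j (Finset.mem_range.1 hj)])

theorem vval_nil : vval c [] = 1 := by simp [vval]

theorem vval_one {k : ℕ} (hk : k < NV) : vval c (vone k) = c k := by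
  simp only [vval]
  refine congrArg Subtype.val ?_
  rw [Finset.prod_eq_single k]
  · simp [vone, hk]
  · intro j hj hne
    rw [Finset.mem_range] at hj
    have : Nat.beq j k = false := by rw [← Bool.not_eq_true, Nat.beq_eq]; exact hne
    simp [vone, hj, this]
  · intro h; exact absurd (Finset.mem_range.2 hk) h

end vval

variable (KD : Dce.KData) (pats : List (List (Option (List ℕ)))) (pvec : List ℕ)

/-- Run moves along the symbols of a relation, adding up the exponents. -/
noncomputable def runMoves (acc : List VFact) :
    List Dce.Move → List (Option (List ℕ)) → ℕ → List ℕ → List ℤ → Option (ℕ × List ℕ × List ℤ)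
  | [], [], i, u, a => some (i, u, a)
  | [], _ :: _, _, _, _ => none
  | .tok :: ms, some w :: ts, i, u, a => runMoves acc ms ts i (u ++ w) a
  | .tok :: _, [], _, _, _ => none
  | .tok :: _, none :: _, _, _, _ => none
  | .stab f rev u' :: ms, ts, i, u, a =>
    match acc[f]? with
    | none => none
    | some x =>
      bif !x.f.e && Nat.beq x.f.i i && Nat.beq x.f.j i && Dce.okWord x.f.w && Dce.okWord x.f.v &&
          Dce.wordEq u' ((bif rev then x.f.v ++ invWord x.f.w else x.f.w ++ invWord x.f.v) ++ u) then
        runMoves acc ms ts i u' (bif rev then vadd a x.a else vsub a x.a)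
      else none
  | .step f k :: ms, none :: ts, i, u, a =>
    match acc[f]? with
    | none => none
    | some x =>
      bif x.f.e && Nat.beq x.f.i i && Dce.okK KD k && Dce.wordEq u (x.f.w ++ Dce.kExp KD k) then
        runMoves acc ms ts x.f.j (x.f.v ++ Dce.thExp KD k) (vadd (vadd a x.a) (kVec k))
      else none
  | .step _ _ :: _, [], _, _, _ => none
  | .step _ _ :: _, some _ :: _, _, _, _ => none

/-- Check one derivation. -/
noncomputable def checkFact (nodes : List (ℕ × List ℕ)) (acc : List VFact) (f : VFact) : Dce.Deriv → Bool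
  | .base => Nat.beq f.f.i 0 && Nat.beq f.f.j 0 && !f.f.e && veq f.a []
  | .tree =>
    match nodes[f.f.j - 1]? with
    | none => false
    | some x => Nat.blt 0 f.f.j && Nat.beq x.1 f.f.i && decide (x.2 = f.f.w) && f.f.e &&
        decide (f.f.v = []) && veq f.a []
  | .scan p i u ms =>
    match pats[p]? with
    | none => false
    | some t =>
      bif f.f.e then
        decide (t.getLast? = some none) && Nat.beq f.f.j i && Dce.wordEq f.f.v u &&
          match runMoves KD acc ms t.dropLast i u [] with
          | none => false
          | some q => Nat.beq q.1 f.f.i && Dce.wordEq f.f.w q.2.1 &&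
              veq f.a (vsub (vone (pvec.getD p 0)) q.2.2)
      else
        Nat.beq f.f.i i && Dce.wordEq f.f.w u &&
          match runMoves KD acc ms t i u [] with
          | none => false
          | some q => Nat.beq q.1 f.f.j && Dce.wordEq f.f.v q.2.1 &&
              veq f.a (vsub q.2.2 (vone (pvec.getD p 0)))
  | .cmp i u ms ms' =>
    !f.f.e &&
      match runMoves KD acc ms [none] i u [], runMoves KD acc ms' [none] i u [] with
      | some q, some q' => Nat.beq q.1 f.f.i && Dce.wordEq f.f.w q.2.1 && Nat.beq q'.1 f.f.j &&
          Dce.wordEq f.f.v q'.2.1 && veq f.a (vsub q'.2.2 q.2.2)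
      | _, _ => false

/-- Check a list of derived equations, each from the earlier ones. -/
noncomputable def checkAll (nodes : List (ℕ × List ℕ)) : List (VFact × Dce.Deriv) → List VFact → Bool
  | [], _ => true
  | p :: ps, acc => checkFact KD pats pvec nodes acc p.1 p.2 && checkAll nodes ps (acc ++ [p.1])

/-- An image of `P` and an element `z`, the relations holding up to central values. -/
structure Setting (Γ : Type*) [Group Γ] where
  π : PresentedGroup pres →* Γ
  z : Γ
  c : ℕ → Subgroup.center Γ
  kgen_len : KD.kGen.length ≤ NV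
  kgen_ok : ∀ i < KD.kGen.length,
    Dce.okWord (KD.kGen.getD i []) = true ∧ Dce.okWord (KD.thGen.getD i []) = true
  zk : ∀ i < KD.kGen.length,
    π (val (KD.kGen.getD i [])) * z = z * π (val (KD.thGen.getD i [])) * (c i : Γ)
  pvec_lt : ∀ p, pvec.getD p 0 < NV
  pat : ∀ p t, pats[p]? = some t →
    (t.map fun o => o.elim z fun w => π (val w)).prod = (c (pvec.getD p 0) : Γ)

namespace Setting

variable {KD pats pvec} {Γ : Type*} [Group Γ] (S : Setting KD pats pvec Γ)

/-- The value of a word. -/
noncomputable def el (u : List ℕ) : Γ := S.π (val u)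

theorem el_append (u v : List ℕ) : S.el (u ++ v) = S.el u * S.el v := by
  simp only [el, Dce.val_append, map_mul]

theorem el_nil : S.el [] = 1 := by simp only [el, Dce.val_nil, map_one]

theorem el_inv {u : List ℕ} (h : Dce.okWord u = true) : S.el (invWord u) = (S.el u)⁻¹ := by
  rw [el, Dce.val_invWord u h, map_inv, el]

theorem el_eq {u v : List ℕ} (h : Dce.wordEq u v = true) : S.el u = S.el v :=
  congrArg S.π (Dce.val_eq_of_wordEq h)

/-- The product of the symbols of a relation. -/
noncomputable def tokProd (t : List (Option (List ℕ))) : Γ :=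
  (t.map fun o => o.elim S.z fun w => S.el w).prod

theorem kExp_mul_z : ∀ k : List ℕ, Dce.okK KD k = true →
    S.el (Dce.kExp KD k) * S.z = S.z * S.el (Dce.thExp KD k) * vval S.c (kVec k) := by
  intro k
  induction k with
  | nil =>
    intro _
    have : vval S.c (kVec []) = 1 := by
      rw [← vval_nil S.c]
      exact vval_congr S.c (by decide)
    simp [Dce.kExp, Dce.thExp, Dce.genWord, el_nil, this]
  | cons g k ih =>
    intro h
    simp only [Dce.okK, List.all_cons, Bool.and_eq_true, Nat.blt_eq] at h
    have e1 : Dce.kExp KD (g :: k) = (bif Nat.beq (g % 2) 1 then invWord (KD.kGen.getD (g / 2) [])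
        else KD.kGen.getD (g / 2) []) ++ Dce.kExp KD k := by simp [Dce.kExp, Dce.genWord]
    have e2 : Dce.thExp KD (g :: k) = (bif Nat.beq (g % 2) 1 then invWord (KD.thGen.getD (g / 2) [])
        else KD.thGen.getD (g / 2) []) ++ Dce.thExp KD k := by simp [Dce.thExp, Dce.genWord]
    obtain ⟨o1, o2⟩ := S.kgen_ok _ h.1
    have hlt : g / 2 < NV := lt_of_lt_of_le h.1 S.kgen_len
    have hz : S.el (KD.kGen.getD (g / 2) []) * S.z =
        S.z * S.el (KD.thGen.getD (g / 2) []) * vval S.c (vone (g / 2)) := by
      rw [vval_one S.c hlt]; exact S.zk _ h.1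
    have hsplit : vval S.c (kVec (g :: k)) = vval S.c (kVec k) *
        (bif Nat.beq (g % 2) 1 then (vval S.c (vone (g / 2)))⁻¹ else vval S.c (vone (g / 2))) := by
      cases hb : Nat.beq (g % 2) 1 with
      | false =>
        rw [cond_false, ← vval_add]
        refine vval_congr S.c (List.all_eq_true.2 fun j hj => ?_)
        rw [List.mem_range] at hj
        simp only [decide_eq_true_eq]
        by_cases he : g / 2 = j
        · subst he; simp [kVec, vadd, vone, hb, hlt]
        · have h1 : Nat.beq (g / 2) j = false := by rw [← Bool.not_eq_true, Nat.beq_eq]; exact he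
          have h2 : Nat.beq j (g / 2) = false := by rw [← Bool.not_eq_true, Nat.beq_eq]; exact Ne.symm he
          simp [kVec, vadd, vone, hj, h1, h2]
      | true =>
        rw [cond_true, ← vval_sub]
        refine vval_congr S.c (List.all_eq_true.2 fun j hj => ?_)
        rw [List.mem_range] at hj
        simp only [decide_eq_true_eq]
        by_cases he : g / 2 = j
        · subst he; simp [kVec, vsub, vone, hb, hlt, sub_eq_add_neg]
        · have h1 : Nat.beq (g / 2) j = false := by rw [← Bool.not_eq_true, Nat.beq_eq]; exact he
          have h2 : Nat.beq j (g / 2) = false := by rw [← Bool.not_eq_true, Nat.beq_eq]; exact Ne.symm he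
          simp [kVec, vsub, vone, hj, h1, h2]
    set v := vval S.c (vone (g / 2))
    have hv : ∀ x, x * v = v * x := vval_comm S.c _
    rw [e1, e2, el_append, el_append, mul_assoc, ih h.2, hsplit, ← mul_assoc, ← mul_assoc]
    cases Nat.beq (g % 2) 1 with
    | false =>
      simp only [cond_false]
      rw [hz]
      simp only [mul_assoc]
      rw [← mul_assoc v, ← hv, mul_assoc, ← hv (vval S.c (kVec k))]
    | true =>
      simp only [cond_true, S.el_inv o1, S.el_inv o2]
      have hz' : (S.el (KD.kGen.getD (g / 2) []))⁻¹ * S.z =
          S.z * (S.el (KD.thGen.getD (g / 2) []))⁻¹ * v⁻¹ := by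
        rw [inv_mul_eq_iff_eq_mul, ← mul_assoc, ← mul_assoc, hz, mul_assoc _ v,
          ← hv (S.el (KD.thGen.getD (g / 2) []))⁻¹, ← mul_assoc, mul_inv_cancel_right,
          mul_inv_cancel_right]
      rw [hz']
      simp only [mul_assoc]
      have hvi : ∀ x, x * v⁻¹ = v⁻¹ * x := fun x => (Commute.inv_right (hv x) : Commute x v⁻¹)
      rw [← mul_assoc v⁻¹, ← hvi, mul_assoc, ← hvi (vval S.c (kVec k))]

/-- `X` is `Y` times the central value `q`, up to the image of `P`. -/
def Eqv (X Y q : Γ) : Prop := X * Y⁻¹ * q⁻¹ ∈ S.π.range

variable {S}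

theorem Eqv.trans {X Y Z q r : Γ} (hq : ∀ x, x * q = q * x) (h : Eqv S X Y q) (h' : Eqv S Y Z r) :
    Eqv S X Z (q * r) := by
  have := S.π.range.mul_mem h h'
  have hqi : ∀ x, x * q⁻¹ = q⁻¹ * x := fun x => (Commute.inv_right (hq x) : Commute x q⁻¹)
  show X * Z⁻¹ * (q * r)⁻¹ ∈ S.π.range
  convert this using 1
  rw [mul_inv_rev, mul_assoc (X * Y⁻¹), ← hqi]
  group

theorem Eqv.symm {X Y q : Γ} (hq : ∀ x, x * q = q * x) (h : Eqv S X Y q) : Eqv S Y X q⁻¹ := by
  have := S.π.range.inv_mem h
  show Y * X⁻¹ * q⁻¹⁻¹ ∈ S.π.range
  convert this using 1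
  simp only [mul_inv_rev, inv_inv, ← hq, mul_assoc]

theorem Eqv.mul_right {X Y q : Γ} (h : Eqv S X Y q) (W : Γ) : Eqv S (X * W) (Y * W) q := by
  simpa [Eqv, mul_assoc] using h

theorem Eqv.shift {X Y Y' q r : Γ} (hr : ∀ x, x * r = r * x) (h : Eqv S X Y q) (e : Y = Y' * r) :
    Eqv S X Y' (q * r) := by
  unfold Eqv at h
  show X * Y'⁻¹ * (q * r)⁻¹ ∈ S.π.range
  convert h using 1
  subst e
  have hri : ∀ x, x * r⁻¹ = r⁻¹ * x := fun x => (Commute.inv_right (hr x) : Commute x r⁻¹)
  rw [mul_inv_rev, mul_inv_rev, hri Y'⁻¹ |>.symm]
  group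

theorem Eqv.refl (X : Γ) : Eqv S X X 1 := by simp [Eqv]

variable (S)

/-- The meaning of an equation. -/
def Rel (g : ℕ → Γ) (f : VFact) : Prop :=
  Eqv S (g f.f.i * S.el f.f.w * (bif f.f.e then S.z else 1)) (g f.f.j * S.el f.f.v) (vval S.c f.a)

theorem runMoves_sound {g : ℕ → Γ} {acc : List VFact} (hacc : ∀ f ∈ acc, S.Rel g f) :
    ∀ (ms : List Dce.Move) (ts : List (Option (List ℕ))) (i : ℕ) (u : List ℕ) (a : List ℤ) (A : Γ),
      Eqv S A (g i * S.el u) (vval S.c a) →
      ∀ j v b, runMoves KD acc ms ts i u a = some (j, v, b) →
        Eqv S (A * S.tokProd ts) (g j * S.el v) (vval S.c b) := by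
  intro ms
  induction ms with
  | nil =>
    intro ts i u a A h j v b he
    cases ts with
    | nil =>
      simp only [runMoves, Option.some.injEq, Prod.mk.injEq] at he
      obtain ⟨rfl, rfl, rfl⟩ := he
      simpa [tokProd] using h
    | cons _ _ => simp [runMoves] at he
  | cons m ms ih =>
    intro ts i u a A h j v b he
    cases m with
    | tok =>
      rcases ts with _ | ⟨_ | w, ts⟩
      · simp [runMoves] at he
      · simp [runMoves] at he
      · simp only [runMoves] at he
        have := ih ts i (u ++ w) a (A * S.el w)
          (by simpa [el_append, mul_assoc] using h.mul_right (S.el w)) j v b he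
        simpa [tokProd, mul_assoc] using this
    | stab f rev u' =>
      simp only [runMoves] at he
      cases hf : acc[f]? with
      | none => simp [hf] at he
      | some x =>
        simp only [hf] at he
        have hR := hacc x (List.mem_of_getElem? hf)
        cases hc : (!x.f.e && Nat.beq x.f.i i && Nat.beq x.f.j i && Dce.okWord x.f.w &&
            Dce.okWord x.f.v &&
            Dce.wordEq u' ((bif rev then x.f.v ++ invWord x.f.w else x.f.w ++ invWord x.f.v) ++ u)) with
        | false => simp [hc] at he
        | true =>
          simp only [hc, cond_true] at he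
          simp only [Bool.and_eq_true, Bool.not_eq_true', Nat.beq_eq] at hc
          obtain ⟨⟨⟨⟨⟨he0, hi⟩, hj⟩, hw⟩, hv⟩, heq⟩ := hc
          refine ih ts i u' _ A ?_ j v b he
          simp only [Rel, he0, hi, hj, cond_false, mul_one] at hR
          rw [S.el_eq heq]
          cases rev with
          | false =>
            simp only [cond_false, el_append, S.el_inv hv, vval_sub]
            refine h.trans (vval_comm S.c a) ?_
            have := (hR.symm (vval_comm S.c x.a)).mul_right ((S.el x.f.v)⁻¹ * S.el u)
            simpa [mul_assoc] using this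
          | true =>
            simp only [cond_true, el_append, S.el_inv hw, vval_add]
            refine h.trans (vval_comm S.c a) ?_
            have := hR.mul_right ((S.el x.f.w)⁻¹ * S.el u)
            simpa [mul_assoc] using this
    | step f k =>
      rcases ts with _ | ⟨_ | w, ts⟩
      · simp [runMoves] at he
      · simp only [runMoves] at he
        cases hf : acc[f]? with
        | none => simp [hf] at he
        | some x =>
          simp only [hf] at he
          have hR := hacc x (List.mem_of_getElem? hf)
          cases hc : (x.f.e && Nat.beq x.f.i i && Dce.okK KD k &&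
              Dce.wordEq u (x.f.w ++ Dce.kExp KD k)) with
          | false => simp [hc] at he
          | true =>
            simp only [hc, cond_true] at he
            simp only [Bool.and_eq_true, Nat.beq_eq] at hc
            obtain ⟨⟨⟨he0, hi⟩, hk⟩, heq⟩ := hc
            simp only [Rel, he0, hi, cond_true] at hR
            have hkz := S.kExp_mul_z k hk
            have h1 := h.mul_right S.z
            rw [S.el_eq heq, el_append, mul_assoc (g i), mul_assoc (S.el x.f.w), hkz] at h1
            have h2 := h1.shift (Y' := g i * S.el x.f.w * S.z * S.el (Dce.thExp KD k))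
              (vval_comm S.c (kVec k)) (by simp only [mul_assoc])
            have hc2 : ∀ y, y * (vval S.c a * vval S.c (kVec k)) = (vval S.c a * vval S.c (kVec k)) * y :=
              fun y => by rw [← vval_add]; exact vval_comm S.c _ y
            have h3 := h2.trans hc2 (hR.mul_right (S.el (Dce.thExp KD k)))
            have h4 : Eqv S (A * S.z) (g x.f.j * S.el (x.f.v ++ Dce.thExp KD k))
                (vval S.c (vadd (vadd a x.a) (kVec k))) := by
              rw [el_append, ← mul_assoc, vval_add, vval_add, mul_assoc (vval S.c a) (vval S.c x.a),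
                vval_comm S.c (kVec k) (vval S.c x.a), ← mul_assoc]
              exact h3
            have := ih ts x.f.j _ _ (A * S.z) h4 j v b he
            simpa [tokProd, mul_assoc] using this
      · simp [runMoves] at he

theorem checkAll_sound {g : ℕ → Γ} {nodes : List (ℕ × List ℕ)} (hg0 : g 0 = 1)
    (hg : ∀ k x, nodes[k]? = some x → g (k + 1) = g x.1 * S.el x.2 * S.z) :
    ∀ (l : List (VFact × Dce.Deriv)) (acc : List VFact), checkAll KD pats pvec nodes l acc = true →
      (∀ f ∈ acc, S.Rel g f) → ∀ f ∈ acc ++ l.map Prod.fst, S.Rel g f := by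
  intro l
  induction l with
  | nil => intro acc _ h f hf; exact h f (by simpa using hf)
  | cons p ps ih =>
    intro acc hc hacc
    simp only [checkAll, Bool.and_eq_true] at hc
    obtain ⟨hf, hrest⟩ := hc
    suffices S.Rel g p.1 by
      intro f hfmem
      refine ih (acc ++ [p.1]) hrest ?_ f (by simpa using hfmem)
      intro f hf
      rcases List.mem_append.1 hf with hf | hf
      · exact hacc f hf
      · rw [List.mem_singleton] at hf; subst hf; exact this
    obtain ⟨⟨x, xa⟩, d⟩ := p
    have hA : ∀ i u, Eqv S (g i * S.el u) (g i * S.el u) (vval S.c []) := by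
      intro i u; rw [vval_nil]; exact Eqv.refl _
    cases d with
    | base =>
      simp only [checkFact, Bool.and_eq_true, Nat.beq_eq, Bool.not_eq_true'] at hf
      obtain ⟨⟨⟨hi, hj⟩, he⟩, ha⟩ := hf
      simp only [Rel, Eqv, hi, hj, he, hg0, cond_false, one_mul, mul_one, vval_congr S.c ha, vval_nil,
        inv_one]
      exact S.π.range.mul_mem ⟨_, rfl⟩ (S.π.range.inv_mem ⟨_, rfl⟩)
    | tree =>
      simp only [checkFact] at hf
      cases hn : nodes[x.j - 1]? with
      | none => simp [hn] at hf
      | some y =>
        simp only [hn, Bool.and_eq_true, Nat.blt_eq, Nat.beq_eq, decide_eq_true_eq] at hf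
        obtain ⟨⟨⟨⟨⟨hj, hi⟩, hw⟩, he⟩, hv⟩, ha⟩ := hf
        have := hg _ _ hn
        rw [Nat.sub_add_cancel hj] at this
        simp [Rel, Eqv, this, hi, hw, he, hv, el_nil, mul_assoc, vval_congr S.c ha, vval_nil]
    | scan p i u ms =>
      simp only [checkFact] at hf
      cases hp : pats[p]? with
      | none => simp [hp] at hf
      | some t =>
        set V := vval S.c (vone (pvec.getD p 0)) with hVdef
        have hV : ∀ y, y * V = V * y := vval_comm S.c _
        have hVi : ∀ y, y * V⁻¹ = V⁻¹ * y := fun y => (Commute.inv_right (hV y) : Commute y V⁻¹)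
        have ht : S.tokProd t = V := by
          rw [hVdef, vval_one S.c (S.pvec_lt p)]; exact S.pat p t hp
        simp only [hp] at hf
        cases he : x.e with
        | true =>
          simp only [he, cond_true, Bool.and_eq_true, Nat.beq_eq, decide_eq_true_eq] at hf
          obtain ⟨⟨⟨hlast, hj⟩, hv⟩, hr⟩ := hf
          cases hq : runMoves KD acc ms t.dropLast i u [] with
          | none => simp [hq] at hr
          | some q =>
            simp only [hq, Bool.and_eq_true, Nat.beq_eq] at hr
            have h2 := S.runMoves_sound hacc ms t.dropLast i u [] _ (hA i u) q.1 q.2.1 q.2.2 hq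
            have hsplit : t = t.dropLast ++ [none] := (List.dropLast_append_getLast? none hlast).symm
            have ht' : S.tokProd t.dropLast * S.z = V := by
              rw [← ht]
              conv_rhs => rw [hsplit]
              simp [tokProd]
            have h3 := (h2.mul_right S.z).symm (vval_comm S.c q.2.2)
            rw [mul_assoc _ (S.tokProd t.dropLast), ht'] at h3
            have h4 := h3.shift hV rfl
            simp only [Rel, he, cond_true, hj, S.el_eq hv, ← hr.1.1, S.el_eq hr.1.2, vval_congr S.c hr.2,
              vval_sub, ← hVdef]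
            rwa [hV] at h4
        | false =>
          simp only [he, cond_false, Bool.and_eq_true, Nat.beq_eq] at hf
          obtain ⟨⟨hi, hw⟩, hr⟩ := hf
          cases hq : runMoves KD acc ms t i u [] with
          | none => simp [hq] at hr
          | some q =>
            simp only [hq, Bool.and_eq_true, Nat.beq_eq] at hr
            have h2 := S.runMoves_sound hacc ms t i u [] _ (hA i u) q.1 q.2.1 q.2.2 hq
            rw [ht] at h2
            have h3 : Eqv S (g i * S.el u) (g q.1 * S.el q.2.1) (vval S.c q.2.2 * V⁻¹) := by
              show g i * S.el u * (g q.1 * S.el q.2.1)⁻¹ * (vval S.c q.2.2 * V⁻¹)⁻¹ ∈ S.π.range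
              unfold Eqv at h2
              convert h2 using 1
              rw [mul_inv_rev (vval S.c q.2.2), inv_inv, mul_assoc _ V (g q.1 * S.el q.2.1)⁻¹,
                ← hV (g q.1 * S.el q.2.1)⁻¹]
              group
            simp only [Rel, he, cond_false, mul_one, hi, S.el_eq hw, ← hr.1.1, S.el_eq hr.1.2,
              vval_congr S.c hr.2, vval_sub, ← hVdef]
            exact h3
    | cmp i u ms ms' =>
      simp only [checkFact, Bool.and_eq_true, Bool.not_eq_true'] at hf
      obtain ⟨he, hr⟩ := hf
      cases hq : runMoves KD acc ms [none] i u [] with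
      | none => simp [hq] at hr
      | some q =>
        cases hq' : runMoves KD acc ms' [none] i u [] with
        | none => simp [hq, hq'] at hr
        | some q' =>
          simp only [hq, hq', Bool.and_eq_true, Nat.beq_eq] at hr
          obtain ⟨⟨⟨⟨h1, h2⟩, h3⟩, h4⟩, h5⟩ := hr
          have e1 := S.runMoves_sound hacc ms [none] i u [] _ (hA i u) q.1 q.2.1 q.2.2 hq
          have e2 := S.runMoves_sound hacc ms' [none] i u [] _ (hA i u) q'.1 q'.2.1 q'.2.2 hq'
          have hqi : ∀ y, y * (vval S.c q.2.2)⁻¹ = (vval S.c q.2.2)⁻¹ * y := fun y =>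
            (Commute.inv_right (vval_comm S.c q.2.2 y) : Commute y (vval S.c q.2.2)⁻¹)
          have h6 := (e1.symm (vval_comm S.c q.2.2)).trans hqi e2
          simp only [Rel, he, cond_false, mul_one, ← h1, ← h3, S.el_eq h2, S.el_eq h4,
            vval_congr S.c h5, vval_sub]
          rwa [← hqi] at h6

end Setting

end Cfsg.Agent.Lib.CosetEnum.LyP.Mult
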